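import Mathlib
import Cfsg.Agent.Lib.Helper15.BG139Defs

/-!
# BG Lemma 13.10 ("Lemma D": a maximal subgroup `M` whose `τ₃`-part is NOT regular on `M_σ`):
shared definitions for the keystone pack K-LemmaD2 (keystones 143101-143114)

Spec of the leaves: `notes/LemmaD2_keystones.lean.txt`.  Paper: msgs 3921 (helper71), 4096 (helper2),
4138 (helper83), 4170 (helper15), `notes/BG14_2_regular_helper36.md` (T-X, (P4), (A)).
`CP M X = sigmaCore M ⊓ centralizer X` is from `Helper31.BG134Defs`.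
-/

set_option autoImplicit false

namespace Cfsg.Agent.Lib.Helper02.BG1310

open Cfsg Cfsg.Agent.Lib.Helper55 Cfsg.Agent.Lib.Helper31.BG134 Cfsg.Agent.Lib.Helper15.BG139

variable {G : Type*} [Group G] [Finite G]

/-- **T-X** (the clause `X ≤ M*_σ` of BG 14.2): `X ≤ M` of prime order `p ∈ τ₁(M) ∪ τ₃(M)` with
`C_{M_σ}(X) ≠ 1`, `H` maximal over `N_G(X)`: then `p ∈ σ(H)`. -/
def HTX (G : Type*) [Group G] [Finite G] : Prop :=
  ∀ (M H X : Subgroup G) (p : ℕ), IsCoatom M → IsCoatom H → (p ∈ tau1 M ∨ p ∈ tau3 M) →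
    X ≤ M → Nat.card X = p → CP M X ≠ ⊥ → Subgroup.normalizer (X : Set G) ≤ H → p ∈ sigma H

/-- **(P4)**: in the situation of T-X every subgroup `Y ≤ C_{M_σ}(X)` of prime order `y` has
`y ∈ τ₁(H) ∪ τ₃(H)`. -/
def HP4 (G : Type*) [Group G] [Finite G] : Prop :=
  ∀ (M H X Y : Subgroup G) (p : ℕ), IsCoatom M → IsCoatom H → (p ∈ tau1 M ∨ p ∈ tau3 M) →
    X ≤ M → Nat.card X = p → Subgroup.normalizer (X : Set G) ≤ H → Y ≤ CP M X →
    (Nat.card Y).Prime → (Nat.card Y ∈ tau1 H ∨ Nat.card Y ∈ tau3 H)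

/-- **(A)**: `X ≤ M` of prime order `p ∈ τ₁(M) ∪ τ₃(M)`, `Y ≤ C_{M_σ}(X)` of prime order: `M` is the
only maximal subgroup containing `N_G(Y)`. -/
def HA (G : Type*) [Group G] [Finite G] : Prop :=
  ∀ (M X Y : Subgroup G) (p : ℕ), IsCoatom M → (p ∈ tau1 M ∨ p ∈ tau3 M) →
    X ≤ M → Nat.card X = p → Y ≤ CP M X → (Nat.card Y).Prime →
    ∀ L : Subgroup G, IsCoatom L → Subgroup.normalizer (Y : Set G) ≤ L → L = M

/-- **(C)** (the only consequence of BG 13.7 that is needed; it also follows from T-X): `X ≤ E` of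
prime order `p ∈ τ₁(M)` with `C_{M_σ}(X) ≠ 1` commutes with no subgroup of `E` of prime order
`r ∈ τ₂(M)`. -/
def HC (G : Type*) [Group G] [Finite G] : Prop :=
  ∀ (M E X R : Subgroup G) (p : ℕ), IsCoatom M → IsComplIn E (sigmaCore M) M → p ∈ tau1 M →
    X ≤ E → Nat.card X = p → CP M X ≠ ⊥ → R ≤ E ⊓ Subgroup.centralizer (X : Set G) →
    (Nat.card R).Prime → Nat.card R ∉ tau2 M

/-- the NONREGULAR configuration: a complement `E` of `M_σ` with Hall `τ₁(M)`- and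
`τ₃(M)`-subgroups `E₁`, `E₃`, and a subgroup `S₀ ≤ E₃` of prime order with `C_{M_σ}(S₀) ≠ 1`. -/
structure NR (M E E₁ E₃ : Subgroup G) : Prop where
  hG : IsMinSimpleOddOrder G
  hM : IsCoatom M
  hE : IsComplIn E (sigmaCore M) M
  hE₁ : IsPiHallOf (tau1 M) E₁ E
  hE₃ : IsPiHallOf (tau3 M) E₃ E
  hnr : ∃ S₀ : Subgroup G, S₀ ≤ E₃ ∧ (Nat.card S₀).Prime ∧ CP M S₀ ≠ ⊥

/-- case (I) of the dichotomy (D2): every subgroup of prime order of `E₁` centralizes `E₃`, and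
`C₁ := C_{M_σ}(E₁) ≤ C₃ := C_{M_σ}(E₃)`. -/
def TypeI (M E₁ E₃ : Subgroup G) : Prop :=
  (∀ P : Subgroup G, P ≤ E₁ → (Nat.card P).Prime → E₃ ≤ Subgroup.centralizer (P : Set G)) ∧
    CP M E₁ ≤ CP M E₃

/-- case (II) of the dichotomy (D2): `E = E₃ ⋊ E₁` is a Frobenius group with `|E₁|` prime,
`C₁ ⊄ C₃` and `N_M(E₁) = C₁ × E₁`. -/
def TypeII (M E₁ E₃ : Subgroup G) : Prop :=
  (Nat.card E₁).Prime ∧ E₃ ⊓ Subgroup.centralizer (E₁ : Set G) = ⊥ ∧ ¬ CP M E₁ ≤ CP M E₃ ∧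
    M ⊓ Subgroup.normalizer (E₁ : Set G) ≤ CP M E₁ ⊔ E₁

/-- the structure of a nonregular maximal subgroup = output of helper71's pack
(R1) + setup + (D1) + (D2). -/
structure NRS (M E E₁ E₃ : Subgroup G) : Prop where
  nr : NR M E E₁ E₃
  hτ2 : ∀ q : ℕ, q ∉ tau2 M
  hE₁c : IsCyclic E₁
  hE₃c : IsCyclic E₃
  hE₃n : E ≤ Subgroup.normalizer (E₃ : Set G)
  hE₃d : E₃ ≤ ⁅E, E⁆
  hfac : ∀ x ∈ E, ∃ a ∈ E₃, ∃ b ∈ E₁, x = a * b
  hC₃ : ∀ Y : Subgroup G, Y ≤ E₃ → Y ≠ ⊥ → CP M Y = CP M E₃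
  hC₁ : ∀ Y : Subgroup G, Y ≤ E₁ → Y ≠ ⊥ → CP M Y = CP M E₁
  hC₁ne : CP M E₁ ≠ ⊥
  hH : ∀ S₀ H : Subgroup G, S₀ ≤ E₃ → (Nat.card S₀).Prime → IsCoatom H →
    Subgroup.normalizer (S₀ : Set G) ≤ H →
      E ≤ H ∧ (∀ g : G, cj g M ≠ H) ∧ sigmaCore M ⊓ H = CP M E₃
  hdich : TypeI M E₁ E₃ ∨ TypeII M E₁ E₃

/-- helper71's pack for ALL maximal subgroups -/
def HNRS (G : Type*) [Group G] [Finite G] : Prop :=
  ∀ M E E₁ E₃ : Subgroup G, NR M E E₁ E₃ → NRS M E E₁ E₃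

/-- **Lemma D = BG 13.10** in the form used by the S1430/S1431 glue (helper15, msg 4170). -/
def HD (G : Type*) [Group G] [Finite G] : Prop :=
  ∀ M : Subgroup G, IsCoatom M → ¬ (∀ p : ℕ, p ∈ kappa M → p ∈ tau1 M) →
    ∀ E : Subgroup G, IsComplIn E (sigmaCore M) M →
      (∀ q : ℕ, q.Prime → q ∣ Nat.card E → q ∈ kappa M) ∧
      (∀ x ∈ E, x ≠ 1 → sigmaCore M ⊓ Subgroup.centralizer ({x} : Set G) =
        sigmaCore M ⊓ Subgroup.centralizer (E : Set G)) ∧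
      (∀ Q : Subgroup G, Q ≤ E → (Nat.card Q).Prime → E ≤ Subgroup.normalizer (Q : Set G)) ∧
      (∀ q : ℕ, q ∉ tau2 M) ∧ sigmaCore M ⊓ Subgroup.centralizer (E : Set G) ≠ ⊥

end Cfsg.Agent.Lib.Helper02.BG1310
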