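import Mathlib
import Cfsg.Agent.Lib.Helper57.QuadPair

set_option autoImplicit false

/-!
# From a quadratic pair acting on an elementary abelian `p`-group to `SL₂(K)`

`H` acts (via `φ : H →* MulAut V`) faithfully on a finite abelian group `V` of exponent `p`,
`H = ⟨α, β⟩` with `α, β` acting quadratically and `H` not a `p`-group.  Then there are a finite field
`K` of characteristic `p` and a homomorphism `ψ : H →* SL₂(K)` whose image is not a `p`-group.

The linear representation used is the contragredient one on `W = Hom(V, K)` (additive maps), which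
needs no choice of basis; then `Cfsg.Agent.Lib.Helper57.QuadPair.main` (= S0592) applies.
-/

namespace Cfsg.Agent.Lib.Helper02.QuadTransport

variable {H : Type*} [Group H] {V : Type*} [CommGroup V]

/-- the contragredient representation on additive maps `V → K` -/
def rho (K : Type*) [Field K] (φ : H →* MulAut V) :
    H →* ((Additive V →+ K) ≃ₗ[K] (Additive V →+ K)) where
  toFun g :=
    { toFun := fun f => f.comp (MulEquiv.toAdditive (φ g⁻¹)).toAddMonoidHom
      invFun := fun f => f.comp (MulEquiv.toAdditive (φ g)).toAddMonoidHom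
      map_add' := fun f₁ f₂ => DFunLike.ext _ _ fun v => rfl
      map_smul' := fun c f => DFunLike.ext _ _ fun v => rfl
      left_inv := fun f => DFunLike.ext _ _ fun v => by
        show f (Additive.ofMul (φ g⁻¹ (φ g (Additive.toMul v)))) = f v
        rw [← MulAut.mul_apply, ← map_mul, inv_mul_cancel, map_one]
        rfl
      right_inv := fun f => DFunLike.ext _ _ fun v => by
        show f (Additive.ofMul (φ g (φ g⁻¹ (Additive.toMul v)))) = f v
        rw [← MulAut.mul_apply, ← map_mul, mul_inv_cancel, map_one]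
        rfl }
  map_one' := by
    apply LinearEquiv.ext
    intro f
    apply DFunLike.ext
    intro v
    show f (Additive.ofMul (φ (1 : H)⁻¹ (Additive.toMul v))) = f v
    rw [inv_one, map_one]
    rfl
  map_mul' g₁ g₂ := by
    apply LinearEquiv.ext
    intro f
    apply DFunLike.ext
    intro v
    show f (Additive.ofMul (φ (g₁ * g₂)⁻¹ (Additive.toMul v))) =
      f (Additive.ofMul (φ g₂⁻¹ (Additive.toMul (Additive.ofMul (φ g₁⁻¹ (Additive.toMul v))))))
    rw [mul_inv_rev, map_mul]
    rfl

theorem rho_apply (K : Type*) [Field K] (φ : H →* MulAut V) (g : H) (f : Additive V →+ K)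
    (v : Additive V) : rho K φ g f v = f (Additive.ofMul (φ g⁻¹ (Additive.toMul v))) := rfl

theorem sep_of_module {p : ℕ} [Fact p.Prime] (A : Type*) [AddCommGroup A] [Module (ZMod p) A]
    (K : Type*) [Field K] [Algebra (ZMod p) K] {v : A} (hv : v ≠ 0) :
    ∃ f : A →+ K, f v ≠ 0 := by
  have key : (∀ ψ : Module.Dual (ZMod p) A, ψ v = 0) ↔ v = 0 :=
    Module.forall_dual_apply_eq_zero_iff (ZMod p) v
  have h1 := key.not.mpr hv
  push Not at h1
  obtain ⟨ψ, hψ⟩ := h1
  refine ⟨(algebraMap (ZMod p) K).toAddMonoidHom.comp ψ.toAddMonoidHom, ?_⟩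
  show algebraMap (ZMod p) K (ψ v) ≠ 0
  rw [Ne, map_eq_zero_iff _ (algebraMap (ZMod p) K).injective]
  exact hψ

/-- additive maps to `K` separate the points of a group of exponent `p` -/
theorem exists_addHom_ne_zero {p : ℕ} [Fact p.Prime] (K : Type*) [Field K] [CharP K p]
    (hV : ∀ v : V, v ^ p = 1) {v : Additive V} (hv : v ≠ 0) :
    ∃ f : Additive V →+ K, f v ≠ 0 := by
  have hexp : ∀ x : Additive V, p • x = 0 := fun x => by
    show Additive.ofMul ((Additive.toMul x) ^ p) = 0
    rw [hV]; rfl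
  letI inst : Module (ZMod p) (Additive V) := AddCommGroup.zmodModule hexp
  letI : Algebra (ZMod p) K := ZMod.algebra K p
  exact sep_of_module (p := p) (Additive V) K hv

theorem rho_injective {p : ℕ} [Fact p.Prime] (K : Type*) [Field K] [CharP K p]
    (hV : ∀ v : V, v ^ p = 1) (φ : H →* MulAut V) (hφ : Function.Injective φ) :
    Function.Injective (rho K φ) := by
  rw [injective_iff_map_eq_one]
  intro g hg
  have h1 : φ g⁻¹ = 1 := by
    ext v
    by_contra hne
    have hne' : Additive.ofMul (φ g⁻¹ v) - Additive.ofMul v ≠ 0 := by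
      rw [sub_ne_zero]
      exact fun h => hne (Additive.ofMul.injective h)
    obtain ⟨f, hf⟩ := exists_addHom_ne_zero (p := p) K hV hne'
    apply hf
    rw [map_sub, sub_eq_zero]
    have := rho_apply K φ g f (Additive.ofMul v)
    rw [hg] at this
    exact this.symm
  have h2 : g⁻¹ = 1 := hφ (by rw [h1, map_one])
  exact inv_eq_one.mp h2

/-- quadratic action is inherited by the contragredient representation -/
theorem rho_quadratic (K : Type*) [Field K] (φ : H →* MulAut V) (α : H)
    (hα : ∀ v : V, φ α (φ α v / v) = φ α v / v) (f : Additive V →+ K) :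
    rho K φ α (rho K φ α f - f) = rho K φ α f - f := by
  -- first: the same identity for α⁻¹
  have hinv : ∀ v : V, φ α⁻¹ (φ α⁻¹ v / v) = φ α⁻¹ v / v := by
    intro v
    -- apply hα to w = φ α⁻¹ (φ α⁻¹ v): then φ α w = φ α⁻¹ v
    have hc : ∀ x : V, φ α (φ α⁻¹ x) = x := by
      intro x
      rw [← MulAut.mul_apply, ← map_mul, mul_inv_cancel, map_one]; rfl
    have h1 := hα (φ α⁻¹ (φ α⁻¹ v))
    rw [hc] at h1
    -- h1 : φ α (φ α⁻¹ v / φ α⁻¹ (φ α⁻¹ v)) = φ α⁻¹ v / φ α⁻¹ (φ α⁻¹ v)
    rw [map_div, hc, hc] at h1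
    -- h1 : v / φ α⁻¹ v = φ α⁻¹ v / φ α⁻¹ (φ α⁻¹ v)
    rw [map_div]
    -- goal: φ α⁻¹ (φ α⁻¹ v) / φ α⁻¹ v = φ α⁻¹ v / v
    have h2 := congrArg (fun x => x⁻¹) h1
    simp only [inv_div] at h2
    exact h2.symm
  apply DFunLike.ext
  intro v
  simp only [AddMonoidHom.sub_apply, rho_apply]
  have h3 := hinv (Additive.toMul v)
  rw [map_div] at h3
  -- h3 : φ α⁻¹ (φ α⁻¹ v) / φ α⁻¹ v = φ α⁻¹ v / v  (multiplicatively)
  have h4 : Additive.ofMul (φ α⁻¹ (φ α⁻¹ (Additive.toMul v))) -
      Additive.ofMul (φ α⁻¹ (Additive.toMul v))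
      = Additive.ofMul (φ α⁻¹ (Additive.toMul v)) - Additive.ofMul (Additive.toMul v) :=
    congrArg Additive.ofMul h3
  have h5 := congrArg f h4
  rw [map_sub, map_sub] at h5
  exact h5

/-- **Transport theorem (abstract form).** -/
theorem exists_hom_SL2 {p : ℕ} [Fact p.Prime] [Finite H] [Finite V]
    (hV : ∀ v : V, v ^ p = 1) (φ : H →* MulAut V) (hφ : Function.Injective φ)
    (α β : H) (hgen : Subgroup.closure {α, β} = ⊤)
    (hα : ∀ v : V, φ α (φ α v / v) = φ α v / v) (hβ : ∀ v : V, φ β (φ β v / v) = φ β v / v)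
    (hnp : ¬ IsPGroup p H) :
    ∃ (K : Type) (_ : Field K) (_ : Fintype K) (_ : CharP K p)
      (ψ : H →* Matrix.SpecialLinearGroup (Fin 2) K), ¬ IsPGroup p ψ.range := by
  have hp : p.Prime := Fact.out
  -- the order of αβ
  have hm0 : orderOf (α * β) ≠ 0 := (orderOf_pos (α * β)).ne'
  obtain ⟨e, k, hk, hm⟩ := Nat.exists_eq_pow_mul_and_not_dvd hm0 p hp.ne_one
  have hk0 : k ≠ 0 := by
    rintro rfl
    rw [mul_zero] at hm
    exact hm0 hm
  have hcop : Nat.Coprime p k := (Nat.Prime.coprime_iff_not_dvd hp).mpr hk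
  set n := k.totient with hn
  have hn0 : n ≠ 0 := (Nat.totient_pos.mpr (Nat.pos_of_ne_zero hk0)).ne'
  let K := GaloisField p n
  letI : Fintype K := Fintype.ofFinite K
  have hcardK : Fintype.card K = p ^ n := by
    rw [← Nat.card_eq_fintype_card]; exact GaloisField.card p n hn0
  have hkdvd : k ∣ Fintype.card K - 1 := by
    rw [hcardK]
    have := Nat.ModEq.pow_totient hcop
    exact (Nat.modEq_iff_dvd' (Nat.one_le_pow _ _ hp.pos)).mp this.symm
  refine ⟨K, inferInstance, inferInstance, inferInstance, ?_⟩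
  haveI : Finite (Additive V →+ K) :=
    Finite.of_injective (fun f => (f : Additive V → K)) DFunLike.coe_injective
  have hinj := rho_injective (p := p) K hV φ hφ
  have hnp' : ∃ γ : H, ∀ m : ℕ, (rho K φ γ) ^ (p ^ m) ≠ 1 := by
    by_contra hcon
    push Not at hcon
    apply hnp
    intro γ
    obtain ⟨m, hm⟩ := hcon γ
    refine ⟨m, ?_⟩
    apply hinj
    rw [map_pow, hm, map_one]
  exact Cfsg.Agent.Lib.Helper57.QuadPair.main (K := K) (p := p) α β hgen _ (Additive V →+ K)
    (rho K φ) rfl (rho_quadratic K φ α hα) (rho_quadratic K φ β hβ)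
    ⟨e, k, by rw [← map_pow, ← hm, pow_orderOf_eq_one, map_one], hkdvd⟩ hnp'

end Cfsg.Agent.Lib.Helper02.QuadTransport
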