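import Mathlib
import Cfsg.Agent.Lib.Helper99.TwoByTwo
import Cfsg.Agent.Lib.Helper60.SL2

set_option autoImplicit false

/-!
# 2 × 2 matrix facts used for the analysis of subgroups of `SL₂(K)` generated by `p`-elements
(keystone 3: quadratic action / `p`-stability).
-/

namespace Cfsg.Agent.Lib.Helper02.SL2

open Matrix

variable {K : Type*} [Field K]

/-- Cayley–Hamilton for determinant one. -/
lemma sl_mul_self (A : SpecialLinearGroup (Fin 2) K) :
    (A : Matrix (Fin 2) (Fin 2) K) * (A : Matrix (Fin 2) (Fin 2) K) =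
      (A : Matrix (Fin 2) (Fin 2) K).trace • (A : Matrix (Fin 2) (Fin 2) K) -
        (1 : Matrix (Fin 2) (Fin 2) K) := by
  have h := Cfsg.Agent.Lib.Helper99.sq_eq_trace_smul_sub_det (A : Matrix (Fin 2) (Fin 2) K)
  rw [A.det_coe, one_smul] at h
  exact h

/-- a square-zero `2 × 2` matrix has trace zero and determinant zero, so `det (c + M) = c²`. -/
lemma det_add_sq_zero (M : Matrix (Fin 2) (Fin 2) K) (hM : M * M = 0) (c : K) :
    (c • (1 : Matrix (Fin 2) (Fin 2) K) + M).det = c * c := by
  have e00 := congrFun (congrFun hM 0) 0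
  have e01 := congrFun (congrFun hM 0) 1
  have e10 := congrFun (congrFun hM 1) 0
  have e11 := congrFun (congrFun hM 1) 1
  simp only [Matrix.mul_apply, Fin.sum_univ_two, Matrix.zero_apply] at e00 e01 e10 e11
  have hdet : M 0 0 * M 1 1 - M 0 1 * M 1 0 = 0 := by
    have h1 : (M * M).det = 0 := by rw [hM]; simp
    rw [Matrix.det_mul, Matrix.det_fin_two] at h1
    exact mul_self_eq_zero.mp h1
  have htr : M 0 0 + M 1 1 = 0 := by
    have : (M 0 0 + M 1 1) * (M 0 0 + M 1 1) = 0 := by
      linear_combination e00 + e11 + 2 * hdet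
    exact mul_self_eq_zero.mp this
  rw [Matrix.det_fin_two]
  simp only [Matrix.add_apply, Matrix.smul_apply, Matrix.one_apply_eq, smul_eq_mul, mul_one,
    Matrix.one_apply_ne (show (0 : Fin 2) ≠ 1 by decide),
    Matrix.one_apply_ne (show (1 : Fin 2) ≠ 0 by decide), mul_zero, zero_add]
  linear_combination c * htr + hdet

/-- determinant of `α + β y` for `det y = 1` -/
lemma det_add_smul (y : Matrix (Fin 2) (Fin 2) K) (hy : y.det = 1) (α β : K) :
    (α • (1 : Matrix (Fin 2) (Fin 2) K) + β • y).det = α * α + α * β * y.trace + β * β := by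
  rw [Matrix.det_fin_two] at hy
  rw [Matrix.det_fin_two, Matrix.trace_fin_two]
  simp only [Matrix.add_apply, Matrix.smul_apply, Matrix.one_apply_eq, smul_eq_mul, mul_one,
    Matrix.one_apply_ne (show (0 : Fin 2) ≠ 1 by decide),
    Matrix.one_apply_ne (show (1 : Fin 2) ≠ 0 by decide), mul_zero, zero_add]
  linear_combination (β * β) * hy

lemma trace_add_smul (y : Matrix (Fin 2) (Fin 2) K) (α β : K) :
    (α • (1 : Matrix (Fin 2) (Fin 2) K) + β • y).trace = 2 * α + β * y.trace := by
  rw [Matrix.trace_fin_two, Matrix.trace_fin_two]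
  simp only [Matrix.add_apply, Matrix.smul_apply, Matrix.one_apply_eq, smul_eq_mul, mul_one]
  ring

/-- an element `y` with `(y - c)² = 0`, `c² = 1`, in characteristic `p`, has `y ^ (2p) = 1` -/
lemma pow_two_mul_char_eq_one (p : ℕ) [Fact p.Prime] [CharP K p]
    (y : Matrix (Fin 2) (Fin 2) K) (c : K) (hc : c * c = 1)
    (hy : (y - c • (1 : Matrix (Fin 2) (Fin 2) K)) * (y - c • (1 : Matrix (Fin 2) (Fin 2) K)) = 0) :
    y ^ (2 * p) = 1 := by
  have hp : p.Prime := Fact.out
  set N : Matrix (Fin 2) (Fin 2) K := c • (y - c • (1 : Matrix (Fin 2) (Fin 2) K)) with hN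
  have hN2 : N * N = 0 := by
    rw [hN, Matrix.smul_mul, Matrix.mul_smul, hy, smul_zero, smul_zero]
  have hw : c • y = 1 + N := by
    rw [hN, smul_sub, smul_smul, hc, one_smul]
    abel
  have hNp : N ^ p = 0 := by
    obtain ⟨k, hk⟩ : ∃ k, p = 2 + k := ⟨p - 2, by have := hp.two_le; omega⟩
    rw [hk, pow_add, pow_two, hN2, zero_mul]
  have hwp : (c • y) ^ p = 1 := by
    rw [hw, add_pow_char_of_commute p (Commute.one_left N), one_pow, hNp, add_zero]
  have hy' : y = c • (c • y) := by rw [smul_smul, hc, one_smul]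
  have hyp : y ^ p = (c ^ p) • (1 : Matrix (Fin 2) (Fin 2) K) := by
    conv_lhs => rw [hy']
    rw [smul_pow, hwp]
  rw [mul_comm, pow_mul, hyp, smul_pow, one_pow, ← pow_mul, mul_comm, pow_mul]
  have : c ^ 2 = 1 := by rw [pow_two]; exact hc
  rw [this, one_pow, one_smul]

/-- a scalar matrix of determinant one is `±1` -/
lemma scalar_eq_one_or_neg_one (A : SpecialLinearGroup (Fin 2) K) (c : K)
    (h : (A : Matrix (Fin 2) (Fin 2) K) = c • (1 : Matrix (Fin 2) (Fin 2) K)) :
    A = 1 ∨ A = -1 := by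
  have hdet := A.det_coe
  rw [h, Matrix.det_smul, Matrix.det_one, mul_one, Fintype.card_fin] at hdet
  have hc : (c - 1) * (c + 1) = 0 := by linear_combination hdet
  rcases mul_eq_zero.mp hc with h1 | h1
  · left
    apply Matrix.SpecialLinearGroup.ext
    intro i j
    rw [h, sub_eq_zero.mp h1, one_smul, Matrix.SpecialLinearGroup.coe_one]
  · right
    apply Matrix.SpecialLinearGroup.ext
    intro i j
    rw [h, eq_neg_of_add_eq_zero_left h1, SpecialLinearGroup.coe_neg, Matrix.SpecialLinearGroup.coe_one]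
    simp

/-- a unipotent element (`z ^ p = 1` in characteristic `p`) satisfies `(z - 1)² = 0` -/
lemma sub_one_mul_self_of_pow_char (p : ℕ) [Fact p.Prime] [CharP K p]
    (z : Matrix (Fin 2) (Fin 2) K) (hz : z ^ p = 1) :
    (z - 1) * (z - 1) = 0 := by
  have h1 : (z - 1) ^ p = 0 := by
    rw [sub_pow_char_of_commute p (Commute.one_right z), hz, one_pow, sub_self]
  have hnil : IsNilpotent (z - 1) := ⟨p, h1⟩
  -- nilpotent 2×2 ⇒ square zero, via Cayley–Hamilton
  have hdet : (z - 1).det = 0 := by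
    have : ((z - 1) ^ p).det = 0 := by rw [h1]; simp
    rw [Matrix.det_pow] at this
    exact pow_eq_zero_iff (Fact.out : p.Prime).ne_zero |>.mp this
  have hCH := Cfsg.Agent.Lib.Helper99.sq_eq_trace_smul_sub_det (z - 1)
  rw [hdet, zero_smul, sub_zero] at hCH
  -- (z-1)^2 = t (z-1); then (z-1)^p = t^(p-1) (z-1) = 0
  set N := z - 1 with hNdef
  set t := N.trace with ht
  by_cases ht0 : t = 0
  · rw [hCH, ht0, zero_smul]
  · have hpow : ∀ k : ℕ, N ^ (k + 1) = t ^ k • N := by
      intro k
      induction k with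
      | zero => simp
      | succ k ih =>
        rw [pow_succ, ih, Matrix.smul_mul, hCH, smul_smul, pow_succ]
    obtain ⟨k, hk⟩ : ∃ k, p = k + 1 := ⟨p - 1, by have := (Fact.out : p.Prime).one_lt; omega⟩
    rw [hk, hpow k] at h1
    have hN0 : N = 0 := by
      rcases smul_eq_zero.mp h1 with h | h
      · exact absurd h (pow_ne_zero k ht0)
      · exact h
    rw [hN0, mul_zero]

end Cfsg.Agent.Lib.Helper02.SL2
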