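import Mathlib
import Cfsg.Prelude.Def_Solvable
import Cfsg.Agent.S0035
import Cfsg.Agent.Lib.Helper02.SL2Mat
import Cfsg.Agent.Lib.Helper97.UniqueOrderP

set_option autoImplicit false

/-!
# Finite groups embedded in `SL₂(K)`, `char K = p` odd, generated by `p`-elements

* `isPGroup_of_odd_card` : such a group of odd order is a `p`-group (via Frobenius' theorem).
* `sylow_two_not_comm` : if it is not a `p`-group, its Sylow 2-subgroups are non-abelian.
-/

namespace Cfsg.Agent.Lib.Helper02.SL2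

open Matrix

variable {K : Type*} [Field K] {p : ℕ} [Fact p.Prime] [CharP K p]
variable {G : Type*} [Group G]

lemma two_ne_zero_of_char (hp2 : p ≠ 2) : (2 : K) ≠ 0 := by
  intro h
  have h2 : ((2 : ℕ) : K) = 0 := by exact_mod_cast h
  rw [CharP.cast_eq_zero_iff K p] at h2
  have hp : p.Prime := Fact.out
  exact hp2 ((Nat.prime_dvd_prime_iff_eq hp Nat.prime_two).mp h2)

section
variable (ι : G →* SpecialLinearGroup (Fin 2) K) (hι : Function.Injective ι)
include hι

omit [Fact p.Prime] [CharP K p] in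
lemma eq_of_mat_eq {x y : G} (h : ((ι x : Matrix.SpecialLinearGroup (Fin 2) K) : Matrix (Fin 2) (Fin 2) K) = ((ι y : Matrix.SpecialLinearGroup (Fin 2) K) : Matrix (Fin 2) (Fin 2) K)) : x = y := hι (Matrix.SpecialLinearGroup.ext _ _ (fun i j => by rw [h]))

omit [Fact p.Prime] [CharP K p] in
lemma nonscalar_of_ne_one [Finite G] (hodd : Odd (Nat.card G)) {g : G} (hg : g ≠ 1) (c : K) :
    ((ι g : Matrix.SpecialLinearGroup (Fin 2) K) : Matrix (Fin 2) (Fin 2) K) ≠ c • (1 : Matrix (Fin 2) (Fin 2) K) := by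
  intro h
  rcases scalar_eq_one_or_neg_one (ι g) c h with h1 | h1
  · exact hg (hι (by rw [h1, map_one]))
  · have h2 : g ^ 2 = 1 := by
      apply hι
      rw [map_pow, h1, map_one, neg_one_sq]
    have h3 : orderOf g ∣ 2 := orderOf_dvd_of_pow_eq_one h2
    have h4 : orderOf g ∣ Nat.card G := orderOf_dvd_natCard g
    have h5 : orderOf g = 1 := by
      rcases (Nat.dvd_prime Nat.prime_two).mp h3 with h | h
      · exact h
      · rw [h] at h4
        exact absurd (even_iff_two_dvd.mpr h4) (Nat.not_even_iff_odd.mpr hodd)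
    exact hg (orderOf_eq_one_iff.mp h5)

omit [Fact p.Prime] [CharP K p] in
/-- centralizers of nontrivial elements are abelian (odd order case) -/
lemma commute_of_commute [Finite G] (hodd : Odd (Nat.card G)) {g x y : G} (hg : g ≠ 1)
    (hx : Commute x g) (hy : Commute y g) : Commute x y := by
  have hns := nonscalar_of_ne_one ι hι hodd hg
  have hx' : ((ι x : Matrix.SpecialLinearGroup (Fin 2) K) : Matrix (Fin 2) (Fin 2) K) * ((ι g : Matrix.SpecialLinearGroup (Fin 2) K) : Matrix (Fin 2) (Fin 2) K) = ((ι g : Matrix.SpecialLinearGroup (Fin 2) K) : Matrix (Fin 2) (Fin 2) K) * ((ι x : Matrix.SpecialLinearGroup (Fin 2) K) : Matrix (Fin 2) (Fin 2) K) := by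
    rw [← Matrix.SpecialLinearGroup.coe_mul, ← Matrix.SpecialLinearGroup.coe_mul, ← map_mul, ← map_mul, hx.eq]
  have hy' : ((ι y : Matrix.SpecialLinearGroup (Fin 2) K) : Matrix (Fin 2) (Fin 2) K) * ((ι g : Matrix.SpecialLinearGroup (Fin 2) K) : Matrix (Fin 2) (Fin 2) K) = ((ι g : Matrix.SpecialLinearGroup (Fin 2) K) : Matrix (Fin 2) (Fin 2) K) * ((ι y : Matrix.SpecialLinearGroup (Fin 2) K) : Matrix (Fin 2) (Fin 2) K) := by
    rw [← Matrix.SpecialLinearGroup.coe_mul, ← Matrix.SpecialLinearGroup.coe_mul, ← map_mul, ← map_mul, hy.eq]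
  obtain ⟨a, b, hab⟩ := Cfsg.Agent.Lib.Helper99.exists_eq_add_smul_of_commute hns hx'
  obtain ⟨a', b', hab'⟩ := Cfsg.Agent.Lib.Helper99.exists_eq_add_smul_of_commute hns hy'
  apply eq_of_mat_eq ι hι
  rw [map_mul, map_mul, Matrix.SpecialLinearGroup.coe_mul, Matrix.SpecialLinearGroup.coe_mul, hab, hab']
  simp only [Matrix.add_mul, Matrix.mul_add, Matrix.smul_mul, Matrix.mul_smul, Matrix.one_mul,
    Matrix.mul_one, smul_add, smul_smul]
  rw [mul_comm a' a, mul_comm b' b, mul_comm b' a, mul_comm a' b]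
  abel

/-- a nontrivial element with `u ^ p = 1` is non-scalar -/
lemma nonscalar_of_pow_char (hp2 : p ≠ 2) {u : G} (hu : u ^ p = 1) (hu1 : u ≠ 1) (c : K) :
    ((ι u : Matrix.SpecialLinearGroup (Fin 2) K) : Matrix (Fin 2) (Fin 2) K) ≠ c • (1 : Matrix (Fin 2) (Fin 2) K) := by
  intro h
  rcases scalar_eq_one_or_neg_one (ι u) c h with h1 | h1
  · exact hu1 (hι (by rw [h1, map_one]))
  · have hp : p.Prime := Fact.out
    have hodd : Odd p := hp.odd_of_ne_two hp2
    have h2 : (ι u) ^ p = 1 := by rw [← map_pow, hu, map_one]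
    rw [h1, hodd.neg_one_pow] at h2
    have h3 : ((-1 : SpecialLinearGroup (Fin 2) K) : Matrix (Fin 2) (Fin 2) K) 0 0 = 1 := by
      rw [h2]; simp
    simp only [Matrix.SpecialLinearGroup.coe_neg, Matrix.SpecialLinearGroup.coe_one, Matrix.neg_apply,
      Matrix.one_apply_eq] at h3
    have h4 : (2 : K) = 0 := by linear_combination (-1 : K) * h3
    exact two_ne_zero_of_char (K := K) hp2 h4

/-- anything commuting with a nontrivial unipotent element has order dividing `2p` -/
lemma pow_eq_one_of_commute_unip (hp2 : p ≠ 2) {u s : G} (hu : u ^ p = 1) (hu1 : u ≠ 1)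
    (hs : Commute s u) : s ^ (2 * p) = 1 := by
  have hns := nonscalar_of_pow_char ι hι hp2 hu hu1
  have hs' : ((ι s : Matrix.SpecialLinearGroup (Fin 2) K) : Matrix (Fin 2) (Fin 2) K) * ((ι u : Matrix.SpecialLinearGroup (Fin 2) K) : Matrix (Fin 2) (Fin 2) K) = ((ι u : Matrix.SpecialLinearGroup (Fin 2) K) : Matrix (Fin 2) (Fin 2) K) * ((ι s : Matrix.SpecialLinearGroup (Fin 2) K) : Matrix (Fin 2) (Fin 2) K) := by
    rw [← Matrix.SpecialLinearGroup.coe_mul, ← Matrix.SpecialLinearGroup.coe_mul, ← map_mul, ← map_mul, hs.eq]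
  obtain ⟨a, b, hab⟩ := Cfsg.Agent.Lib.Helper99.exists_eq_add_smul_of_commute hns hs'
  have hz : ((ι u : Matrix.SpecialLinearGroup (Fin 2) K) : Matrix (Fin 2) (Fin 2) K) ^ p = 1 := by
    rw [← Matrix.SpecialLinearGroup.coe_pow, ← map_pow, hu, map_one]; rfl
  have hN := sub_one_mul_self_of_pow_char p ((ι u : Matrix.SpecialLinearGroup (Fin 2) K) : Matrix (Fin 2) (Fin 2) K) hz
  set N := ((ι u : Matrix.SpecialLinearGroup (Fin 2) K) : Matrix (Fin 2) (Fin 2) K) - 1 with hNdef
  have hy : ((ι s : Matrix.SpecialLinearGroup (Fin 2) K) : Matrix (Fin 2) (Fin 2) K) = (a + b) • (1 : Matrix (Fin 2) (Fin 2) K) + b • N := by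
    rw [hab, hNdef, smul_sub, add_smul]; abel
  have hM : (b • N) * (b • N) = 0 := by
    rw [Matrix.smul_mul, Matrix.mul_smul, hN, smul_zero, smul_zero]
  have hdet := det_add_sq_zero (b • N) hM (a + b)
  rw [← hy, (ι s).det_coe] at hdet
  have h1 : ((ι s : Matrix.SpecialLinearGroup (Fin 2) K) : Matrix (Fin 2) (Fin 2) K) ^ (2 * p) = 1 := by
    apply pow_two_mul_char_eq_one p ((ι s : Matrix.SpecialLinearGroup (Fin 2) K) : Matrix (Fin 2) (Fin 2) K) (a + b) hdet.symm
    have : ((ι s : Matrix.SpecialLinearGroup (Fin 2) K) : Matrix (Fin 2) (Fin 2) K) - (a + b) • (1 : Matrix (Fin 2) (Fin 2) K) = b • N := by rw [hy]; abel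
    rw [this, hM]
  apply hι
  apply Matrix.SpecialLinearGroup.ext
  intro i j
  rw [map_pow, Matrix.SpecialLinearGroup.coe_pow, h1, map_one, Matrix.SpecialLinearGroup.coe_one]

/-- elements not killed by `2p` are regular semisimple: `tr² ≠ 4` -/
lemma trace_sq_ne_four (h2 : (2 : K) ≠ 0) {s : G} (hs : s ^ (2 * p) ≠ 1) :
    ((ι s : Matrix.SpecialLinearGroup (Fin 2) K) : Matrix (Fin 2) (Fin 2) K).trace *
      ((ι s : Matrix.SpecialLinearGroup (Fin 2) K) : Matrix (Fin 2) (Fin 2) K).trace ≠ 4 := by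
  intro h4
  apply hs
  set τ := ((ι s : Matrix.SpecialLinearGroup (Fin 2) K) : Matrix (Fin 2) (Fin 2) K).trace with hτ
  set c : K := τ / 2 with hc
  have hc2 : c * c = 1 := by
    rw [hc]; field_simp; linear_combination h4
  have hτc : τ = 2 * c := by rw [hc]; field_simp
  have hCH := sl_mul_self (ι s)
  have h1 : ((ι s : Matrix.SpecialLinearGroup (Fin 2) K) : Matrix (Fin 2) (Fin 2) K) ^ (2 * p) = 1 := by
    apply pow_two_mul_char_eq_one p _ c hc2
    rw [sub_mul, mul_sub, mul_sub, hCH, ← hτ, hτc]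
    simp only [Matrix.smul_mul, Matrix.mul_smul, Matrix.mul_one, Matrix.one_mul, smul_smul, hc2,
      one_smul]
    rw [mul_smul, two_smul]
    abel
  apply hι
  apply Matrix.SpecialLinearGroup.ext
  intro i j
  rw [map_pow, Matrix.SpecialLinearGroup.coe_pow, h1, map_one, Matrix.SpecialLinearGroup.coe_one]

omit [Fact p.Prime] [CharP K p] in
/-- a conjugate of a regular semisimple `s` commuting with `s` is `s` or `s⁻¹` -/
lemma eq_or_eq_inv_of_commute_of_trace (h2 : (2 : K) ≠ 0) {s h : G}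
    (hs : ((ι s : Matrix.SpecialLinearGroup (Fin 2) K) : Matrix (Fin 2) (Fin 2) K).trace * ((ι s : Matrix.SpecialLinearGroup (Fin 2) K) : Matrix (Fin 2) (Fin 2) K).trace ≠ 4) (hc : Commute h s)
    (htr : ((ι h : Matrix.SpecialLinearGroup (Fin 2) K) : Matrix (Fin 2) (Fin 2) K).trace = ((ι s : Matrix.SpecialLinearGroup (Fin 2) K) : Matrix (Fin 2) (Fin 2) K).trace) : h = s ∨ h = s⁻¹ := by
  have hns : ∀ c : K, ((ι s : Matrix.SpecialLinearGroup (Fin 2) K) : Matrix (Fin 2) (Fin 2) K) ≠ c • (1 : Matrix (Fin 2) (Fin 2) K) := by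
    intro c hsc
    apply hs
    have hdet := (ι s).det_coe
    rw [hsc, Matrix.det_smul, Matrix.det_one, mul_one, Fintype.card_fin] at hdet
    rw [hsc, Matrix.trace_smul, Matrix.trace_one, Fintype.card_fin]
    simp only [smul_eq_mul, Nat.cast_ofNat]
    linear_combination 4 * hdet
  have hc' : ((ι h : Matrix.SpecialLinearGroup (Fin 2) K) : Matrix (Fin 2) (Fin 2) K) * ((ι s : Matrix.SpecialLinearGroup (Fin 2) K) : Matrix (Fin 2) (Fin 2) K) = ((ι s : Matrix.SpecialLinearGroup (Fin 2) K) : Matrix (Fin 2) (Fin 2) K) * ((ι h : Matrix.SpecialLinearGroup (Fin 2) K) : Matrix (Fin 2) (Fin 2) K) := by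
    rw [← Matrix.SpecialLinearGroup.coe_mul, ← Matrix.SpecialLinearGroup.coe_mul, ← map_mul, ← map_mul, hc.eq]
  obtain ⟨a, b, hab⟩ := Cfsg.Agent.Lib.Helper99.exists_eq_add_smul_of_commute hns hc'
  set τ := ((ι s : Matrix.SpecialLinearGroup (Fin 2) K) : Matrix (Fin 2) (Fin 2) K).trace with hτ
  have e1 : 2 * a + b * τ = τ := by
    have h3 := trace_add_smul ((ι s : Matrix.SpecialLinearGroup (Fin 2) K) : Matrix (Fin 2) (Fin 2) K) a b
    rw [← hab, htr] at h3
    exact h3.symm
  have e2 : a * a + a * b * τ + b * b = 1 := by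
    rw [← det_add_smul ((ι s : Matrix.SpecialLinearGroup (Fin 2) K) : Matrix (Fin 2) (Fin 2) K) (ι s).det_coe a b, ← hab, (ι h).det_coe]
  have key : (1 - b * b) * (τ * τ - 4) = 0 := by
    linear_combination 4 * e2 - (2 * a + τ * (1 - b) + 2 * b * τ) * e1
  have hb : (b - 1) * (b + 1) = 0 := by
    rcases mul_eq_zero.mp key with h | h
    · linear_combination (-1 : K) * h
    · exact absurd (sub_eq_zero.mp h) hs
  rcases mul_eq_zero.mp hb with hb1 | hb1
  · left
    have hb1' : b = 1 := sub_eq_zero.mp hb1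
    have ha0 : a = 0 := by
      have : 2 * a = 0 := by rw [hb1'] at e1; linear_combination e1
      rcases mul_eq_zero.mp this with h | h
      · exact absurd h h2
      · exact h
    apply eq_of_mat_eq ι hι
    rw [hab, ha0, hb1', zero_smul, one_smul, zero_add]
  · right
    have hb1' : b = -1 := eq_neg_of_add_eq_zero_left hb1
    have ha : a = τ := by
      have : 2 * (a - τ) = 0 := by rw [hb1'] at e1; linear_combination e1
      rcases mul_eq_zero.mp this with h | h
      · exact absurd h h2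
      · exact sub_eq_zero.mp h
    -- (ι s) * (ι h) = 1
    have hmul : ((ι s : Matrix.SpecialLinearGroup (Fin 2) K) : Matrix (Fin 2) (Fin 2) K) * ((ι h : Matrix.SpecialLinearGroup (Fin 2) K) : Matrix (Fin 2) (Fin 2) K) = 1 := by
      rw [hab, ha, hb1']
      have hCH := sl_mul_self (ι s)
      rw [Matrix.mul_add, Matrix.mul_smul, Matrix.mul_smul, Matrix.mul_one, hCH, ← hτ]
      simp
    have : s * h = 1 := by
      apply eq_of_mat_eq ι hι
      rw [map_mul, Matrix.SpecialLinearGroup.coe_mul, hmul, map_one]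
      rfl
    exact (eq_inv_of_mul_eq_one_right this)

end

/-- trace is a class function -/
lemma trace_conj (ι : G →* SpecialLinearGroup (Fin 2) K) (x s : G) :
    ((ι (x * s * x⁻¹) : Matrix.SpecialLinearGroup (Fin 2) K) : Matrix (Fin 2) (Fin 2) K).trace = ((ι s : Matrix.SpecialLinearGroup (Fin 2) K) : Matrix (Fin 2) (Fin 2) K).trace := by
  rw [map_mul, map_mul, Matrix.SpecialLinearGroup.coe_mul, Matrix.SpecialLinearGroup.coe_mul,
    Matrix.trace_mul_comm, ← Matrix.mul_assoc, ← Matrix.SpecialLinearGroup.coe_mul, ← map_mul,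
    inv_mul_cancel, map_one]
  simp

end Cfsg.Agent.Lib.Helper02.SL2
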