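import Mathlib
import Cfsg.Prelude.Def_Solvable
import Cfsg.Agent.S0035
import Cfsg.Agent.Lib.Helper02.SL2Odd
import Cfsg.Agent.Lib.Helper97.UniqueOrderP

set_option autoImplicit false

/-!
# Finite groups embedded in `SL₂(K)`, `char K = p` odd, generated by `p`-elements

* `isPGroup_of_odd_card` : such a group of odd order is a `p`-group (via Frobenius' theorem).
* `sylow_two_not_comm` : if it is not a `p`-group, its Sylow 2-subgroups are non-abelian.
-/

namespace Cfsg.Agent.Lib.Helper02.SL2

open scoped Pointwise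

variable {K : Type*} [Field K] {p : ℕ} [Fact p.Prime] [CharP K p]
variable {G : Type*} [Group G] [Finite G]

/-- a finite group that is not a `p`-group has an element of prime order `r ≠ p` -/
lemma exists_prime_orderOf_ne (hnp : ¬ IsPGroup p G) :
    ∃ (r : ℕ) (s : G), r.Prime ∧ r ≠ p ∧ orderOf s = r := by
  by_contra hcon
  push Not at hcon
  apply hnp
  have h1 : ∀ {d : ℕ}, d.Prime → d ∣ Nat.card G → d = p := by
    intro d hd hdvd
    by_contra hdp
    haveI := Fact.mk hd
    obtain ⟨s, hs⟩ := exists_prime_orderOf_dvd_card' (G := G) d hdvd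
    exact hcon d s hd hdp hs
  exact IsPGroup.of_card (Nat.eq_prime_pow_of_unique_prime_dvd Nat.card_pos.ne' h1)

omit [Finite G] in
lemma mem_conj_smul_iff' (M : Subgroup G) (g x : G) :
    x ∈ MulAut.conj g • M ↔ g⁻¹ * x * g ∈ M := by
  rw [Subgroup.mem_pointwise_smul_iff_inv_smul_mem]
  simp [MulAut.smul_def]

/-- in a group of odd order, `g` is a power of `g²` -/
lemma commute_of_sq_commute (hodd : Odd (Nat.card G)) {g s : G} (h : Commute (g ^ 2) s) :
    Commute g s := by
  have hn : Odd (orderOf g) := by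
    obtain ⟨k, hk⟩ := orderOf_dvd_natCard g
    rw [hk] at hodd
    exact (Nat.odd_mul.mp hodd).1
  obtain ⟨m, hm⟩ := hn
  have : g = (g ^ 2) ^ (m + 1) := by
    rw [← pow_mul, show 2 * (m + 1) = orderOf g + 1 by omega, pow_succ, pow_orderOf_eq_one, one_mul]
  rw [this]
  exact h.pow_left _

variable (ι : G →* Matrix.SpecialLinearGroup (Fin 2) K) (hι : Function.Injective ι)
include hι

/-- **Theorem A.** A finite group of odd order embedded in `SL₂(K)` (`char K = p` odd) and
generated by elements of order dividing `p` is a `p`-group. -/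
theorem isPGroup_of_odd_card (hp2 : p ≠ 2) (hodd : Odd (Nat.card G))
    (hgen : Subgroup.closure {g : G | g ^ p = 1} = ⊤) : IsPGroup p G := by
  have hp : p.Prime := Fact.out
  have h2K : (2 : K) ≠ 0 := two_ne_zero_of_char hp2
  by_contra hnp
  obtain ⟨r, s, hr, hrp, hs⟩ := exists_prime_orderOf_ne hnp
  have hs1 : s ≠ 1 := by
    rintro rfl
    rw [orderOf_one] at hs
    exact hr.ne_one hs.symm
  have hrodd : r ≠ 2 := by
    rintro rfl
    have : 2 ∣ Nat.card G := hs ▸ orderOf_dvd_natCard s
    exact (Nat.not_even_iff_odd.mpr hodd) (even_iff_two_dvd.mpr this)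
  have hs2p : s ^ (2 * p) ≠ 1 := by
    intro h
    have := orderOf_dvd_of_pow_eq_one h
    rw [hs] at this
    rcases (Nat.Prime.dvd_mul hr).mp this with h | h
    · exact hrodd ((Nat.prime_dvd_prime_iff_eq hr Nat.prime_two).mp h)
    · exact hrp ((Nat.prime_dvd_prime_iff_eq hr hp).mp h)
  have htr := trace_sq_ne_four ι hι h2K hs2p
  obtain ⟨u, hu, hu1⟩ : ∃ u : G, u ^ p = 1 ∧ u ≠ 1 := by
    by_contra hcon
    push Not at hcon
    have hbot : Subgroup.closure {g : G | g ^ p = 1} = ⊥ := by
      rw [Subgroup.closure_eq_bot_iff]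
      intro g hg
      exact hcon g hg
    rw [hgen] at hbot
    have : s ∈ (⊤ : Subgroup G) := Subgroup.mem_top s
    rw [hbot, Subgroup.mem_bot] at this
    exact hs1 this
  set M : Subgroup G := Subgroup.centralizer {s} with hM
  have memM : ∀ x, x ∈ M ↔ Commute x s := by
    intro x
    rw [hM, Subgroup.mem_centralizer_singleton_iff]
    exact ⟨fun h => h, fun h => h.eq⟩
  have hsM : s ∈ M := (memM s).mpr (Commute.refl s)
  -- (F2) no nontrivial p-torsion in M
  have F2 : ∀ x ∈ M, x ^ p = 1 → x = 1 := by
    intro x hx hxp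
    by_contra hx1
    exact hs2p (pow_eq_one_of_commute_unip ι hι hp2 hxp hx1 ((memM x).mp hx).symm)
  have hfrob : Cfsg.IsFrobeniusComplement M := by
    refine ⟨?_, ?_, ?_⟩
    · intro h
      rw [h, Subgroup.mem_bot] at hsM
      exact hs1 hsM
    · intro h
      have : u ∈ M := by rw [h]; exact Subgroup.mem_top u
      exact hu1 (F2 u this hu)
    · intro g hg
      by_contra hne
      obtain ⟨⟨t, ht⟩, ht1⟩ := (Subgroup.ne_bot_iff_exists_ne_one).mp hne
      have ht1' : t ≠ 1 := fun h => ht1 (Subtype.ext h)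
      rw [Subgroup.mem_inf, mem_conj_smul_iff'] at ht
      obtain ⟨htM, htg⟩ := ht
      -- t' = g⁻¹ t g ∈ M, nontrivial
      set t' := g⁻¹ * t * g with ht'
      have ht'1 : t' ≠ 1 := by
        intro h
        apply ht1'
        have : t = g * t' * g⁻¹ := by rw [ht']; group
        rw [this, h]; group
      -- h = g⁻¹ s g commutes with t'
      set h := g⁻¹ * s * g with hh
      have hht' : Commute h t' := by
        have hst : Commute s t := ((memM t).mp htM).symm
        unfold Commute SemiconjBy
        rw [hh, ht']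
        calc g⁻¹ * s * g * (g⁻¹ * t * g) = g⁻¹ * (s * t) * g := by group
          _ = g⁻¹ * (t * s) * g := by rw [hst.eq]
          _ = g⁻¹ * t * g * (g⁻¹ * s * g) := by group
      have hst' : Commute s t' := ((memM t').mp htg).symm
      have hhs : Commute h s := commute_of_commute ι hι hodd ht'1 hht' hst'
      have htrh : ((ι h : Matrix.SpecialLinearGroup (Fin 2) K) : Matrix (Fin 2) (Fin 2) K).trace =
          ((ι s : Matrix.SpecialLinearGroup (Fin 2) K) : Matrix (Fin 2) (Fin 2) K).trace := by
        have := trace_conj ι g⁻¹ s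
        rwa [inv_inv] at this
      have hg2 : Commute (g ^ 2) s := by
        rcases eq_or_eq_inv_of_commute_of_trace ι hι h2K htr hhs htrh with h1 | h1
        · -- g⁻¹ s g = s
          have : Commute g s := by
            unfold Commute SemiconjBy
            rw [hh] at h1
            calc g * s = g * (g⁻¹ * s * g) := by rw [h1]
              _ = s * g := by group
          exact this.pow_left 2
        · -- g⁻¹ s g = s⁻¹
          rw [hh] at h1
          unfold Commute SemiconjBy
          have h2 : g⁻¹ * s⁻¹ * g = s := by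
            calc g⁻¹ * s⁻¹ * g = (g⁻¹ * s * g)⁻¹ := by group
              _ = (s⁻¹)⁻¹ := by rw [h1]
              _ = s := inv_inv s
          have e1 : g ^ 2 * s = g ^ 2 * (g⁻¹ * s⁻¹ * g) := by rw [h2]
          have e2 : g ^ 2 * (g⁻¹ * s⁻¹ * g) = g * s⁻¹ * g := by group
          have e3 : g * s⁻¹ * g = g * (g⁻¹ * s * g) * g := by rw [h1]
          have e4 : g * (g⁻¹ * s * g) * g = s * g ^ 2 := by rw [pow_two]; group
          exact e1.trans (e2.trans (e3.trans e4))
      exact hg ((memM g).mpr (commute_of_sq_commute hodd hg2))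
  obtain ⟨N, -, hNn, hNc⟩ := Cfsg.Agent.S0035.result M hfrob
  haveI := hNn
  have hidx : N.index = Nat.card M := hNc.symm.index_eq_card
  have hcop : (Nat.card M).Coprime p := by
    rw [Nat.coprime_comm, Nat.Prime.coprime_iff_not_dvd hp]
    intro hdvd
    obtain ⟨x, hx⟩ := exists_prime_orderOf_dvd_card' (G := M) p hdvd
    have hx1 : (x : G) ^ p = 1 := by
      rw [← Subgroup.orderOf_coe] at hx
      rw [← hx, pow_orderOf_eq_one]
    have := F2 x x.2 hx1
    have hx2 : x = 1 := Subtype.ext this
    rw [hx2, orderOf_one] at hx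
    exact hp.ne_one hx.symm
  have hsub : Subgroup.closure {g : G | g ^ p = 1} ≤ N := by
    rw [Subgroup.closure_le]
    intro g hg
    rw [Set.mem_setOf_eq] at hg
    have h1 : (QuotientGroup.mk g : G ⧸ N) ^ p = 1 := by
      rw [← QuotientGroup.mk_pow, hg, QuotientGroup.mk_one]
    have h2 : orderOf (QuotientGroup.mk g : G ⧸ N) ∣ p := orderOf_dvd_of_pow_eq_one h1
    have h3 : orderOf (QuotientGroup.mk g : G ⧸ N) ∣ Nat.card M := by
      rw [← hidx, Subgroup.index_eq_card]
      exact orderOf_dvd_natCard _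
    have h4 : orderOf (QuotientGroup.mk g : G ⧸ N) = 1 :=
      Nat.eq_one_of_dvd_coprimes hcop h3 h2
    have h5 := orderOf_eq_one_iff.mp h4
    exact (QuotientGroup.eq_one_iff g).mp h5
  rw [hgen] at hsub
  have hNtop : N = ⊤ := top_le_iff.mp hsub
  have hcard := hNc.card_mul_card
  rw [hNtop, Subgroup.card_top] at hcard
  have hM1 : Nat.card M = 1 := by
    have hpos : 0 < Nat.card G := Nat.card_pos
    nlinarith [hcard]
  have : M = ⊥ := Subgroup.card_eq_one.mp hM1
  exact hfrob.1 this

/-- **Theorem B.** A finite group embedded in `SL₂(K)` (`char K = p` odd), generated by elements of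
order dividing `p`, and not a `p`-group, has non-abelian Sylow 2-subgroups. -/
theorem sylow_two_not_comm (hp2 : p ≠ 2)
    (hgen : Subgroup.closure {g : G | g ^ p = 1} = ⊤) (hnp : ¬ IsPGroup p G) (T : Sylow 2 G) :
    ¬ IsMulCommutative T := by
  have hp : p.Prime := Fact.out
  have h2K : (2 : K) ≠ 0 := two_ne_zero_of_char hp2
  have heven : Even (Nat.card G) := by
    by_contra h
    exact hnp (isPGroup_of_odd_card ι hι hp2 (Nat.not_even_iff_odd.mp h) hgen)
  intro hcomm
  have hU : Cfsg.Agent.Lib.Helper97.UniqueOrderP 2 T := by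
    intro x y hx hy
    have key : ∀ z : T, orderOf z = 2 → ι (z : G) = -1 := by
      intro z hz
      have hz2' : z ^ 2 = 1 := by
        have := pow_orderOf_eq_one z
        rwa [hz] at this
      have hz2 : (ι (z : G)) ^ 2 = 1 := by
        rw [← map_pow, ← Subgroup.coe_pow, hz2', Subgroup.coe_one, map_one]
      rcases Cfsg.Agent.Lib.Helper60.sl2_sq_eq_one h2K _ hz2 with h | h
      · exfalso
        have : (z : G) = 1 := hι (by rw [h, map_one])
        have hz1 : z = 1 := Subtype.ext this
        rw [hz1, orderOf_one] at hz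
        omega
      · exact h
    have : x = y := Subtype.ext (hι (by rw [key x hx, key y hy]))
    rw [this]
    exact Subgroup.mem_zpowers y
  have hcyc : IsCyclic T :=
    Cfsg.Agent.Lib.Helper97.isCyclic_of_comm_of_uniqueOrderP (p := 2) T.isPGroup'
      (fun a b => hcomm.is_comm.comm a b) hU
  have hmin : (Nat.card G).minFac = 2 := (Nat.minFac_eq_two_iff _).mpr heven.two_dvd
  have hcompl := IsCyclic.isComplement' hmin hcyc
  set φ := MonoidHom.transferSylow T (hcyc.normalizer_le_centralizer hmin) with hφ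
  have hker : ∀ g : G, g ^ p = 1 → φ g = 1 := by
    intro g hg
    have h1 : (φ g) ^ p = 1 := by rw [← map_pow, hg, map_one]
    have h2 : orderOf (φ g) ∣ p := orderOf_dvd_of_pow_eq_one h1
    obtain ⟨k, hk⟩ := (IsPGroup.iff_orderOf.mp T.isPGroup') (φ g)
    rcases (Nat.dvd_prime hp).mp h2 with h | h
    · exact orderOf_eq_one_iff.mp h
    · exfalso
      rw [h] at hk
      -- p = 2^k with p odd prime: impossible
      have hodd : Odd p := hp.odd_of_ne_two hp2
      rcases Nat.eq_zero_or_pos k with hk0 | hk0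
      · rw [hk0, pow_zero] at hk; exact hp.ne_one hk
      · have : Even p := by rw [hk]; exact (Nat.even_pow.mpr ⟨even_two, hk0.ne'⟩)
        exact (Nat.not_even_iff_odd.mpr hodd) this
  have hkt : φ.ker = ⊤ := by
    apply top_le_iff.mp
    rw [← hgen, Subgroup.closure_le]
    intro g hg
    exact MonoidHom.mem_ker.mpr (hker g hg)
  have hc := hcompl.card_mul_card
  rw [hkt, Subgroup.card_top] at hc
  have hT1 : Nat.card T = 1 := by
    have hpos : 0 < Nat.card G := Nat.card_pos
    nlinarith [hc]
  have hTbot : (T : Subgroup G) = ⊥ := Subgroup.card_eq_one.mp hT1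
  exact T.ne_bot_of_dvd_card heven.two_dvd hTbot

end Cfsg.Agent.Lib.Helper02.SL2
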