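import Mathlib
import Cfsg.Prelude.Def_Solvable
import Cfsg.Agent.Lib.Helper02.QuadTransport
import Cfsg.Agent.Lib.Helper02.SL2Gen
import Cfsg.Agent.Lib.Helper06.BaerSuzuki

set_option autoImplicit false

/-!
# Abstract `p`-stability: quadratic elements outside `O_p` force non-abelian Sylow 2-subgroups

`H` finite, acting faithfully (`φ : H →* MulAut V` injective) on a finite abelian group `V` of
exponent `p`, `p` odd.  If `a ∈ H` acts quadratically and `a ∉ O_p(H)`, then the Sylow 2-subgroups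
of `H` are non-abelian (`sylow_two_not_comm_of_quad`).
-/

namespace Cfsg.Agent.Lib.Helper02.PStab

open Cfsg
open scoped Pointwise

variable {H : Type*} [Group H] {V : Type*} [CommGroup V]

/-- `a` acts quadratically on `V` -/
def Quad (φ : H →* MulAut V) (a : H) : Prop := ∀ v : V, φ a (φ a v / v) = φ a v / v

theorem Quad.conj {φ : H →* MulAut V} {a : H} (h : Quad φ a) (g : H) : Quad φ (g * a * g⁻¹) := by
  intro v
  have e : ∀ x : V, φ (g * a * g⁻¹) x = φ g (φ a (φ g⁻¹ x)) := by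
    intro x
    rw [map_mul, map_mul]; rfl
  have hgg : ∀ x : V, φ g (φ g⁻¹ x) = x := by
    intro x
    rw [← MulAut.mul_apply, ← map_mul, mul_inv_cancel, map_one]; rfl
  set w := φ g⁻¹ v with hw
  have hv : v = φ g w := (hgg v).symm
  have h1 : φ (g * a * g⁻¹) v / v = φ g (φ a w / w) := by
    rw [e, map_div, ← hv]
  rw [h1, e]
  have hgg' : ∀ x : V, φ g⁻¹ (φ g x) = x := by
    intro x
    rw [← MulAut.mul_apply, ← map_mul, inv_mul_cancel, map_one]; rfl
  rw [hgg', h w]

theorem Quad.pow_apply {φ : H →* MulAut V} {a : H} (h : Quad φ a) (n : ℕ) (v : V) :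
    φ (a ^ n) v = v * (φ a v / v) ^ n := by
  induction n with
  | zero => simp
  | succ n ih =>
    have hw : φ a v = v * (φ a v / v) := by rw [mul_div_cancel]
    calc φ (a ^ (n + 1)) v = φ a (φ (a ^ n) v) := by
          rw [pow_succ', map_mul, MulAut.mul_apply]
      _ = φ a v * (φ a (φ a v / v)) ^ n := by rw [ih, map_mul, map_pow]
      _ = φ a v * (φ a v / v) ^ n := by rw [h v]
      _ = v * (φ a v / v) * (φ a v / v) ^ n := by rw [← hw]
      _ = v * (φ a v / v) ^ (n + 1) := by rw [mul_assoc, ← pow_succ']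

theorem Quad.pow_eq_one {p : ℕ} {φ : H →* MulAut V} (hφ : Function.Injective φ)
    (hV : ∀ v : V, v ^ p = 1) {a : H} (h : Quad φ a) : a ^ p = 1 := by
  apply hφ
  rw [map_one]
  ext v
  rw [h.pow_apply, hV, mul_one]
  rfl

variable [Finite H]

/-- Baer–Suzuki: an element outside every normal `p`-subgroup generates a non-`p`-group with one of
its conjugates. -/
theorem exists_conj_not_pGroup {p : ℕ} [Fact p.Prime] (a : H)
    (ha : ∀ N : Subgroup H, N.Normal → IsPGroup p N → a ∉ N) :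
    ∃ g : H, ¬ IsPGroup p (Subgroup.closure ({a, g * a * g⁻¹} : Set H)) := by
  by_contra hcon
  push Not at hcon
  set K : Set H := {x | ∃ g : H, x = g * a * g⁻¹} with hK
  have hKconj : ∀ g k : H, k ∈ K → g * k * g⁻¹ ∈ K := by
    rintro g k ⟨g', rfl⟩
    exact ⟨g * g', by group⟩
  have hKp : ∀ x ∈ K, ∀ y ∈ K, IsPGroup p (Subgroup.closure ({x, y} : Set H)) := by
    rintro x ⟨g₁, rfl⟩ y ⟨g₂, rfl⟩
    have h1 := hcon (g₁⁻¹ * g₂)
    -- closure {x,y} is the image of closure {a, b} under conjugation by g₁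
    have h2 : Subgroup.closure ({g₁ * a * g₁⁻¹, g₂ * a * g₂⁻¹} : Set H) =
        (Subgroup.closure ({a, g₁⁻¹ * g₂ * a * (g₁⁻¹ * g₂)⁻¹} : Set H)).map
          (MulAut.conj g₁).toMonoidHom := by
      rw [MonoidHom.map_closure, Set.image_pair]
      congr 2
      · simp only [MulEquiv.coe_toMonoidHom, MulAut.conj_apply]
        group
    rw [h2]
    exact h1.map _
  obtain ⟨N, hNn, hNp, hKN⟩ := Cfsg.Agent.Lib.Helper06.baer_suzuki_set (p := p) K hKconj hKp
  exact ha N hNn hNp (hKN ⟨1, by group⟩)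

/-- commutativity of Sylow 2-subgroups passes to subgroups -/
theorem sylow_comm_of_le {q : ℕ} [Fact q.Prime] (T : Sylow q H)
    (hT : ∀ x ∈ T, ∀ y ∈ T, x * y = y * x) (P : Subgroup H) (hP : IsPGroup q P) :
    ∀ x ∈ P, ∀ y ∈ P, x * y = y * x := by
  obtain ⟨Q, hPQ⟩ := hP.exists_le_sylow
  obtain ⟨g, hg⟩ := MulAction.exists_smul_eq H T Q
  intro x hx y hy
  have hx' : x ∈ (g • T : Sylow q H) := by rw [hg]; exact hPQ hx
  have hy' : y ∈ (g • T : Sylow q H) := by rw [hg]; exact hPQ hy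
  rw [Sylow.smul_def] at hx' hy'
  have hx'' : g⁻¹ * x * g ∈ (T : Subgroup H) :=
    (Cfsg.Agent.Lib.Helper02.SL2.mem_conj_smul_iff' (T : Subgroup H) g x).mp hx'
  have hy'' : g⁻¹ * y * g ∈ (T : Subgroup H) :=
    (Cfsg.Agent.Lib.Helper02.SL2.mem_conj_smul_iff' (T : Subgroup H) g y).mp hy'
  have h1 := hT _ hx'' _ hy''
  calc x * y = g * ((g⁻¹ * x * g) * (g⁻¹ * y * g)) * g⁻¹ := by group
    _ = g * ((g⁻¹ * y * g) * (g⁻¹ * x * g)) * g⁻¹ := by rw [h1]
    _ = y * x := by group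

/-- commutativity of Sylow subgroups passes to quotients -/
theorem sylow_comm_of_surjective {Y : Type*} [Group Y] [Finite Y] {q : ℕ} [Fact q.Prime]
    (f : H →* Y) (hf : Function.Surjective f) (T : Sylow q H)
    (hT : ∀ x ∈ T, ∀ y ∈ T, x * y = y * x) (T' : Sylow q Y) :
    ∀ x ∈ T', ∀ y ∈ T', x * y = y * x := by
  have h1 : ∀ x ∈ T.mapSurjective hf, ∀ y ∈ T.mapSurjective hf, x * y = y * x := by
    intro x hx y hy
    have hx2 : x ∈ ((T.mapSurjective hf : Sylow q Y) : Subgroup Y) := hx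
    have hy2 : y ∈ ((T.mapSurjective hf : Sylow q Y) : Subgroup Y) := hy
    rw [Sylow.coe_mapSurjective] at hx2 hy2
    obtain ⟨x', hx', rfl⟩ := hx2
    obtain ⟨y', hy', rfl⟩ := hy2
    rw [← map_mul, ← map_mul, hT x' hx' y' hy']
  exact sylow_comm_of_le (T.mapSurjective hf) h1 (T' : Subgroup Y) T'.isPGroup'

/-- **Theorem P1 (abstract `p`-stability, Sylow 2 form).** -/
theorem sylow_two_not_comm_of_quad {p : ℕ} [Fact p.Prime] [Finite V] (hp2 : p ≠ 2)
    (hV : ∀ v : V, v ^ p = 1) (φ : H →* MulAut V) (hφ : Function.Injective φ) (a : H)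
    (hq : Quad φ a) (ha : ∀ N : Subgroup H, N.Normal → IsPGroup p N → a ∉ N) (T : Sylow 2 H) :
    ¬ IsMulCommutative T := by
  intro hT
  have hTc : ∀ x ∈ T, ∀ y ∈ T, x * y = y * x := fun x hx y hy =>
    congrArg Subtype.val (hT.is_comm.comm ⟨x, hx⟩ ⟨y, hy⟩)
  obtain ⟨g, hg⟩ := exists_conj_not_pGroup (p := p) a ha
  set b := g * a * g⁻¹ with hb
  set H₀ : Subgroup H := Subgroup.closure {a, b} with hH₀
  have haH : a ∈ H₀ := Subgroup.subset_closure (by simp)
  have hbH : b ∈ H₀ := Subgroup.subset_closure (by simp)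
  have hgen : Subgroup.closure {(⟨a, haH⟩ : H₀), ⟨b, hbH⟩} = ⊤ := by
    apply Subgroup.map_injective H₀.subtype_injective
    rw [MonoidHom.map_closure, ← MonoidHom.range_eq_map, Subgroup.range_subtype]
    have : (H₀.subtype '' {(⟨a, haH⟩ : H₀), ⟨b, hbH⟩}) = {a, b} := by
      rw [Set.image_pair]; rfl
    rw [this]
  have hφ₀ : Function.Injective (φ.comp H₀.subtype) := hφ.comp Subtype.val_injective
  obtain ⟨K, _, _, _, ψ, hψ⟩ := QuadTransport.exists_hom_SL2 (p := p) hV (φ.comp H₀.subtype) hφ₀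
    ⟨a, haH⟩ ⟨b, hbH⟩ hgen hq (hq.conj g) hg
  have hap : (⟨a, haH⟩ : H₀) ^ p = 1 :=
    Subtype.ext (by rw [Subgroup.coe_pow]; exact hq.pow_eq_one hφ hV)
  have hbp : (⟨b, hbH⟩ : H₀) ^ p = 1 :=
    Subtype.ext (by rw [Subgroup.coe_pow]; exact (hq.conj g).pow_eq_one hφ hV)
  -- the image is generated by elements of order dividing p
  have hgenL : Subgroup.closure {x : ψ.range | x ^ p = 1} = ⊤ := by
    have h1 : (Subgroup.closure {x : ψ.range | x ^ p = 1}).comap ψ.rangeRestrict = ⊤ := by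
      rw [eq_top_iff, ← hgen, Subgroup.closure_le]
      intro h hh
      rw [SetLike.mem_coe, Subgroup.mem_comap]
      apply Subgroup.subset_closure
      rw [Set.mem_setOf_eq, ← map_pow]
      rcases hh with rfl | hh
      · rw [hap, map_one]
      · rw [Set.mem_singleton_iff] at hh
        rw [hh, hbp, map_one]
    rw [eq_top_iff]
    intro x _
    obtain ⟨h, rfl⟩ := ψ.rangeRestrict_surjective x
    have : h ∈ (Subgroup.closure {x : ψ.range | x ^ p = 1}).comap ψ.rangeRestrict := by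
      rw [h1]; exact Subgroup.mem_top h
    exact this
  have hB := SL2.sylow_two_not_comm (G := ψ.range) ψ.range.subtype Subtype.val_injective hp2 hgenL hψ
  -- a Sylow 2-subgroup of H₀ is commutative
  obtain ⟨T₀⟩ : Nonempty (Sylow 2 H₀) := inferInstance
  have hT₀ : ∀ x ∈ T₀, ∀ y ∈ T₀, x * y = y * x := by
    have hP : IsPGroup 2 ((T₀ : Subgroup H₀).map H₀.subtype) :=
      T₀.isPGroup'.map H₀.subtype
    intro x hx y hy
    have := sylow_comm_of_le T hTc _ hP (x : H) (Subgroup.mem_map_of_mem _ hx) (y : H)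
      (Subgroup.mem_map_of_mem _ hy)
    exact Subtype.ext this
  have hT₁ := sylow_comm_of_surjective ψ.rangeRestrict ψ.rangeRestrict_surjective T₀ hT₀
  obtain ⟨T₁⟩ : Nonempty (Sylow 2 ψ.range) := inferInstance
  apply hB T₁
  exact ⟨⟨fun x y => Subtype.ext (hT₁ T₁ x x.2 y y.2)⟩⟩

end Cfsg.Agent.Lib.Helper02.PStab
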