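import Mathlib
import Cfsg.Prelude.Def_Solvable
import Cfsg.Agent.Lib.Helper02.PStab
import Cfsg.Agent.Lib.Helper75.FrattiniFaithful
import Cfsg.Agent.Lib.Helper75.PGroupFrattini

set_option autoImplicit false

/-!
# Abstract `p`-stability for actions on `p`-groups

`X` finite with abelian Sylow 2-subgroups acting faithfully on a finite `p`-group `P` (`p` odd):
every element acting quadratically lies in a normal `p`-subgroup of `X`.
-/

namespace Cfsg.Agent.Lib.Helper02.PStab

open Cfsg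

variable {X : Type*} [Group X] {P : Type*} [Group P]

/-- quadratic action on a (possibly non-abelian) group -/
def QuadG (φ : X →* MulAut P) (a : X) : Prop := ∀ x : P, φ a (φ a x * x⁻¹) = φ a x * x⁻¹

/-- **Theorem P1' (abstract `p`-stability on a `p`-group).** -/
theorem exists_normal_pGroup_of_quadG [Finite X] [Finite P] {p : ℕ} [Fact p.Prime] (hp2 : p ≠ 2)
    (hP : IsPGroup p P) (φ : X →* MulAut P) (hφ : Function.Injective φ) (a : X)
    (hq : QuadG φ a) (hT : ∀ T : Sylow 2 X, IsMulCommutative T) :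
    ∃ N : Subgroup X, N.Normal ∧ IsPGroup p N ∧ a ∈ N := by
  letI : CommGroup (P ⧸ frattini P) :=
    { (inferInstance : Group (P ⧸ frattini P)) with
      mul_comm := Cfsg.Agent.Lib.Helper75.frattini_quotient_comm hP }
  have hVexp : ∀ v : P ⧸ frattini P, v ^ p = 1 := Cfsg.Agent.Lib.Helper75.frattini_quotient_pow hP
  set φb : X →* MulAut (P ⧸ frattini P) := (Cfsg.Agent.S4208.rho P).comp φ with hφb
  set Y : Subgroup X := φb.ker with hY
  -- Y is a p-group
  have hYp : ∀ y ∈ Y, ∃ k : ℕ, y ^ (p ^ k) = 1 := by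
    intro y hy
    have h1 : φ y ∈ (Cfsg.Agent.S4208.rho P).ker := by
      rw [MonoidHom.mem_ker]
      exact hy
    obtain ⟨k, hk⟩ := Cfsg.Agent.Lib.Helper75.isPGroup_ker_rho hP ⟨φ y, h1⟩
    refine ⟨k, hφ ?_⟩
    rw [map_pow, map_one]
    exact congrArg Subtype.val hk
  -- the faithful action of X/Y on the Frattini quotient
  set φ' : X ⧸ Y →* MulAut (P ⧸ frattini P) := QuotientGroup.kerLift φb with hφ'
  have hφ'inj : Function.Injective φ' := QuotientGroup.kerLift_injective φb
  have hquad : Quad φ' (QuotientGroup.mk a) := by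
    intro v
    obtain ⟨x, rfl⟩ := QuotientGroup.mk_surjective v
    have e : ∀ z : P, φ' (QuotientGroup.mk a) (QuotientGroup.mk z) =
        (QuotientGroup.mk (φ a z) : P ⧸ frattini P) := by
      intro z
      rw [hφ', QuotientGroup.kerLift_mk]
      rfl
    rw [e, div_eq_mul_inv, ← QuotientGroup.mk_inv, ← QuotientGroup.mk_mul, e, hq x]
  by_contra hcon
  push Not at hcon
  have ha' : ∀ N : Subgroup (X ⧸ Y), N.Normal → IsPGroup p N → (QuotientGroup.mk a : X ⧸ Y) ∉ N := by
    intro N hN hNp haN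
    haveI := hN
    apply hcon (N.comap (QuotientGroup.mk' Y)) inferInstance
    · intro n
      obtain ⟨k, hk⟩ := hNp ⟨QuotientGroup.mk (n : X), n.2⟩
      have h1 : (n : X) ^ (p ^ k) ∈ Y := by
        rw [← QuotientGroup.eq_one_iff, QuotientGroup.mk_pow]
        exact congrArg Subtype.val hk
      obtain ⟨l, hl⟩ := hYp _ h1
      refine ⟨k + l, Subtype.ext ?_⟩
      rw [Subgroup.coe_pow, pow_add, pow_mul, hl]
      rfl
    · exact haN
  obtain ⟨T₀⟩ : Nonempty (Sylow 2 X) := inferInstance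
  have hT₀ : ∀ x ∈ T₀, ∀ y ∈ T₀, x * y = y * x := fun x hx y hy =>
    congrArg Subtype.val ((hT T₀).is_comm.comm ⟨x, hx⟩ ⟨y, hy⟩)
  obtain ⟨T₁⟩ : Nonempty (Sylow 2 (X ⧸ Y)) := inferInstance
  have hT₁ := sylow_comm_of_surjective (QuotientGroup.mk' Y) (QuotientGroup.mk'_surjective Y) T₀ hT₀ T₁
  exact sylow_two_not_comm_of_quad hp2 hVexp φ' hφ'inj (QuotientGroup.mk a) hquad ha' T₁
    ⟨⟨fun x y => Subtype.ext (hT₁ x x.2 y y.2)⟩⟩

end Cfsg.Agent.Lib.Helper02.PStab
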