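import Mathlib
import Cfsg.Prelude.Def_Transfer
import Cfsg.Prelude.Def_Solvable
import Cfsg.Agent.Lib.Helper15.ThompsonOf
import Cfsg.Agent.Lib.Helper15.TransportInj
import Cfsg.Agent.Lib.Helper99.Thompson

set_option autoImplicit false
open Cfsg

/-!
# Keystone K1-II : ambient lemmas on `J(P) = thompsonSubgroupOf p P` and `Z(P)`

Signatures follow `notes/ThompsonSpec.lean.txt`, section PartII.
-/

namespace Cfsg.Agent.Lib.Helper02

open Cfsg.Agent.Lib.Helper15 Cfsg.Agent.Lib.Helper99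

section PartII
variable {G : Type*} [Group G] {p : ℕ}

/-- ambient centre of P -/
def ZC (P : Subgroup G) : Subgroup G := P ⊓ Subgroup.centralizer (P : Set G)

theorem mem_ZC_iff {P : Subgroup G} {x : G} :
    x ∈ ZC P ↔ x ∈ P ∧ ∀ y ∈ P, y * x = x * y := by
  unfold ZC
  rw [Subgroup.mem_inf, Subgroup.mem_centralizer_iff]
  rfl

theorem thompsonOf_le (P : Subgroup G) : thompsonSubgroupOf p P ≤ P :=
  thompsonSubgroupOf_le p P

theorem ker_disjoint_of_injOn {G' : Type*} [Group G'] (f : G →* G') (P : Subgroup G)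
    (hf : Set.InjOn f (P : Set G)) : P ⊓ f.ker = ⊥ := by
  rw [eq_bot_iff]
  intro x hx
  rw [Subgroup.mem_inf, MonoidHom.mem_ker] at hx
  rw [Subgroup.mem_bot]
  exact hf hx.1 P.one_mem (by rw [hx.2, map_one])

theorem card_map_of_injOn {G' : Type*} [Group G'] (f : G →* G') {P A : Subgroup G}
    (hf : Set.InjOn f (P : Set G)) (hA : A ≤ P) : Nat.card (A.map f) = Nat.card A := by
  have hbij : Function.Bijective (f.subgroupMap A) := by
    refine ⟨?_, f.subgroupMap_surjective A⟩
    intro x y hxy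
    have h1 : f x = f y := congrArg Subtype.val hxy
    exact Subtype.ext (hf (hA x.2) (hA y.2) h1)
  exact (Nat.card_congr (Equiv.ofBijective _ hbij)).symm

theorem isEA_of_map_of_injOn {G' : Type*} [Group G'] (f : G →* G') {P A : Subgroup G}
    (hf : Set.InjOn f (P : Set G)) (hA : A ≤ P) (h : IsElementaryAbelian p (A.map f)) :
    IsElementaryAbelian p A := by
  rw [isEA_iff] at h ⊢
  obtain ⟨h1, h2⟩ := h
  refine ⟨fun a ha b hb => ?_, fun a ha => ?_⟩
  · apply hf (P.mul_mem (hA ha) (hA hb)) (P.mul_mem (hA hb) (hA ha))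
    rw [map_mul, map_mul]
    exact h1 _ (Subgroup.mem_map_of_mem f ha) _ (Subgroup.mem_map_of_mem f hb)
  · apply hf (P.pow_mem (hA ha) p) P.one_mem
    rw [map_pow, map_one]
    exact h2 _ (Subgroup.mem_map_of_mem f ha)

theorem map_comap_inf_of_le_map {G' : Type*} [Group G'] (f : G →* G') {P : Subgroup G}
    {B : Subgroup G'} (hB : B ≤ P.map f) : (B.comap f ⊓ P).map f = B := by
  apply le_antisymm
  · rintro _ ⟨x, hx, rfl⟩
    exact (Subgroup.mem_inf.mp hx).1
  · intro y hy
    obtain ⟨x, hx, rfl⟩ := hB hy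
    exact ⟨x, Subgroup.mem_inf.mpr ⟨hy, hx⟩, rfl⟩

theorem map_mem_maxElemIn_of_injOn {G' : Type*} [Group G'] (f : G →* G') {P A : Subgroup G}
    (hf : Set.InjOn f (P : Set G)) (hA : A ∈ maxElemIn p P) :
    A.map f ∈ maxElemIn p (P.map f) := by
  obtain ⟨hAP, hAe, hAm⟩ := hA
  refine ⟨Subgroup.map_mono hAP, isEA_map f A hAe, ?_⟩
  intro B hBP hB
  have h1 := map_comap_inf_of_le_map f hBP
  have h2 : B.comap f ⊓ P ≤ P := inf_le_right
  have h3 : IsElementaryAbelian p (B.comap f ⊓ P) := by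
    apply isEA_of_map_of_injOn f hf h2
    rw [h1]; exact hB
  have h4 := hAm _ h2 h3
  rw [card_map_of_injOn f hf hAP, ← h1, card_map_of_injOn f hf h2]
  exact h4

theorem mem_maxElemIn_of_map_of_injOn {G' : Type*} [Group G'] (f : G →* G') {P : Subgroup G}
    (hf : Set.InjOn f (P : Set G)) {B : Subgroup G'} (hB : B ∈ maxElemIn p (P.map f)) :
    B.comap f ⊓ P ∈ maxElemIn p P := by
  obtain ⟨hBP, hBe, hBm⟩ := hB
  have h1 := map_comap_inf_of_le_map f hBP
  have h2 : B.comap f ⊓ P ≤ P := inf_le_right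
  refine ⟨h2, ?_, ?_⟩
  · apply isEA_of_map_of_injOn f hf h2
    rw [h1]; exact hBe
  · intro C hCP hC
    have := hBm (C.map f) (Subgroup.map_mono hCP) (isEA_map f C hC)
    rw [card_map_of_injOn f hf hCP] at this
    rw [← card_map_of_injOn f hf h2, h1]
    exact this

/-- transport along a hom injective on P (subtype, conjugation, quotient by a p'-group, ...) -/
theorem thompsonOf_map {G' : Type*} [Group G'] (f : G →* G') (P : Subgroup G)
    (hf : Set.InjOn f (P : Set G)) :
    thompsonSubgroupOf p (P.map f) = (thompsonSubgroupOf p P).map f := by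
  rw [Helper15.thompsonSubgroupOf_eq, Helper15.thompsonSubgroupOf_eq]
  apply le_antisymm
  · apply sSup_le
    intro B hB
    rw [← map_comap_inf_of_le_map f hB.1]
    exact Subgroup.map_mono (le_sSup (mem_maxElemIn_of_map_of_injOn f hf hB))
  · rw [Subgroup.map_le_iff_le_comap]
    apply sSup_le
    intro A hA
    rw [← Subgroup.map_le_iff_le_comap]
    exact le_sSup (map_mem_maxElemIn_of_injOn f hf hA)

theorem ZC_map {G' : Type*} [Group G'] (f : G →* G') (P : Subgroup G)
    (hf : Set.InjOn f (P : Set G)) : ZC (P.map f) = (ZC P).map f := by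
  unfold ZC
  exact (map_inf_centralizer_of_disjoint f P (ker_disjoint_of_injOn f P hf)).symm

theorem thompsonOf_ne_bot [Finite G] [Fact p.Prime] {P : Subgroup G} (hP : IsPGroup p P)
    (h : P ≠ ⊥) : thompsonSubgroupOf p P ≠ ⊥ := by
  have hp : p.Prime := Fact.out
  -- an element of order p in P
  have hnt : Nontrivial P := (Subgroup.nontrivial_iff_ne_bot P).mpr h
  obtain ⟨n, hn⟩ := hP.exists_card_eq
  have hn0 : n ≠ 0 := by
    rintro rfl
    rw [pow_zero] at hn
    have := Finite.one_lt_card (α := P)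
    omega
  have hdvd : p ∣ Nat.card P := by
    rw [hn]; exact dvd_pow_self p hn0
  obtain ⟨x, hx⟩ := exists_prime_orderOf_dvd_card' (G := P) p hdvd
  -- zpowers of its image is elementary abelian of order p
  set X : Subgroup G := Subgroup.zpowers (x : G) with hX
  have hXP : X ≤ P := by
    rw [hX, Subgroup.zpowers_le]; exact x.2
  have hxo : orderOf (x : G) = p := by rw [Subgroup.orderOf_coe, hx]
  have hXe : IsElementaryAbelian p X := by
    rw [isEA_iff]
    refine ⟨?_, ?_⟩
    · rintro a ha b hb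
      rw [hX, Subgroup.mem_zpowers_iff] at ha hb
      obtain ⟨i, rfl⟩ := ha
      obtain ⟨j, rfl⟩ := hb
      exact (Commute.zpow_zpow_self (x : G) i j).eq
    · rintro a ha
      rw [hX, Subgroup.mem_zpowers_iff] at ha
      obtain ⟨i, rfl⟩ := ha
      rw [← zpow_natCast, ← zpow_mul, mul_comm, zpow_mul, zpow_natCast, ← hxo, pow_orderOf_eq_one,
        one_zpow]
  have hXc : Nat.card X = p := by rw [hX, Nat.card_zpowers, hxo]
  obtain ⟨A, hA⟩ := maxElemIn_nonempty p P
  have hAc : p ≤ Nat.card A := by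
    have := hA.2.2 X hXP hXe
    rwa [hXc] at this
  have hAJ : A ≤ thompsonSubgroupOf p P := by
    rw [Helper15.thompsonSubgroupOf_eq]; exact le_sSup hA
  intro hbot
  rw [hbot, le_bot_iff] at hAJ
  rw [hAJ, Subgroup.card_bot] at hAc
  exact absurd hAc (not_le.mpr hp.one_lt)

theorem ZC_eq_map_center (P : Subgroup G) : ZC P = (Subgroup.center P).map P.subtype := by
  ext x
  rw [mem_ZC_iff, Subgroup.mem_map]
  constructor
  · rintro ⟨hx, hc⟩
    refine ⟨⟨x, hx⟩, ?_, rfl⟩
    rw [Subgroup.mem_center_iff]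
    intro y
    exact Subtype.ext (hc y y.2)
  · rintro ⟨y, hy, rfl⟩
    rw [Subgroup.mem_center_iff] at hy
    refine ⟨y.2, fun z hz => ?_⟩
    exact congrArg Subtype.val (hy ⟨z, hz⟩)

theorem ZC_ne_bot [Finite G] [Fact p.Prime] {P : Subgroup G} (hP : IsPGroup p P) (h : P ≠ ⊥) :
    ZC P ≠ ⊥ := by
  have hnt : Nontrivial P := (Subgroup.nontrivial_iff_ne_bot P).mpr h
  have hc : Nontrivial (Subgroup.center P) := hP.center_nontrivial
  rw [ZC_eq_map_center]
  intro hbot
  rw [(Subgroup.map_eq_bot_iff_of_injective _ P.subtype_injective)] at hbot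
  rw [Subgroup.nontrivial_iff_ne_bot] at hc
  exact hc hbot

/-- J(P) ≤ Q ≤ P implies J(Q) = J(P) -/
theorem thompsonOf_eq_of_le [Finite G] {P Q : Subgroup G} (h1 : thompsonSubgroupOf p P ≤ Q)
    (h2 : Q ≤ P) : thompsonSubgroupOf p Q = thompsonSubgroupOf p P :=
  thompsonSubgroupOf_eq_of_le p h2 h1

theorem normalizer_le_normalizer_thompsonOf (P : Subgroup G) :
    Subgroup.normalizer (P : Set G) ≤ Subgroup.normalizer (thompsonSubgroupOf p P : Set G) :=
  normalizer_le_normalizer_thompsonSubgroupOf p P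

theorem conj_mem_ZC {P : Subgroup G} {g : G} (hg : g ∈ Subgroup.normalizer (P : Set G)) {x : G}
    (hx : x ∈ ZC P) : g * x * g⁻¹ ∈ ZC P := by
  rw [mem_ZC_iff] at hx ⊢
  rw [Subgroup.mem_normalizer_iff] at hg
  refine ⟨(hg x).mp hx.1, ?_⟩
  intro y hy
  have hy' : g⁻¹ * y * g ∈ P := by
    rw [hg]; simpa [mul_assoc] using hy
  have := hx.2 _ hy'
  calc y * (g * x * g⁻¹) = g * ((g⁻¹ * y * g) * x) * g⁻¹ := by group
    _ = g * (x * (g⁻¹ * y * g)) * g⁻¹ := by rw [this]
    _ = g * x * g⁻¹ * y := by group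

theorem normalizer_le_normalizer_ZC (P : Subgroup G) :
    Subgroup.normalizer (P : Set G) ≤ Subgroup.normalizer (ZC P : Set G) := by
  intro g hg
  rw [Subgroup.mem_normalizer_iff]
  intro x
  constructor
  · exact fun hx => conj_mem_ZC hg hx
  · intro hx
    have := conj_mem_ZC (Subgroup.inv_mem _ hg) hx
    simpa [mul_assoc] using this

theorem exists_maxEA_not_le [Finite G] {P Q : Subgroup G} (h : ¬ thompsonSubgroupOf p P ≤ Q) :
    ∃ A ∈ maxElementaryAbelianSubgroups p ↥P, ¬ A.map P.subtype ≤ Q := by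
  by_contra hcon
  push Not at hcon
  apply h
  unfold thompsonSubgroupOf thompsonSubgroup
  rw [Subgroup.map_le_iff_le_comap]
  apply sSup_le
  intro A hA
  rw [← Subgroup.map_le_iff_le_comap]
  exact hcon A hA

end PartII

end Cfsg.Agent.Lib.Helper02
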