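import Mathlib
import Cfsg.Agent.Lib.Helper29.FixedPointFree
import Cfsg.Agent.Lib.Helper70.Abelian

set_option autoImplicit false

namespace Cfsg.Agent.Lib.Helper02

section FPF

variable {A W : Type*} [Group A] [CommGroup W] [MulDistribMulAction A W]

/-- An `r`-subgroup acting on a nontrivial abelian group of exponent `r` has a nontrivial
fixed point. -/
theorem exists_fixed_ne_one_of_pgroup [Finite W] [Nontrivial W] (r : ℕ) [Fact r.Prime]
    (R : Subgroup A) (hR : IsPGroup r R) (hW : ∀ w : W, w ^ r = 1) :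
    ∃ w : W, w ≠ 1 ∧ ∀ a ∈ R, a • w = w := by
  have hWp : IsPGroup r W := fun w => ⟨1, by rw [pow_one]; exact hW w⟩
  have hdvd : r ∣ Nat.card W :=
    hWp.card_eq_or_dvd.resolve_left (Finite.one_lt_card (α := W)).ne'
  have h1 : (1 : W) ∈ MulAction.fixedPoints R W := fun g => smul_one _
  obtain ⟨b, hb, hne⟩ := hR.exists_fixed_point_of_prime_dvd_card_of_fixed_point (α := W) hdvd h1
  exact ⟨b, hne.symm, fun a ha => hb ⟨a, ha⟩⟩

/-- A commutative group acting fixed-point-freely on a nontrivial finite abelian group is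
cyclic. -/
theorem isCyclic_of_fpf_of_comm [Finite A] [Finite W] [Nontrivial W]
    (hfpf : ∀ a : A, a ≠ 1 → ∀ w : W, a • w = w → w = 1)
    (hcomm : ∀ a b : A, a * b = b * a) : IsCyclic A := by
  by_contra hnc
  letI : CommGroup A := { (inferInstance : Group A) with mul_comm := hcomm }
  obtain ⟨r, hr, hlt⟩ := Lib.Helper70.exists_prime_lt_card_tors (G := A) hnc
  haveI := Fact.mk hr
  -- pick a ≠ 1 in the torsion
  have hex : ∃ a ∈ Lib.Helper70.tors A r, a ≠ 1 := by
    by_contra hcon
    push Not at hcon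
    have : Lib.Helper70.tors A r = ⊥ := by
      rw [eq_bot_iff]; intro x hx; rw [Subgroup.mem_bot]; exact hcon x hx
    rw [this, Subgroup.card_bot] at hlt
    exact absurd hlt (by have := hr.one_lt; omega)
  obtain ⟨a, haT, ha1⟩ := hex
  have har : a ^ r = 1 := (Lib.Helper70.mem_tors r a).mp haT
  have hoa : orderOf a = r := orderOf_eq_prime har ha1
  have hexb : ∃ b ∈ Lib.Helper70.tors A r, b ∉ Subgroup.zpowers a := by
    by_contra hcon
    push Not at hcon
    have hle : Lib.Helper70.tors A r ≤ Subgroup.zpowers a := hcon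
    have := Subgroup.card_le_of_le hle
    rw [Nat.card_zpowers, hoa] at this
    omega
  obtain ⟨b, hbT, hbna⟩ := hexb
  have hbr : b ^ r = 1 := (Lib.Helper70.mem_tors r b).mp hbT
  have hb1 : b ≠ 1 := by
    rintro rfl; exact hbna (Subgroup.one_mem _)
  have hob : orderOf b = r := orderOf_eq_prime hbr hb1
  have hW : ∀ w : W, w ^ r = 1 := by
    apply Lib.Helper29.pow_eq_one_of_fpf r a b (Commute.all a b) har hbr
    intro i j hij w hw
    apply hfpf _ _ w hw
    intro hone
    by_cases hj : j = 0
    · subst hj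
      have hi : i ≠ 0 := by tauto
      rw [ZMod.val_zero, pow_zero, mul_one] at hone
      have hi' : i.val ≠ 0 := by rwa [Ne, ZMod.val_eq_zero]
      exact pow_ne_one_of_lt_orderOf hi' (by rw [hoa]; exact ZMod.val_lt i) hone
    · have hj' : j.val ≠ 0 := by rwa [Ne, ZMod.val_eq_zero]
      have hcop : (j.val).Coprime (orderOf b) := by
        rw [hob]
        exact (Nat.coprime_of_lt_prime hj' (ZMod.val_lt j) hr).symm
      obtain ⟨m, hm⟩ := exists_pow_eq_self_of_coprime hcop
      have hbj : b ^ j.val ∈ Subgroup.zpowers a := by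
        have : b ^ j.val = (a ^ i.val)⁻¹ := by
          rw [eq_inv_iff_mul_eq_one, mul_comm]; exact hone
        rw [this]
        exact Subgroup.inv_mem _ (Subgroup.pow_mem _ (Subgroup.mem_zpowers a) _)
      apply hbna
      rw [← hm]
      exact Subgroup.pow_mem _ hbj _
  obtain ⟨w, hw1, hwfix⟩ := exists_fixed_ne_one_of_pgroup (A := A) (W := W) r (Subgroup.zpowers a)
    (IsPGroup.of_card (n := 1) (by rw [Nat.card_zpowers, hoa, pow_one])) hW
  exact hw1 (hfpf a ha1 w (hwfix a (Subgroup.mem_zpowers a)))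

theorem dvd_prime_mul_prime {d p q : ℕ} (hp : p.Prime) (hq : q.Prime) (h : d ∣ p * q) :
    d = 1 ∨ d = p ∨ d = q ∨ d = p * q := by
  by_cases hpd : p ∣ d
  · obtain ⟨d', rfl⟩ := hpd
    have h1 : d' ∣ q := Nat.dvd_of_mul_dvd_mul_left hp.pos h
    rcases (Nat.dvd_prime hq).mp h1 with h2 | h2
    · right; left; rw [h2, mul_one]
    · right; right; right; rw [h2]
  · have hc : Nat.Coprime d p := ((Nat.Prime.coprime_iff_not_dvd hp).mpr hpd).symm
    have h1 : d ∣ q := by
      rw [mul_comm] at h
      exact Nat.Coprime.dvd_of_dvd_mul_right hc h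
    rcases (Nat.dvd_prime hq).mp h1 with h2 | h2
    · left; exact h2
    · right; right; left; exact h2

/-- the nonidentity elements of a subgroup, as a finset -/
noncomputable def nonOne [Fintype A] (B : Subgroup A) : Finset A :=
  by classical exact Finset.univ.filter (fun e => e ∈ B ∧ e ≠ 1)

theorem mem_nonOne [Fintype A] (B : Subgroup A) (e : A) : e ∈ nonOne B ↔ e ∈ B ∧ e ≠ 1 := by
  classical
  simp [nonOne]

/-- Under a fixed-point-free action the product of the translates of `w` by the nonidentity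
elements of a nontrivial subgroup is `w⁻¹`. -/
theorem prod_nonOne_smul [Fintype A]
    (hfpf : ∀ a : A, a ≠ 1 → ∀ w : W, a • w = w → w = 1)
    (B : Subgroup A) (hB : B ≠ ⊥) (w : W) : ∏ e ∈ nonOne B, e • w = w⁻¹ := by
  classical
  obtain ⟨⟨b₀, hb₀B⟩, hb₀⟩ := (Subgroup.ne_bot_iff_exists_ne_one).mp hB
  have hb₀1 : b₀ ≠ 1 := fun h => hb₀ (Subtype.ext h)
  set T : Finset A := Finset.univ.filter (fun e => e ∈ B) with hT
  have hTins : T = insert 1 (nonOne B) := by
    ext e
    simp only [hT, Finset.mem_filter, Finset.mem_univ, true_and, Finset.mem_insert, mem_nonOne]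
    constructor
    · intro he
      by_cases h1 : e = 1
      · left; exact h1
      · right; exact ⟨he, h1⟩
    · rintro (rfl | h)
      · exact B.one_mem
      · exact h.1
  have h1not : (1 : A) ∉ nonOne B := by
    rw [mem_nonOne]; tauto
  set N : W := ∏ e ∈ T, e • w with hN
  have hfix : b₀ • N = N := by
    rw [hN, Finset.smul_prod']
    simp only [smul_smul]
    refine Finset.prod_equiv (Equiv.mulLeft b₀) ?_ ?_
    · intro e
      simp only [hT, Finset.mem_filter, Finset.mem_univ, true_and, Equiv.coe_mulLeft]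
      exact ⟨fun he => B.mul_mem hb₀B he, fun he => (Subgroup.mul_mem_cancel_left B hb₀B).mp he⟩
    · intro e _
      rfl
  have hN1 : N = 1 := hfpf b₀ hb₀1 N hfix
  rw [hN, hTins, Finset.prod_insert h1not, one_smul] at hN1
  exact eq_inv_of_mul_eq_one_right hN1

/-- A group of order `p * q`, `p < q` primes, acting fixed-point-freely on a nontrivial finite
abelian group is cyclic. -/
theorem isCyclic_of_fpf_of_card_eq_mul_lt [Finite A] [Finite W] [Nontrivial W]
    (hfpf : ∀ a : A, a ≠ 1 → ∀ w : W, a • w = w → w = 1)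
    (p q : ℕ) (hp : p.Prime) (hq : q.Prime) (hpq : p < q) (hcard : Nat.card A = p * q) :
    IsCyclic A := by
  classical
  by_contra hnc
  haveI := Fact.mk hp
  haveI := Fact.mk hq
  letI : Fintype A := Fintype.ofFinite A
  letI : Fintype (Sylow p A) := Fintype.ofFinite _
  have hpnq : ¬ p ∣ q := fun h => hpq.ne ((Nat.prime_dvd_prime_iff_eq hp hq).mp h)
  have hqnp : ¬ q ∣ p := fun h => hpq.ne' ((Nat.prime_dvd_prime_iff_eq hq hp).mp h)
  have hcardP : ∀ P' : Sylow p A, Nat.card P' = p := by
    intro P'
    rw [P'.card_eq_multiplicity, hcard, Nat.factorization_mul hp.ne_zero hq.ne_zero,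
      Finsupp.add_apply, hp.factorization_self, Nat.factorization_eq_zero_of_not_dvd hpnq, pow_one]
  have hcardQ : ∀ Q : Sylow q A, Nat.card Q = q := by
    intro Q
    rw [Q.card_eq_multiplicity, hcard, Nat.factorization_mul hp.ne_zero hq.ne_zero,
      Finsupp.add_apply, hq.factorization_self, Nat.factorization_eq_zero_of_not_dvd hqnp, zero_add,
      pow_one]
  -- unique Sylow q
  obtain ⟨Q⟩ : Nonempty (Sylow q A) := inferInstance
  have hQidx : (Q : Subgroup A).index = p := by
    have h1 := Subgroup.card_mul_index (Q : Subgroup A)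
    rw [hcardQ Q, hcard, mul_comm p q] at h1
    exact Nat.eq_of_mul_eq_mul_left hq.pos h1
  have hnq : Nat.card (Sylow q A) = 1 := by
    have h1 : Nat.card (Sylow q A) ∣ p := by rw [← hQidx]; exact Q.card_dvd_index
    have h2 : Nat.card (Sylow q A) ≡ 1 [MOD q] := card_sylow_modEq_one q A
    rcases (Nat.dvd_prime hp).mp h1 with h3 | h3
    · exact h3
    · exfalso
      rw [h3] at h2
      have h4 : p % q = 1 % q := h2
      rw [Nat.mod_eq_of_lt hpq, Nat.mod_eq_of_lt hq.one_lt] at h4
      exact hp.one_lt.ne' h4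
  have hQuniq : ∀ Q' : Sylow q A, Q' = Q := by
    intro Q'
    haveI : Subsingleton (Sylow q A) := (Nat.card_eq_one_iff_unique.mp hnq).1
    exact Subsingleton.elim _ _
  -- number of Sylow p-subgroups divides q
  have hnp : Nat.card (Sylow p A) ∣ q := by
    obtain ⟨P'⟩ : Nonempty (Sylow p A) := inferInstance
    have h1 := Subgroup.card_mul_index (P' : Subgroup A)
    rw [hcardP P', hcard] at h1
    have h2 : (P' : Subgroup A).index = q := Nat.eq_of_mul_eq_mul_left hp.pos h1
    rw [← h2]; exact P'.card_dvd_index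
  -- orders of elements
  have horder : ∀ e : A, e ≠ 1 → orderOf e = p ∨ orderOf e = q := by
    intro e he
    have h1 : orderOf e ∣ p * q := by rw [← hcard]; exact orderOf_dvd_natCard e
    rcases dvd_prime_mul_prime hp hq h1 with h | h | h | h
    · exact absurd (orderOf_eq_one_iff.mp h) he
    · left; exact h
    · right; exact h
    · exact absurd (isCyclic_of_orderOf_eq_card e (by rw [h, hcard])) hnc
  have hmemQ : ∀ e : A, e ∈ (Q : Subgroup A) → e ≠ 1 → orderOf e = q := by
    intro e heQ he
    have h1 : orderOf e ∣ q := by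
      rw [← hcardQ Q]; exact Subgroup.orderOf_dvd_natCard _ heQ
    rcases (Nat.dvd_prime hq).mp h1 with h | h
    · exact absurd (orderOf_eq_one_iff.mp h) he
    · exact h
  have hmemP : ∀ (P' : Sylow p A) (e : A), e ∈ (P' : Subgroup A) → e ≠ 1 → orderOf e = p := by
    intro P' e heP he
    have h1 : orderOf e ∣ p := by
      rw [← hcardP P']; exact Subgroup.orderOf_dvd_natCard _ heP
    rcases (Nat.dvd_prime hp).mp h1 with h | h
    · exact absurd (orderOf_eq_one_iff.mp h) he
    · exact h
  have hPuniq : ∀ (P₁ P₂ : Sylow p A) (e : A), e ∈ (P₁ : Subgroup A) → e ∈ (P₂ : Subgroup A) →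
      e ≠ 1 → P₁ = P₂ := by
    intro P₁ P₂ e h1 h2 he
    have hz : ∀ P' : Sylow p A, e ∈ (P' : Subgroup A) → Subgroup.zpowers e = (P' : Subgroup A) := by
      intro P' hP'
      apply Subgroup.eq_of_le_of_card_ge ((Subgroup.zpowers_le).mpr hP')
      rw [Nat.card_zpowers, hmemP P' e hP' he, hcardP P']
    apply Sylow.ext
    rw [← hz P₁ h1, ← hz P₂ h2]
  -- the decomposition
  have hdecomp : nonOne (⊤ : Subgroup A) =
      nonOne (Q : Subgroup A) ∪ Finset.univ.biUnion (fun P' : Sylow p A => nonOne (P' : Subgroup A)) := by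
    ext e
    simp only [Finset.mem_union, Finset.mem_biUnion, Finset.mem_univ, true_and, mem_nonOne,
      Subgroup.mem_top]
    constructor
    · intro he
      rcases horder e he with h | h
      · right
        have hpg : IsPGroup p (Subgroup.zpowers e) :=
          IsPGroup.of_card (n := 1) (by rw [Nat.card_zpowers, h, pow_one])
        obtain ⟨P', hP'⟩ := hpg.exists_le_sylow
        exact ⟨P', hP' (Subgroup.mem_zpowers e), he⟩
      · left
        have hpg : IsPGroup q (Subgroup.zpowers e) :=
          IsPGroup.of_card (n := 1) (by rw [Nat.card_zpowers, h, pow_one])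
        obtain ⟨Q', hQ'⟩ := hpg.exists_le_sylow
        rw [hQuniq Q'] at hQ'
        exact ⟨hQ' (Subgroup.mem_zpowers e), he⟩
    · rintro (h | ⟨P', h⟩)
      · exact h.2
      · exact h.2
  have hdisj : Disjoint (nonOne (Q : Subgroup A))
      (Finset.univ.biUnion (fun P' : Sylow p A => nonOne (P' : Subgroup A))) := by
    rw [Finset.disjoint_left]
    intro e he1 he2
    rw [mem_nonOne] at he1
    simp only [Finset.mem_biUnion, Finset.mem_univ, true_and, mem_nonOne] at he2
    obtain ⟨P', hP', _⟩ := he2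
    have h1 := hmemQ e he1.1 he1.2
    have h2 := hmemP P' e hP' he1.2
    exact hpq.ne (h2.symm.trans h1)
  have hpair : ((Finset.univ : Finset (Sylow p A)) : Set (Sylow p A)).PairwiseDisjoint
      (fun P' : Sylow p A => nonOne (P' : Subgroup A)) := by
    intro P₁ _ P₂ _ hne
    show Disjoint (nonOne (P₁ : Subgroup A)) (nonOne (P₂ : Subgroup A))
    rw [Finset.disjoint_left]
    intro e he1 he2
    rw [mem_nonOne] at he1 he2
    exact hne (hPuniq P₁ P₂ e he1.1 he2.1 he1.2)
  have hAtop : (⊤ : Subgroup A) ≠ ⊥ := by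
    intro h
    have := congrArg (fun H : Subgroup A => Nat.card H) h
    simp only [Subgroup.card_top, Subgroup.card_bot] at this
    rw [hcard] at this
    have := hp.one_lt; have := hq.one_lt; nlinarith
  have hQbot : (Q : Subgroup A) ≠ ⊥ := by
    intro h
    have := hcardQ Q
    rw [h, Subgroup.card_bot] at this
    exact hq.one_lt.ne this
  have hPbot : ∀ P' : Sylow p A, (P' : Subgroup A) ≠ ⊥ := by
    intro P' h
    have := hcardP P'
    rw [h, Subgroup.card_bot] at this
    exact hp.one_lt.ne this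
  have hpow : ∀ w : W, w ^ Nat.card (Sylow p A) = 1 := by
    intro w
    have h1 := prod_nonOne_smul hfpf (⊤ : Subgroup A) hAtop w
    rw [hdecomp, Finset.prod_union hdisj, Finset.prod_biUnion hpair,
      prod_nonOne_smul hfpf (Q : Subgroup A) hQbot w] at h1
    simp only [prod_nonOne_smul hfpf _ (hPbot _) w] at h1
    rw [Finset.prod_const, Finset.card_univ, mul_eq_left, inv_pow, inv_eq_one] at h1
    rw [Nat.card_eq_fintype_card]
    exact h1
  rcases (Nat.dvd_prime hq).mp hnp with h | h
  · obtain ⟨w, hw⟩ := exists_ne (1 : W)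
    have := hpow w
    rw [h, pow_one] at this
    exact hw this
  · rw [h] at hpow
    obtain ⟨w, hw1, hwfix⟩ := exists_fixed_ne_one_of_pgroup (A := A) (W := W) q (Q : Subgroup A)
      Q.isPGroup' hpow
    obtain ⟨⟨e, heQ⟩, he⟩ := (Subgroup.ne_bot_iff_exists_ne_one).mp hQbot
    have he1 : e ≠ 1 := fun h => he (Subtype.ext h)
    exact hw1 (hfpf e he1 w (hwfix e heQ))

/-- A finite group acting fixed-point-freely on a nontrivial finite abelian group is cyclic
provided it is commutative or its order is a product of two primes. -/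
theorem isCyclic_of_fpf [Finite A] [Finite W] [Nontrivial W]
    (hfpf : ∀ a : A, a ≠ 1 → ∀ w : W, a • w = w → w = 1)
    (hA : (∀ a b : A, a * b = b * a) ∨ ∃ p q : ℕ, p.Prime ∧ q.Prime ∧ Nat.card A = p * q) :
    IsCyclic A := by
  rcases hA with hA | ⟨p, q, hp, hq, hcard⟩
  · exact isCyclic_of_fpf_of_comm hfpf hA
  · rcases lt_trichotomy p q with h | h | h
    · exact isCyclic_of_fpf_of_card_eq_mul_lt hfpf p q hp hq h hcard
    · subst h
      haveI := Fact.mk hp
      have hc : IsMulCommutative A :=
        IsPGroup.isMulCommutative_of_card_eq_prime_sq (p := p) (by rw [hcard, sq])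
      exact isCyclic_of_fpf_of_comm hfpf (fun a b => hc.is_comm.comm a b)
    · exact isCyclic_of_fpf_of_card_eq_mul_lt hfpf q p hq hp h (by rw [hcard, mul_comm])

end FPF

end Cfsg.Agent.Lib.Helper02
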