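import Mathlib
import Cfsg.Agent.S0023
import Cfsg.Agent.S0041

set_option autoImplicit false

namespace Cfsg.Agent.Lib.Helper02

section FrobComplement
variable {G : Type*} [Group G] [Finite G]

/-- the order of an element acting fixed-point-freely on `K` does not divide `|K|` -/
theorem not_dvd_card_of_fpf (K : Subgroup G) [K.Normal] (e : G) (he1 : e ≠ 1)
    (hfpf : K ⊓ Subgroup.centralizer {e} = ⊥) (p : ℕ) [Fact p.Prime] (heo : orderOf e = p) :
    ¬ p ∣ Nat.card K := by
  intro hdvd
  set E : Subgroup G := Subgroup.zpowers e with hE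
  have hEp : IsPGroup p E := IsPGroup.of_card (n := 1) (by rw [hE, Nat.card_zpowers, heo, pow_one])
  letI : MulAction E K := MulAction.compHom K ((MulAut.conjNormal (H := K)).comp E.subtype)
  have h1 : (1 : K) ∈ MulAction.fixedPoints E K := by
    intro x
    show MulAut.conjNormal (x : G) (1 : K) = 1
    exact map_one _
  obtain ⟨b, hb, hne⟩ :=
    hEp.exists_fixed_point_of_prime_dvd_card_of_fixed_point (α := K) hdvd h1
  have h2 : MulAut.conjNormal e b = b := hb ⟨e, Subgroup.mem_zpowers e⟩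
  have h3 : (b : G) ∈ K ⊓ Subgroup.centralizer {e} := by
    refine ⟨b.2, ?_⟩
    show (b : G) ∈ Subgroup.centralizer {e}
    rw [Subgroup.mem_centralizer_iff]
    intro x hx
    rw [Set.mem_singleton_iff] at hx
    subst hx
    have := congrArg Subtype.val h2
    rw [MulAut.conjNormal_apply] at this
    calc x * (b : G) = x * b * x⁻¹ * x := by group
      _ = b * x := by rw [this]
  rw [hfpf, Subgroup.mem_bot] at h3
  exact hne (Subtype.ext h3).symm

/-- subgroups of a Frobenius complement have order coprime to the kernel -/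
theorem coprime_card_of_fpf (K H : Subgroup G) [K.Normal]
    (hfpf : ∀ h ∈ H, h ≠ 1 → K ⊓ Subgroup.centralizer {h} = ⊥)
    (E : Subgroup G) (hEH : E ≤ H) : (Nat.card E).Coprime (Nat.card K) := by
  apply Nat.Coprime.symm
  apply Nat.Coprime.symm
  refine Nat.coprime_of_dvd ?_
  intro p hp hpE hpK
  haveI := Fact.mk hp
  obtain ⟨e, he⟩ := exists_prime_orderOf_dvd_card' (G := E) p hpE
  have heo : orderOf (e : G) = p := by rw [Subgroup.orderOf_coe, he]
  have he1 : (e : G) ≠ 1 := by
    intro h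
    rw [h, orderOf_one] at heo
    exact hp.one_lt.ne heo
  exact not_dvd_card_of_fpf K (e : G) he1 (hfpf e (hEH e.2) he1) p heo hpK

/-- solvable subgroups of order `p * q` of a Frobenius complement are cyclic -/
theorem cyclic_of_card_mul_of_fpf (K H : Subgroup G) [K.Normal] (hK : K ≠ ⊥)
    (hfpf : ∀ h ∈ H, h ≠ 1 → K ⊓ Subgroup.centralizer {h} = ⊥)
    (E : Subgroup G) (hEH : E ≤ H) (hsolvE : Group.IsSolvable E)
    (p q : ℕ) (hp : p.Prime) (hq : q.Prime) (hE : Nat.card E = p * q) :
    IsCyclic E := by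
  have hcop : (Nat.card E).Coprime (Nat.card K) := coprime_card_of_fpf K H hfpf E hEH
  have hK1 : Nat.card K ≠ 1 := by
    intro h
    exact hK (Subgroup.card_eq_one.mp h)
  obtain ⟨r, hr, hrK⟩ := Nat.exists_prime_and_dvd hK1
  haveI := Fact.mk hr
  have hEK : E ≤ Subgroup.normalizer (K : Set G) := by
    rw [Subgroup.normalizer_eq_top]; exact le_top
  obtain ⟨Q, hQE⟩ := S0023.result E K hEK hcop (Or.inl hsolvE) r
  set Q' : Subgroup G := (Q : Subgroup K).map K.subtype with hQ'
  have hQ'K : Q' ≤ K := Subgroup.map_subtype_le _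
  have hQ'q : IsPGroup r Q' := Q.isPGroup'.map _
  have hQ'ne : Q' ≠ ⊥ := by
    rw [hQ', Ne, Subgroup.map_eq_bot_iff_of_injective _ K.subtype_injective]
    exact Q.ne_bot_of_dvd_card hrK
  set V : Subgroup G := Q' ⊓ Subgroup.centralizer (Q' : Set G) with hV
  haveI : IsMulCommutative V := by
    refine ⟨⟨fun a b => ?_⟩⟩
    apply Subtype.ext
    have h1 := (Subgroup.mem_centralizer_iff.mp b.2.2) a.1 a.2.1
    simpa using h1
  have hVne : V ≠ ⊥ := by
    haveI : Nontrivial Q' := (Subgroup.nontrivial_iff_ne_bot _).mpr hQ'ne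
    haveI := hQ'q.center_nontrivial
    obtain ⟨z, hz⟩ := exists_ne (1 : Subgroup.center Q')
    intro hbot
    have hzV : ((z : Q') : G) ∈ V := by
      refine ⟨(z : Q').2, ?_⟩
      show ((z : Q') : G) ∈ Subgroup.centralizer (Q' : Set G)
      rw [Subgroup.mem_centralizer_iff]
      intro x hx
      have := (Subgroup.mem_center_iff.mp z.2) ⟨x, hx⟩
      exact congrArg Subtype.val this
    rw [hbot, Subgroup.mem_bot] at hzV
    apply hz
    apply Subtype.ext
    apply Subtype.ext
    exact hzV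
  have hEV : E ≤ Subgroup.normalizer (V : Set G) := by
    rw [Subgroup.le_normalizer_iff]
    intro e he v hv
    have heN := hQE he
    refine ⟨(Subgroup.mem_normalizer_iff.mp heN v).mp hv.1, ?_⟩
    show e * v * e⁻¹ ∈ Subgroup.centralizer (Q' : Set G)
    rw [Subgroup.mem_centralizer_iff]
    intro x hx
    have hx' : e⁻¹ * x * e ∈ Q' := (Subgroup.mem_normalizer_iff''.mp heN x).mp hx
    have hcomm := (Subgroup.mem_centralizer_iff.mp hv.2) _ hx'
    calc x * (e * v * e⁻¹) = e * ((e⁻¹ * x * e) * v) * e⁻¹ := by group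
      _ = e * (v * (e⁻¹ * x * e)) * e⁻¹ := by rw [hcomm]
      _ = e * v * e⁻¹ * x := by group
  have hfpfV : ∀ e ∈ E, e ≠ 1 → V ⊓ Subgroup.centralizer {e} = ⊥ := by
    intro e he h1
    rw [eq_bot_iff, ← hfpf e (hEH he) h1]
    exact inf_le_inf_right _ (inf_le_left.trans hQ'K)
  exact S0041.result E V hVne hEV hfpfV (Or.inr ⟨p, q, hp, hq, hE⟩)

end FrobComplement

end Cfsg.Agent.Lib.Helper02
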