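import Mathlib
import Cfsg.Prelude.Def_LocalEven
import Cfsg.Agent.Lib.Helper02.PStab2
import Cfsg.Agent.Lib.Helper16.SL2Dickson9
import Cfsg.Agent.Lib.Helper90.Involves

set_option autoImplicit false

/-!
# Failure of (normalizer) `p`-stability involves `SL₂(p)`

* `involves_of_surjective`: `Involves` pulls back along surjections.
* `involves_SL2_of_quad`: a group acting faithfully on an elementary abelian `p`-group with a
  quadratic element outside every normal `p`-subgroup involves `SL₂(p)`.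
* `involves_SL2_of_quadG`: the same for a faithful action on a `p`-group.
* `exists_lift_of_normal`: Frattini lifting of a normal `p`-subgroup of a quotient.
-/

namespace Cfsg.Agent.Lib.Helper02.NPStab

open Cfsg Cfsg.Agent.Lib.Helper02.PStab

universe u v w

theorem involves_of_surjective {H : Type u} [Group H] {G : Type v} [Group G] {G' : Type w}
    [Group G'] (f : G →* G') (hf : Function.Surjective f) (h : Cfsg.Involves H G') :
    Cfsg.Involves H G := by
  obtain ⟨K, g, hg⟩ := Cfsg.Agent.Lib.Helper90.exists_hom_of_involves h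
  let K' : Subgroup G := K.comap f
  let f' : K' →* K := (f.comp K'.subtype).codRestrict K (fun x => x.2)
  refine Cfsg.Agent.Lib.Helper90.involves_of_hom K'.subtype (g.comp f')
    (Subgroup.subtype_injective _) ?_
  intro x
  obtain ⟨k, rfl⟩ := hg x
  obtain ⟨y, hy⟩ := hf k
  have hyK : y ∈ K' := by
    show f y ∈ K
    rw [hy]; exact k.2
  refine ⟨⟨y, hyK⟩, ?_⟩
  show g (f' ⟨y, hyK⟩) = g k
  congr 1
  exact Subtype.ext hy

variable {X : Type*} [Group X] {V : Type*} [CommGroup V]

/-- abstract form on an elementary abelian group -/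
theorem involves_SL2_of_quad [Finite X] [Finite V] {p : ℕ} [Fact p.Prime] (hp2 : p ≠ 2)
    (hV : ∀ v : V, v ^ p = 1) (φ : X →* MulAut V) (hφ : Function.Injective φ) (a : X)
    (hq : Quad φ a) (ha : ∀ N : Subgroup X, N.Normal → IsPGroup p N → a ∉ N) :
    Cfsg.Involves (Matrix.SpecialLinearGroup (Fin 2) (ZMod p)) X := by
  obtain ⟨g, hg⟩ := exists_conj_not_pGroup (p := p) a ha
  set b := g * a * g⁻¹ with hb
  set H₀ : Subgroup X := Subgroup.closure {a, b} with hH₀
  have haH : a ∈ H₀ := Subgroup.subset_closure (by simp)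
  have hbH : b ∈ H₀ := Subgroup.subset_closure (by simp)
  have hgen : Subgroup.closure {(⟨a, haH⟩ : H₀), ⟨b, hbH⟩} = ⊤ := by
    apply Subgroup.map_injective H₀.subtype_injective
    rw [MonoidHom.map_closure, ← MonoidHom.range_eq_map, Subgroup.range_subtype]
    have : (H₀.subtype '' {(⟨a, haH⟩ : H₀), ⟨b, hbH⟩}) = {a, b} := by
      rw [Set.image_pair]; rfl
    rw [this]
  have hφ₀ : Function.Injective (φ.comp H₀.subtype) := hφ.comp Subtype.val_injective
  obtain ⟨K, hK1, hK2, hK3, ψ, hψ⟩ := QuadTransport.exists_hom_SL2 (p := p) hV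
    (φ.comp H₀.subtype) hφ₀ ⟨a, haH⟩ ⟨b, hbH⟩ hgen hq (hq.conj g) hg
  have hap : (⟨a, haH⟩ : H₀) ^ p = 1 :=
    Subtype.ext (by rw [Subgroup.coe_pow]; exact hq.pow_eq_one hφ hV)
  have hbp : (⟨b, hbH⟩ : H₀) ^ p = 1 :=
    Subtype.ext (by rw [Subgroup.coe_pow]; exact (hq.conj g).pow_eq_one hφ hV)
  have hsec : Cfsg.Involves (Matrix.SpecialLinearGroup (Fin 2) (ZMod p)) H₀ :=
    Cfsg.Agent.Lib.Helper16.SL2Q.exists_section_sl2p (p := p) hp2 ψ ⟨a, haH⟩ ⟨b, hbH⟩
      ⟨1, by rw [pow_one]; exact hap⟩ ⟨1, by rw [pow_one]; exact hbp⟩ hgen hψ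
  exact Cfsg.Agent.Lib.Helper90.Involves.of_injective_right H₀.subtype
    (Subgroup.subtype_injective _) hsec

/-- abstract form on a `p`-group -/
theorem involves_SL2_of_quadG {P : Type*} [Group P] [Finite X] [Finite P] {p : ℕ} [Fact p.Prime]
    (hp2 : p ≠ 2) (hP : IsPGroup p P) (φ : X →* MulAut P) (hφ : Function.Injective φ) (a : X)
    (hq : QuadG φ a) (ha : ∀ N : Subgroup X, N.Normal → IsPGroup p N → a ∉ N) :
    Cfsg.Involves (Matrix.SpecialLinearGroup (Fin 2) (ZMod p)) X := by
  letI : CommGroup (P ⧸ frattini P) :=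
    { (inferInstance : Group (P ⧸ frattini P)) with
      mul_comm := Cfsg.Agent.Lib.Helper75.frattini_quotient_comm hP }
  have hVexp : ∀ v : P ⧸ frattini P, v ^ p = 1 := Cfsg.Agent.Lib.Helper75.frattini_quotient_pow hP
  set φb : X →* MulAut (P ⧸ frattini P) := (Cfsg.Agent.S4208.rho P).comp φ with hφb
  set Y : Subgroup X := φb.ker with hY
  have hYp : ∀ y ∈ Y, ∃ k : ℕ, y ^ (p ^ k) = 1 := by
    intro y hy
    have h1 : φ y ∈ (Cfsg.Agent.S4208.rho P).ker := by
      rw [MonoidHom.mem_ker]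
      exact hy
    obtain ⟨k, hk⟩ := Cfsg.Agent.Lib.Helper75.isPGroup_ker_rho hP ⟨φ y, h1⟩
    refine ⟨k, hφ ?_⟩
    rw [map_pow, map_one]
    exact congrArg Subtype.val hk
  set φ' : X ⧸ Y →* MulAut (P ⧸ frattini P) := QuotientGroup.kerLift φb with hφ'
  have hφ'inj : Function.Injective φ' := QuotientGroup.kerLift_injective φb
  have hquad : Quad φ' (QuotientGroup.mk a) := by
    intro v
    obtain ⟨x, rfl⟩ := QuotientGroup.mk_surjective v
    have e : ∀ z : P, φ' (QuotientGroup.mk a) (QuotientGroup.mk z) =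
        (QuotientGroup.mk (φ a z) : P ⧸ frattini P) := by
      intro z
      rw [hφ', QuotientGroup.kerLift_mk]
      rfl
    rw [e, div_eq_mul_inv, ← QuotientGroup.mk_inv, ← QuotientGroup.mk_mul, e, hq x]
  have ha' : ∀ N : Subgroup (X ⧸ Y), N.Normal → IsPGroup p N → (QuotientGroup.mk a : X ⧸ Y) ∉ N := by
    intro N hN hNp haN
    haveI := hN
    apply ha (N.comap (QuotientGroup.mk' Y)) inferInstance
    · intro n
      obtain ⟨k, hk⟩ := hNp ⟨QuotientGroup.mk (n : X), n.2⟩
      have h1 : (n : X) ^ (p ^ k) ∈ Y := by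
        rw [← QuotientGroup.eq_one_iff, QuotientGroup.mk_pow]
        exact congrArg Subtype.val hk
      obtain ⟨l, hl⟩ := hYp _ h1
      refine ⟨k + l, Subtype.ext ?_⟩
      rw [Subgroup.coe_pow, pow_add, pow_mul, hl]
      rfl
    · exact haN
  have h1 := involves_SL2_of_quad hp2 hVexp φ' hφ'inj (QuotientGroup.mk a) hquad ha'
  exact involves_of_surjective (QuotientGroup.mk' Y) (QuotientGroup.mk'_surjective Y) h1

/-- Frattini lifting: a normal `p`-subgroup of a homomorphic image is the image of a `p`-subgroup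
whose normalizer covers the image. -/
theorem exists_lift_of_normal {K : Type*} [Group K] [Finite K] {X : Type*} [Group X]
    (f : K →* X) (hf : Function.Surjective f) {p : ℕ} [Fact p.Prime] (Q : Subgroup X) [Q.Normal]
    (hQ : IsPGroup p Q) :
    ∃ P : Subgroup K, IsPGroup p P ∧ P.map f = Q ∧
      ∀ x : X, ∃ n ∈ Subgroup.normalizer (P : Set K), f n = x := by
  set Qt : Subgroup K := Q.comap f with hQt
  haveI : Qt.Normal := inferInstance
  obtain ⟨S⟩ : Nonempty (Sylow p Qt) := inferInstance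
  set P : Subgroup K := (S : Subgroup Qt).map Qt.subtype with hPdef
  have hPQt : P ≤ Qt := by
    rintro _ ⟨s, _, rfl⟩
    exact s.2
  have hPp : IsPGroup p P := S.isPGroup'.map _
  -- the image of `P` is `Q`
  have hmap : P.map f = Q := by
    apply le_antisymm
    · rintro _ ⟨s, hs, rfl⟩
      exact hPQt hs
    · -- `f` restricted to `Qt` maps onto `Q`
      let f' : Qt →* Q := f.subgroupComap Q
      have hf' : Function.Surjective f' := f.subgroupComap_surjective_of_surjective Q hf
      have h1 := (S.mapSurjective hf').is_maximal' (Q := ⊤) (hQ.to_subgroup ⊤) le_top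
      intro q hq
      have h2 : (⟨q, hq⟩ : Q) ∈ ((S.mapSurjective hf' : Sylow p Q) : Subgroup Q) := by
        rw [← h1]; trivial
      rw [Sylow.coe_mapSurjective] at h2
      obtain ⟨s, hs, hsq⟩ := h2
      refine ⟨(s : K), ⟨s, hs, rfl⟩, ?_⟩
      exact congrArg Subtype.val hsq
  refine ⟨P, hPp, hmap, ?_⟩
  intro x
  obtain ⟨k, rfl⟩ := hf x
  have htop : Subgroup.normalizer (P : Set K) ⊔ Qt = ⊤ := Sylow.normalizer_sup_eq_top S
  have hk : k ∈ Subgroup.normalizer (P : Set K) ⊔ Qt := by rw [htop]; trivial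
  rw [← SetLike.mem_coe, Subgroup.mul_normal, Set.mem_mul] at hk
  obtain ⟨n, hn, q, hq, rfl⟩ := hk
  have hfq : f q ∈ P.map f := by rw [hmap]; exact hq
  obtain ⟨s, hs, hsq⟩ := hfq
  refine ⟨n * s, Subgroup.mul_mem _ hn (Subgroup.le_normalizer hs), ?_⟩
  rw [map_mul, map_mul, hsq]

end Cfsg.Agent.Lib.Helper02.NPStab
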