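import Mathlib
import Cfsg.Agent.Lib.Helper16.SL2Dickson9

set_option autoImplicit false

/-!
# A copy of `SL₂(p)` inside `SL₂(F)` is conjugate to the standard one

`exists_plane`: if `S ≤ SL₂(F)` (`char F = p`) and `e : S ≃* SL₂(𝔽_p)`, then there is an
invertible matrix `A` with `A⁻¹ s A = e s` (entrywise cast to `F`) for all `s ∈ S`: the columns
of `A` span an `S`-invariant `𝔽_p`-plane with natural action.
-/

namespace Cfsg.Agent.Lib.Helper02.SL2Plane

open Matrix Cfsg.Agent.Lib.Helper16.SL2Q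

variable {F : Type*} [Field F] {p : ℕ} [Fact p.Prime] [CharP F p]

/-- generation of `SL₂(𝔽_p)` by two transvections -/
theorem eq_top_of_mem (H : Subgroup (Matrix.SpecialLinearGroup (Fin 2) (ZMod p)))
    (hu : uu (-1 : ZMod p) ∈ H) (hl : ll (1 : ZMod p) ∈ H) : H = ⊤ := by
  apply Cfsg.Agent.Lib.Helper07.eq_top_of_transvection_mem
  intro i j hij a
  fin_cases i <;> fin_cases j
  · exact absurd rfl hij
  · have h1 : Matrix.SpecialLinearGroup.transvection hij a = uu (-1 : ZMod p) ^ (-a).val := by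
      rw [uu_pow, ZMod.natCast_zmod_val]
      apply ext_entries <;>
        simp [Matrix.SpecialLinearGroup.transvection_coe, uu, Matrix.single_apply]
    rw [h1]
    exact H.pow_mem hu _
  · have h1 : Matrix.SpecialLinearGroup.transvection hij a = ll (1 : ZMod p) ^ a.val := by
      rw [ll_pow, ZMod.natCast_zmod_val]
      apply ext_entries <;>
        simp [Matrix.SpecialLinearGroup.transvection_coe, ll, Matrix.single_apply]
    rw [h1]
    exact H.pow_mem hl _
  · exact absurd rfl hij

theorem braid_std : uu (-1 : ZMod p) * ll (1 : ZMod p) * uu (-1 : ZMod p) =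
    ll (1 : ZMod p) * uu (-1 : ZMod p) * ll (1 : ZMod p) := by
  apply ext_entries <;> simp only [coe_mul_apply, uu_coe, ll_coe] <;> simp

theorem not_commute_std : uu (-1 : ZMod p) * ll (1 : ZMod p) ≠
    ll (1 : ZMod p) * uu (-1 : ZMod p) := by
  intro h
  have h1 := congrArg (fun g : Matrix.SpecialLinearGroup (Fin 2) (ZMod p) =>
    (g : Matrix (Fin 2) (Fin 2) (ZMod p)) 0 0) h
  simp only [coe_mul_apply, uu_coe, ll_coe] at h1
  simp at h1

/-- **Standard form of `SL₂(p) ≤ SL₂(F)`.** -/
theorem exists_plane {F : Type*} [Field F] {p : ℕ} [Fact p.Prime] [CharP F p] (hp : p ≠ 2)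
    (S : Subgroup (Matrix.SpecialLinearGroup (Fin 2) F))
    (e : S ≃* Matrix.SpecialLinearGroup (Fin 2) (ZMod p)) :
    ∃ (e' : S ≃* Matrix.SpecialLinearGroup (Fin 2) (ZMod p)) (A : Matrix (Fin 2) (Fin 2) F),
      A.det ≠ 0 ∧ ∀ s : S, ((s : Matrix.SpecialLinearGroup (Fin 2) F) : Matrix (Fin 2) (Fin 2) F) * A =
        A * ((e' s).1.map (ZMod.castHom (dvd_refl p) F)) := by
  classical
  set u₀ : Matrix.SpecialLinearGroup (Fin 2) (ZMod p) := uu (-1 : ZMod p) with hu₀
  set v₀ : Matrix.SpecialLinearGroup (Fin 2) (ZMod p) := ll (1 : ZMod p) with hv₀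
  set u : S := e.symm u₀ with hu
  set v : S := e.symm v₀ with hv
  set x : Matrix.SpecialLinearGroup (Fin 2) F := (u : Matrix.SpecialLinearGroup (Fin 2) F) with hx
  set y : Matrix.SpecialLinearGroup (Fin 2) F := (v : Matrix.SpecialLinearGroup (Fin 2) F) with hy
  have hu₀p : u₀ ^ p = 1 := by
    rw [hu₀, uu_pow, CharP.cast_eq_zero, zero_mul, uu_zero]
  have hv₀p : v₀ ^ p = 1 := by
    rw [hv₀, ll_pow, CharP.cast_eq_zero, zero_mul, ll_zero]
  have hxp : x ^ p ^ 1 = 1 := by
    rw [pow_one]
    have h1 : u ^ p = 1 := by rw [hu, ← map_pow, hu₀p, map_one]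
    have h2 := congrArg Subtype.val h1
    simp only [Subgroup.coe_pow, Subgroup.coe_one] at h2
    exact h2
  have hyp : y ^ p ^ 1 = 1 := by
    rw [pow_one]
    have h1 : v ^ p = 1 := by rw [hv, ← map_pow, hv₀p, map_one]
    have h2 := congrArg Subtype.val h1
    simp only [Subgroup.coe_pow, Subgroup.coe_one] at h2
    exact h2
  have htx : tr x = 2 := tr_eq_two_of_pow (p := p) x 1 hxp
  have hty : tr y = 2 := tr_eq_two_of_pow (p := p) y 1 hyp
  have hbraid : x * y * x = y * x * y := by
    have h1 : u * v * u = v * u * v := by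
      rw [hu, hv, ← map_mul, ← map_mul, ← map_mul, ← map_mul, braid_std]
    have h2 := congrArg Subtype.val h1
    simp only [Subgroup.coe_mul] at h2
    exact h2
  have hnc : x * y ≠ y * x := by
    intro h
    have h1 : u * v = v * u := Subtype.ext (by simpa only [Subgroup.coe_mul] using h)
    rw [hu, hv, ← map_mul, ← map_mul] at h1
    exact not_commute_std (e.symm.injective h1)
  have hc0 : tr (x * y) - 2 ≠ 0 := by
    intro h
    exact hnc (commute_of_tr_mul_eq_two x y htx hty (sub_eq_zero.mp h))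
  obtain ⟨G, G', h1, h2, hxG, hyG⟩ :=
    pair_normal_form x y htx hty (tr (x * y) - 2) (by ring) hc0
  set c := tr (x * y) - 2 with hc
  -- the braid relation forces `c = -1`
  have hc1 : c = -1 := by
    have e1 : ((x * y * x : Matrix.SpecialLinearGroup (Fin 2) F) : Matrix (Fin 2) (Fin 2) F) * G =
        G * (!![1, c; 0, 1] * !![1, 0; 1, 1] * !![1, c; 0, 1]) := by
      rw [Matrix.SpecialLinearGroup.coe_mul, Matrix.SpecialLinearGroup.coe_mul, Matrix.mul_assoc,
        hxG, ← Matrix.mul_assoc, Matrix.mul_assoc (x : Matrix (Fin 2) (Fin 2) F), hyG,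
        ← Matrix.mul_assoc, hxG]
      simp only [Matrix.mul_assoc]
    have e2 : ((y * x * y : Matrix.SpecialLinearGroup (Fin 2) F) : Matrix (Fin 2) (Fin 2) F) * G =
        G * (!![1, 0; 1, 1] * !![1, c; 0, 1] * !![1, 0; 1, 1]) := by
      rw [Matrix.SpecialLinearGroup.coe_mul, Matrix.SpecialLinearGroup.coe_mul, Matrix.mul_assoc,
        hyG, ← Matrix.mul_assoc, Matrix.mul_assoc (y : Matrix (Fin 2) (Fin 2) F), hxG,
        ← Matrix.mul_assoc, hyG]
      simp only [Matrix.mul_assoc]
    rw [hbraid, e2] at e1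
    have e3 := congrArg (fun M => G' * M) e1
    simp only [← Matrix.mul_assoc, h2, Matrix.one_mul] at e3
    have e4 := congrFun (congrFun e3 1) 0
    simp [Matrix.mul_apply, Fin.sum_univ_two] at e4
    linear_combination e4
  -- the subgroup of elements in standard form
  have hG'G : ∀ M N : Matrix (Fin 2) (Fin 2) F, G * M = G * N → M = N := by
    intro M N h
    have := congrArg (fun Z => G' * Z) h
    simpa only [← Matrix.mul_assoc, h2, Matrix.one_mul] using this
  let m : S → Matrix (Fin 2) (Fin 2) F := fun s =>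
    ((primeEmb (F := F) (p := p) (e s) : Matrix.SpecialLinearGroup (Fin 2) F) :
      Matrix (Fin 2) (Fin 2) F)
  have hm_mul : ∀ s t : S, m (s * t) = m s * m t := by
    intro s t
    show ((primeEmb (F := F) (p := p) (e (s * t)) : Matrix.SpecialLinearGroup (Fin 2) F) :
      Matrix (Fin 2) (Fin 2) F) = _
    rw [map_mul, map_mul, Matrix.SpecialLinearGroup.coe_mul]
  have hm_one : m 1 = 1 := by
    show ((primeEmb (F := F) (p := p) (e 1) : Matrix.SpecialLinearGroup (Fin 2) F) :
      Matrix (Fin 2) (Fin 2) F) = _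
    rw [map_one, map_one, Matrix.SpecialLinearGroup.coe_one]
  let T : Subgroup S :=
    { carrier := {s | ((s : Matrix.SpecialLinearGroup (Fin 2) F) : Matrix (Fin 2) (Fin 2) F) * G =
        G * m s}
      mul_mem' := by
        intro s t hs ht
        rw [Set.mem_setOf_eq] at hs ht ⊢
        rw [Subgroup.coe_mul, Matrix.SpecialLinearGroup.coe_mul, Matrix.mul_assoc, ht,
          ← Matrix.mul_assoc, hs, Matrix.mul_assoc, hm_mul]
      one_mem' := by
        rw [Set.mem_setOf_eq, hm_one, Subgroup.coe_one, Matrix.SpecialLinearGroup.coe_one,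
          Matrix.one_mul, Matrix.mul_one]
      inv_mem' := by
        intro s hs
        rw [Set.mem_setOf_eq] at hs ⊢
        have k1 : (((s⁻¹ : S) : Matrix.SpecialLinearGroup (Fin 2) F) : Matrix (Fin 2) (Fin 2) F) *
            ((s : Matrix.SpecialLinearGroup (Fin 2) F) : Matrix (Fin 2) (Fin 2) F) = 1 := by
          rw [← Matrix.SpecialLinearGroup.coe_mul, ← Subgroup.coe_mul, inv_mul_cancel,
            Subgroup.coe_one, Matrix.SpecialLinearGroup.coe_one]
        have k2 : m s * m s⁻¹ = 1 := by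
          rw [← hm_mul, mul_inv_cancel, hm_one]
        calc (((s⁻¹ : S) : Matrix.SpecialLinearGroup (Fin 2) F) : Matrix (Fin 2) (Fin 2) F) * G
            = (((s⁻¹ : S) : Matrix.SpecialLinearGroup (Fin 2) F) : Matrix (Fin 2) (Fin 2) F) *
                (G * (m s * m s⁻¹)) := by rw [k2, Matrix.mul_one]
          _ = (((s⁻¹ : S) : Matrix.SpecialLinearGroup (Fin 2) F) : Matrix (Fin 2) (Fin 2) F) *
                (((s : Matrix.SpecialLinearGroup (Fin 2) F) : Matrix (Fin 2) (Fin 2) F) * G) *
                m s⁻¹ := by rw [hs]; simp only [Matrix.mul_assoc]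
          _ = G * m s⁻¹ := by rw [← Matrix.mul_assoc, k1, Matrix.one_mul] }
  have hm_entry : ∀ (A : Matrix.SpecialLinearGroup (Fin 2) (ZMod p)) (i j : Fin 2),
      ((primeEmb (F := F) (p := p) A : Matrix.SpecialLinearGroup (Fin 2) F) :
        Matrix (Fin 2) (Fin 2) F) i j =
      ZMod.castHom (dvd_refl p) F ((A : Matrix (Fin 2) (Fin 2) (ZMod p)) i j) :=
    fun _ _ _ => rfl
  have hmemT : ∀ s : S, s ∈ T ↔
      ((s : Matrix.SpecialLinearGroup (Fin 2) F) : Matrix (Fin 2) (Fin 2) F) * G = G * m s :=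
    fun s => Iff.rfl
  have huT : u ∈ T := by
    rw [hmemT]
    show (x : Matrix (Fin 2) (Fin 2) F) * G = _
    rw [hxG, hc1]
    congr 1
    show _ = ((primeEmb (F := F) (p := p) (e u) : Matrix.SpecialLinearGroup (Fin 2) F) :
      Matrix (Fin 2) (Fin 2) F)
    rw [hu, MulEquiv.apply_symm_apply, hu₀]
    ext i j
    rw [hm_entry, uu_coe]
    fin_cases i <;> fin_cases j <;> simp
  have hvT : v ∈ T := by
    rw [hmemT]
    show (y : Matrix (Fin 2) (Fin 2) F) * G = _
    rw [hyG]
    congr 1
    show _ = ((primeEmb (F := F) (p := p) (e v) : Matrix.SpecialLinearGroup (Fin 2) F) :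
      Matrix (Fin 2) (Fin 2) F)
    rw [hv, MulEquiv.apply_symm_apply, hv₀]
    ext i j
    rw [hm_entry, ll_coe]
    fin_cases i <;> fin_cases j <;> simp
  have hTtop : T.map e.toMonoidHom = ⊤ := by
    apply eq_top_of_mem
    · exact ⟨u, huT, by rw [hu]; exact MulEquiv.apply_symm_apply e u₀⟩
    · exact ⟨v, hvT, by rw [hv]; exact MulEquiv.apply_symm_apply e v₀⟩
  refine ⟨e, G, ?_, ?_⟩
  · intro hdet
    have := congrArg Matrix.det h1
    rw [Matrix.det_mul, hdet, zero_mul, Matrix.det_one] at this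
    exact zero_ne_one this
  · intro s
    have hs : e s ∈ T.map e.toMonoidHom := by rw [hTtop]; trivial
    obtain ⟨t, ht, hts⟩ := hs
    have : t = s := e.injective hts
    subst this
    exact (hmemT t).1 ht

end Cfsg.Agent.Lib.Helper02.SL2Plane
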