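import Mathlib
import Cfsg.Prelude.Def_PLocal
import Cfsg.Prelude.Def_LocalEven
import Cfsg.Agent.Lib.Helper53.Qd
import Cfsg.Agent.Lib.Helper90.Involves

set_option autoImplicit false

/-!
# Recognition of `Qd(p)` as a split extension

`qd_of_split`: a group `E = W ⋊ T` with `W = ⟨w₁⟩ × ⟨w₂⟩` elementary abelian of order `p²` and
`T ≃ SL₂(p)` acting on `W` through the natural module (in the basis `w₁, w₂`) is isomorphic to
`Cfsg.qd p`.
-/

namespace Cfsg.Agent.Lib.Helper02.QdSplit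

open Cfsg.Agent.Lib.Helper53

variable {E : Type*} [Group E] {p : ℕ} [Fact p.Prime]

theorem pow_val_natCast {w : E} (h : w ^ p = 1) (n : ℕ) : w ^ ((n : ZMod p).val) = w ^ n := by
  rw [ZMod.val_natCast]
  exact (pow_eq_pow_mod n h).symm

theorem pow_eq_of_cast_eq {w : E} (h : w ^ p = 1) {m n : ℕ} (hmn : (m : ZMod p) = (n : ZMod p)) :
    w ^ m = w ^ n := by
  rw [← pow_val_natCast h m, ← pow_val_natCast h n, hmn]

/-- the parametrisation of `W` by `𝔽_p²` -/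
def theta (w₁ w₂ : E) (u : Fin 2 → ZMod p) : E := w₁ ^ (u 0).val * w₂ ^ (u 1).val

theorem theta_add {w₁ w₂ : E} (h1 : w₁ ^ p = 1) (h2 : w₂ ^ p = 1) (hc : w₁ * w₂ = w₂ * w₁)
    (u v : Fin 2 → ZMod p) : theta w₁ w₂ (u + v) = theta w₁ w₂ u * theta w₁ w₂ v := by
  unfold theta
  have hc' : Commute w₁ w₂ := hc
  have e1 : w₁ ^ ((u + v) 0).val = w₁ ^ (u 0).val * w₁ ^ (v 0).val := by
    rw [← pow_add]
    apply pow_eq_of_cast_eq h1
    rw [Pi.add_apply]
    push_cast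
    rw [ZMod.natCast_zmod_val, ZMod.natCast_zmod_val, ZMod.natCast_zmod_val]
  have e2 : w₂ ^ ((u + v) 1).val = w₂ ^ (u 1).val * w₂ ^ (v 1).val := by
    rw [← pow_add]
    apply pow_eq_of_cast_eq h2
    rw [Pi.add_apply]
    push_cast
    rw [ZMod.natCast_zmod_val, ZMod.natCast_zmod_val, ZMod.natCast_zmod_val]
  rw [e1, e2]
  have hcomm : w₁ ^ (v 0).val * w₂ ^ (u 1).val = w₂ ^ (u 1).val * w₁ ^ (v 0).val :=
    (hc'.pow_pow _ _)
  calc w₁ ^ (u 0).val * w₁ ^ (v 0).val * (w₂ ^ (u 1).val * w₂ ^ (v 1).val)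
      = w₁ ^ (u 0).val * (w₁ ^ (v 0).val * w₂ ^ (u 1).val) * w₂ ^ (v 1).val := by group
    _ = w₁ ^ (u 0).val * (w₂ ^ (u 1).val * w₁ ^ (v 0).val) * w₂ ^ (v 1).val := by rw [hcomm]
    _ = w₁ ^ (u 0).val * w₂ ^ (u 1).val * (w₁ ^ (v 0).val * w₂ ^ (v 1).val) := by group

theorem theta_natCast {w₁ w₂ : E} (h1 : w₁ ^ p = 1) (h2 : w₂ ^ p = 1) (i j : ℕ) :
    theta w₁ w₂ (![(i : ZMod p), (j : ZMod p)]) = w₁ ^ i * w₂ ^ j := by
  unfold theta
  simp only [Matrix.cons_val_zero, Matrix.cons_val_one]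
  rw [pow_val_natCast h1, pow_val_natCast h2]

/-- **Recognition of `Qd(p)`.** -/
theorem qd_of_split {E : Type*} [Group E] {p : ℕ} [Fact p.Prime] (W T : Subgroup E)
    (hWn : W.Normal) (hWT : W ⊓ T = ⊥) (hsup : W ⊔ T = ⊤) (w₁ w₂ : E) (hw₁ : w₁ ∈ W)
    (hw₂ : w₂ ∈ W) (h1 : w₁ ^ p = 1) (h2 : w₂ ^ p = 1) (hc : w₁ * w₂ = w₂ * w₁)
    (hgen : ∀ w ∈ W, ∃ i j : ℕ, w = w₁ ^ i * w₂ ^ j)
    (hind : ∀ i j : ℕ, w₁ ^ i * w₂ ^ j = 1 → p ∣ i ∧ p ∣ j)
    (ρ : T ≃* Matrix.SpecialLinearGroup (Fin 2) (ZMod p))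
    (hact : ∀ t : T, (t:E) * w₁ * (t:E)⁻¹ = w₁ ^ ((ρ t).1 0 0).val * w₂ ^ ((ρ t).1 1 0).val ∧
      (t:E) * w₂ * (t:E)⁻¹ = w₁ ^ ((ρ t).1 0 1).val * w₂ ^ ((ρ t).1 1 1).val) :
    Nonempty (E ≃* ↥(Cfsg.qd p)) := by
  classical
  have hc' : Commute w₁ w₂ := hc
  have hθW : ∀ u : Fin 2 → ZMod p, theta w₁ w₂ u ∈ W := fun u =>
    W.mul_mem (W.pow_mem hw₁ _) (W.pow_mem hw₂ _)
  -- the action
  have hconj : ∀ (t : T) (u : Fin 2 → ZMod p),
      (t : E) * theta w₁ w₂ u * (t : E)⁻¹ = theta w₁ w₂ (ρ t • u) := by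
    intro t u
    obtain ⟨ha1, ha2⟩ := hact t
    set A := ((ρ t).1 0 0).val with hA
    set B := ((ρ t).1 0 1).val with hB
    set C := ((ρ t).1 1 0).val with hC
    set D := ((ρ t).1 1 1).val with hD
    have hAc : ((A : ℕ) : ZMod p) = (ρ t).1 0 0 := ZMod.natCast_zmod_val _
    have hBc : ((B : ℕ) : ZMod p) = (ρ t).1 0 1 := ZMod.natCast_zmod_val _
    have hCc : ((C : ℕ) : ZMod p) = (ρ t).1 1 0 := ZMod.natCast_zmod_val _
    have hDc : ((D : ℕ) : ZMod p) = (ρ t).1 1 1 := ZMod.natCast_zmod_val _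
    have e1 : (t : E) * theta w₁ w₂ u * (t : E)⁻¹ =
        ((t : E) * w₁ * (t : E)⁻¹) ^ (u 0).val * ((t : E) * w₂ * (t : E)⁻¹) ^ (u 1).val := by
      unfold theta
      rw [conj_pow, conj_pow]
      group
    rw [e1, ha1, ha2]
    have hc1 : Commute (w₁ ^ A) (w₂ ^ C) := hc'.pow_pow _ _
    have hc2 : Commute (w₁ ^ B) (w₂ ^ D) := hc'.pow_pow _ _
    rw [hc1.mul_pow, hc2.mul_pow, ← pow_mul, ← pow_mul, ← pow_mul, ← pow_mul]
    have hc3 : w₂ ^ (C * (u 0).val) * w₁ ^ (B * (u 1).val) =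
        w₁ ^ (B * (u 1).val) * w₂ ^ (C * (u 0).val) := ((hc'.pow_pow _ _).symm)
    have e2 : w₁ ^ (A * (u 0).val) * w₂ ^ (C * (u 0).val) *
        (w₁ ^ (B * (u 1).val) * w₂ ^ (D * (u 1).val)) =
        w₁ ^ (A * (u 0).val + B * (u 1).val) * w₂ ^ (C * (u 0).val + D * (u 1).val) := by
      rw [pow_add, pow_add]
      calc w₁ ^ (A * (u 0).val) * w₂ ^ (C * (u 0).val) *
            (w₁ ^ (B * (u 1).val) * w₂ ^ (D * (u 1).val))
          = w₁ ^ (A * (u 0).val) * (w₂ ^ (C * (u 0).val) * w₁ ^ (B * (u 1).val)) *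
              w₂ ^ (D * (u 1).val) := by group
        _ = w₁ ^ (A * (u 0).val) * (w₁ ^ (B * (u 1).val) * w₂ ^ (C * (u 0).val)) *
              w₂ ^ (D * (u 1).val) := by rw [hc3]
        _ = _ := by group
    rw [e2]
    unfold theta
    congr 1
    · apply pow_eq_of_cast_eq h1
      push_cast
      rw [hAc, hBc, ZMod.natCast_zmod_val, ZMod.natCast_zmod_val, ZMod.natCast_zmod_val,
        sl2_smul_apply]
    · apply pow_eq_of_cast_eq h2
      push_cast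
      rw [hCc, hDc, ZMod.natCast_zmod_val, ZMod.natCast_zmod_val, ZMod.natCast_zmod_val,
        sl2_smul_apply]
  -- the homomorphism from `Qd(p)` onto `E`
  let Ξ : ↥(Cfsg.qdOver (ZMod p)) →* E := MonoidHom.mk'
    (fun M => theta w₁ w₂ (qtrans M) * ((ρ.symm (qlin M) : T) : E)) (by
      intro M N
      have e1 : qtrans (M * N) = qtrans M + qlin M • qtrans N := by
        rw [qtrans_mul, add_comm]
      have e2 : theta w₁ w₂ (qlin M • qtrans N) =
          ((ρ.symm (qlin M) : T) : E) * theta w₁ w₂ (qtrans N) * ((ρ.symm (qlin M) : T) : E)⁻¹ := by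
        rw [hconj, MulEquiv.apply_symm_apply]
      show theta w₁ w₂ (qtrans (M * N)) * ((ρ.symm (qlin (M * N)) : T) : E) = _
      rw [e1, theta_add h1 h2 hc, e2, map_mul, map_mul, Subgroup.coe_mul]
      group)
  have hΞ : ∀ M, Ξ M = theta w₁ w₂ (qtrans M) * ((ρ.symm (qlin M) : T) : E) := fun M => rfl
  have hinj : Function.Injective Ξ := by
    rw [injective_iff_map_eq_one]
    intro M hM
    rw [hΞ] at hM
    have h3 : theta w₁ w₂ (qtrans M) = ((ρ.symm (qlin M) : T) : E)⁻¹ := eq_inv_of_mul_eq_one_left hM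
    have h4 : theta w₁ w₂ (qtrans M) ∈ W ⊓ T :=
      ⟨hθW _, by rw [h3]; exact T.inv_mem (ρ.symm (qlin M)).2⟩
    rw [hWT, Subgroup.mem_bot] at h4
    obtain ⟨hd0, hd1⟩ := hind _ _ h4
    have hz0 : qtrans M 0 = 0 := by
      rw [← ZMod.val_eq_zero]
      exact Nat.eq_zero_of_dvd_of_lt hd0 (ZMod.val_lt _)
    have hz1 : qtrans M 1 = 0 := by
      rw [← ZMod.val_eq_zero]
      exact Nat.eq_zero_of_dvd_of_lt hd1 (ZMod.val_lt _)
    have hz : qtrans M = 0 := by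
      ext i
      fin_cases i
      · exact hz0
      · exact hz1
    rw [h4, one_mul] at hM
    have h5 : ρ.symm (qlin M) = 1 := Subtype.ext hM
    have h6 : qlin M = 1 := by
      have := congrArg ρ h5
      rwa [MulEquiv.apply_symm_apply, map_one] at this
    rw [q_decomp M, hz, h6, qtr_zero, map_one, one_mul]
  have hsurj : Function.Surjective Ξ := by
    intro x
    have hx : x ∈ W ⊔ T := by rw [hsup]; trivial
    rw [← SetLike.mem_coe, Subgroup.normal_mul, Set.mem_mul] at hx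
    obtain ⟨w, hw, t, ht, rfl⟩ := hx
    obtain ⟨i, j, rfl⟩ := hgen w hw
    refine ⟨qtr ![(i : ZMod p), (j : ZMod p)] * qemb (ρ ⟨t, ht⟩), ?_⟩
    have e1 : qtrans (qtr ![(i : ZMod p), (j : ZMod p)] * qemb (ρ ⟨t, ht⟩)) =
        ![(i : ZMod p), (j : ZMod p)] := by
      rw [qtrans_mul, qtrans_qemb, smul_zero, zero_add, qtrans_qtr]
    have e2 : qlin (qtr ![(i : ZMod p), (j : ZMod p)] * qemb (ρ ⟨t, ht⟩)) = ρ ⟨t, ht⟩ := by
      rw [map_mul, qlin_qtr, one_mul, qlin_qemb]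
    rw [hΞ, e1, e2, MulEquiv.symm_apply_apply, theta_natCast h1 h2]
  exact ⟨(MulEquiv.ofBijective Ξ ⟨hinj, hsurj⟩).symm⟩


/-! ### The surjection form -/

section surj

open Matrix

variable {p : ℕ} [Fact p.Prime]

/-- linear automorphisms as automorphisms of the multiplicative copy -/
def linToMulAut (V : Type*) [AddCommGroup V] [Module (ZMod p) V] :
    (V ≃ₗ[ZMod p] V) →* MulAut (Multiplicative V) where
  toFun e := AddEquiv.toMultiplicative e.toAddEquiv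
  map_one' := rfl
  map_mul' _ _ := rfl

/-- translations as a homomorphism -/
def qtrHom : Multiplicative (Fin 2 → ZMod p) →* ↥(Cfsg.qdOver (ZMod p)) where
  toFun m := qtr (Multiplicative.toAdd m)
  map_one' := qtr_zero
  map_mul' a b := qtr_add _ _

/-- **Recognition of `Qd(p)`, surjection form.** -/
theorem involves_qd_of_split {G : Type*} [Group G] {p : ℕ} [Fact p.Prime]
    (ι : Multiplicative (Fin 2 → ZMod p) →* G) (hι : Function.Injective ι) (T : Subgroup G)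
    (σ : T →* Matrix.SpecialLinearGroup (Fin 2) (ZMod p)) (hσ : Function.Surjective σ)
    (hact : ∀ (t : T) (v : Fin 2 → ZMod p), (t : G) * ι (Multiplicative.ofAdd v) * (t : G)⁻¹ =
      ι (Multiplicative.ofAdd ((σ t).1 *ᵥ v)))
    (hdisj : ι.range ⊓ T = ⊥) : Cfsg.Involves ↥(Cfsg.qd p) G := by
  classical
  let φ : T →* MulAut (Multiplicative (Fin 2 → ZMod p)) :=
    (linToMulAut (p := p) (Fin 2 → ZMod p)).comp
      ((Matrix.SpecialLinearGroup.toLin' (n := Fin 2) (R := ZMod p)).comp σ)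
  have hφ : ∀ (t : T) (v : Fin 2 → ZMod p),
      φ t (Multiplicative.ofAdd v) = Multiplicative.ofAdd ((σ t).1 *ᵥ v) := by
    intro t v
    rfl
  have h₁ : ∀ t : T, ι.comp (φ t).toMonoidHom =
      (MulAut.conj (T.subtype t)).toMonoidHom.comp ι := by
    intro t
    apply MonoidHom.ext
    intro m
    obtain ⟨v, rfl⟩ : ∃ v, Multiplicative.ofAdd v = m := ⟨Multiplicative.toAdd m, rfl⟩
    show ι (φ t (Multiplicative.ofAdd v)) = (t : G) * ι (Multiplicative.ofAdd v) * (t : G)⁻¹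
    rw [hφ, hact]
  have h₂ : ∀ t : T, (qtrHom (p := p)).comp (φ t).toMonoidHom =
      (MulAut.conj (((qemb (F := ZMod p)).comp σ) t)).toMonoidHom.comp (qtrHom (p := p)) := by
    intro t
    apply MonoidHom.ext
    intro m
    obtain ⟨v, rfl⟩ : ∃ v, Multiplicative.ofAdd v = m := ⟨Multiplicative.toAdd m, rfl⟩
    show qtrHom (φ t (Multiplicative.ofAdd v)) =
      qemb (σ t) * qtr v * (qemb (σ t))⁻¹
    rw [hφ, qemb_conj_qtr]
    rfl
  let L1 : Multiplicative (Fin 2 → ZMod p) ⋊[φ] T →* G := SemidirectProduct.lift ι T.subtype h₁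
  let L2 : Multiplicative (Fin 2 → ZMod p) ⋊[φ] T →* ↥(Cfsg.qdOver (ZMod p)) :=
    SemidirectProduct.lift (qtrHom (p := p)) ((qemb (F := ZMod p)).comp σ) h₂
  have hL1 : ∀ x, L1 x = ι x.left * (x.right : G) := fun x => rfl
  have hL2 : ∀ x, L2 x = qtr (Multiplicative.toAdd x.left) * qemb (σ x.right) := fun x => rfl
  have hinj : Function.Injective L1 := by
    rw [injective_iff_map_eq_one]
    intro x hx
    rw [hL1] at hx
    have h3 : ι x.left = ((x.right : G))⁻¹ := eq_inv_of_mul_eq_one_left hx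
    have h4 : ι x.left ∈ ι.range ⊓ T := ⟨⟨_, rfl⟩, by rw [h3]; exact T.inv_mem x.right.2⟩
    rw [hdisj, Subgroup.mem_bot] at h4
    have h5 : x.left = 1 := hι (by rw [h4, map_one])
    rw [h4, one_mul] at hx
    have h6 : x.right = 1 := Subtype.ext hx
    exact SemidirectProduct.ext h5 h6
  have hsurj : Function.Surjective L2 := by
    intro M
    obtain ⟨t, ht⟩ := hσ (qlin M)
    refine ⟨⟨Multiplicative.ofAdd (qtrans M), t⟩, ?_⟩
    rw [hL2]
    show qtr (qtrans M) * qemb (σ t) = M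
    rw [ht, ← q_decomp]
  exact Cfsg.Agent.Lib.Helper90.involves_of_hom L1 L2 hinj hsurj

end surj

end Cfsg.Agent.Lib.Helper02.QdSplit
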