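import Mathlib
import Cfsg.Prelude.Def_Local
import Cfsg.Agent.Lib.Helper01.PCore
import Cfsg.Agent.Lib.Helper01.PPrimeCore
import Cfsg.Agent.Lib.Helper15.PSolv
import Cfsg.Agent.Lib.Helper81.PSolvable

set_option autoImplicit false

/-!
# Dual Hall–Higman lemma

In a finite `p`-solvable group with `O_p(G) = 1`, `C_G(O_{p'}(G)) ≤ O_{p'}(G)`.
-/

namespace Cfsg.Agent.Lib.Helper02.HHDual

open Cfsg

/-- a finite group `D` with `O_p(D) = 1` which is (central `p'`)-by-`p` is a `p'`-group -/
theorem coprime_card_of_central_ext {D : Type*} [Group D] [Finite D] {p : ℕ} [hp : Fact p.Prime]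
    (hO : pCore p D = ⊥) {Q : Type*} [Group Q] (f : D →* Q)
    (hker : f.ker ≤ Subgroup.center D) (hQ : ∀ d : D, ∃ k : ℕ, f d ^ p ^ k = 1) :
    (Nat.card D).Coprime p := by
  have hrange : IsPGroup p f.range := by
    rintro ⟨q, d, rfl⟩
    obtain ⟨k, hk⟩ := hQ d
    exact ⟨k, Subtype.ext (by simpa using hk)⟩
  haveI : Finite f.range := Finite.of_surjective f.rangeRestrict f.rangeRestrict_surjective
  haveI hnilR : Group.IsNilpotent f.range := hrange.isNilpotent
  have hnil : Group.IsNilpotent D := by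
    apply isNilpotent_of_ker_le_center f.rangeRestrict
    rw [MonoidHom.ker_rangeRestrict]
    exact hker
  have hsyl : ∀ (q : ℕ) (_ : Fact q.Prime) (P : Sylow q D), (P : Subgroup D).Normal :=
    ((isNilpotent_of_finite_tfae (G := D)).out 0 3).mp hnil
  obtain ⟨P⟩ : Nonempty (Sylow p D) := inferInstance
  have hPn := hsyl p hp P
  have hPle : (P : Subgroup D) ≤ pCore p D := Cfsg.Agent.Lib.Helper01.le_pCore hPn P.2
  rw [hO, le_bot_iff] at hPle
  rw [Nat.coprime_comm, Nat.Prime.coprime_iff_not_dvd hp.out]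
  intro hdvd
  exact P.ne_bot_of_dvd_card hdvd hPle

theorem centralizer_pPrimeCore_le {G : Type*} [Group G] [Finite G] {p : ℕ} [hp : Fact p.Prime]
    (hG : IsPSolvable p G) (h : pCore p G = ⊥) :
    Subgroup.centralizer (pPrimeCore p G : Set G) ≤ pPrimeCore p G := by
  by_contra hcon
  set R := pPrimeCore p G with hR
  haveI hRn : R.Normal := Cfsg.Agent.Lib.Helper01.pPrimeCore_normal p
  set C := Subgroup.centralizer (R : Set G) with hC
  haveI hCn : C.Normal := Subgroup.normal_centralizer
  have hRcop : (Nat.card R).Coprime p := Cfsg.Agent.Lib.Helper01.pPrimeCore_card_coprime p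
  haveI hXn : (R ⊔ C).Normal := Subgroup.sup_normal R C
  have hne : R ≠ R ⊔ C := by
    intro he
    apply hcon
    rw [he]
    exact le_sup_right
  obtain ⟨Y, hYn, hRY, hYX, hRneY, hidx⟩ :=
    Cfsg.Agent.Lib.Helper81.IsPSolvable.exists_normal_between hp.out hG R (R ⊔ C) le_sup_left hne
  haveI := hYn
  have hcardY : Nat.card Y = Nat.card R * R.relIndex Y := by
    have h1 := Subgroup.card_mul_index (R.subgroupOf Y)
    rw [← h1, Subgroup.relIndex, Nat.card_congr (Subgroup.subgroupOfEquivOfLe hRY).toEquiv]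
  rcases hidx with ⟨m, hm⟩ | hcop
  · -- `Y / R` is a `p`-group
    set D := Y ⊓ C with hD
    haveI hDn : D.Normal := Subgroup.normal_inf_normal Y C
    have hOD : pCore p ↥D = ⊥ := by
      have h1 := Cfsg.Agent.Lib.Helper15.map_pCore_le_of_normal p D
      rw [h, le_bot_iff] at h1
      exact (Subgroup.map_eq_bot_iff_of_injective _ D.subtype_injective).mp h1
    have hDcop : (Nat.card D).Coprime p := by
      apply coprime_card_of_central_ext hOD ((QuotientGroup.mk' R).comp D.subtype)
      · intro z hz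
        rw [MonoidHom.mem_ker, MonoidHom.comp_apply, QuotientGroup.mk'_apply,
          QuotientGroup.eq_one_iff] at hz
        rw [Subgroup.mem_center_iff]
        intro d
        have hd : (d : G) ∈ C := d.2.2
        rw [hC, Subgroup.mem_centralizer_iff] at hd
        apply Subtype.ext
        rw [Subgroup.coe_mul, Subgroup.coe_mul]
        exact (hd (z : G) hz).symm
      · intro d
        refine ⟨m, ?_⟩
        rw [MonoidHom.comp_apply, ← map_pow, QuotientGroup.mk'_apply, QuotientGroup.eq_one_iff,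
          Subgroup.coe_subtype, ← hm]
        exact Subgroup.pow_relIndex_mem R d.2.1
    have hDR : D ≤ R := Cfsg.Agent.Lib.Helper01.le_pPrimeCore hDn hDcop
    apply hRneY
    apply le_antisymm hRY
    intro y hy
    have hy' : y ∈ R ⊔ C := hYX hy
    rw [← SetLike.mem_coe, Subgroup.normal_mul, Set.mem_mul] at hy'
    obtain ⟨r, hr, c, hc, rfl⟩ := hy'
    have hcY : c ∈ Y := by
      have : c = r⁻¹ * (r * c) := by group
      rw [this]
      exact Y.mul_mem (Y.inv_mem (hRY hr)) hy
    exact R.mul_mem hr (hDR ⟨hcY, hc⟩)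
  · -- `Y` is a normal `p'`-subgroup
    have hYcop : (Nat.card Y).Coprime p := by
      rw [hcardY]
      exact Nat.Coprime.mul_left hRcop hcop
    exact hRneY (le_antisymm hRY (Cfsg.Agent.Lib.Helper01.le_pPrimeCore hYn hYcop))

end Cfsg.Agent.Lib.Helper02.HHDual
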