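import Mathlib
import Cfsg.Prelude.Def_PLocal
import Cfsg.Prelude.Def_LocalEven
import Cfsg.Agent.Lib.Helper16.ZJ2
import Cfsg.Agent.Lib.Helper02.NPStab
import Cfsg.Agent.Lib.Helper90.Involves

set_option autoImplicit false

/-!
# From `StableFor` in all `H`-free groups to the normalizer form of `p`-stability
-/

namespace Cfsg.Agent.Lib.Helper02.QdFree

open Cfsg Cfsg.Agent.Lib.Helper16

universe u v

theorem mk_mem_pCore_congr {Y : Type*} [Group Y] {p : ℕ} (K K' : Subgroup Y) [hK : K.Normal]
    [hK' : K'.Normal] (h : K = K') (a : Y)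
    (ha : (QuotientGroup.mk a : Y ⧸ K) ∈ Cfsg.pCore p (Y ⧸ K)) :
    (QuotientGroup.mk a : Y ⧸ K') ∈ Cfsg.pCore p (Y ⧸ K') := by
  subst h
  exact ha

/-- `Involves` passes to sections -/
theorem not_involves_section {H : Type v} [Group H] {G : Type u} [Group G]
    (h : ¬ Cfsg.Involves H G) (K R : Subgroup G) [hR : (R.subgroupOf K).Normal] :
    ¬ Cfsg.Involves H (K ⧸ R.subgroupOf K) := by
  intro h1
  apply h
  have h2 := Cfsg.Agent.Lib.Helper02.NPStab.involves_of_surjective
    (QuotientGroup.mk' (R.subgroupOf K)) (QuotientGroup.mk'_surjective _) h1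
  exact Cfsg.Agent.Lib.Helper90.Involves.of_injective_right K.subtype
    (Subgroup.subtype_injective K) h2

theorem not_involves_subgroup {H : Type v} [Group H] {G : Type u} [Group G]
    (h : ¬ Cfsg.Involves H G) (K : Subgroup G) : ¬ Cfsg.Involves H K := by
  intro h1
  exact h (Cfsg.Agent.Lib.Helper90.Involves.of_injective_right K.subtype
    (Subgroup.subtype_injective K) h1)

/-- stability of the action on normal `p`-subgroups in all `H`-free groups gives the normalizer
form of `p`-stability. -/
theorem isNormalizerPStable_of_stableFor {H : Type v} [Group H] {p : ℕ}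
    (hstab : ∀ (Y : Type u) [Group Y] [Finite Y], ¬ Cfsg.Involves H Y →
      ∀ P : Subgroup Y, ZJ.StableFor p P)
    {X : Type u} [Group X] [Finite X] (hX : ¬ Cfsg.Involves H X) :
    Cfsg.IsNormalizerPStable p X := by
  intro Q hQ g hg hquad
  set N : Subgroup X := Subgroup.normalizer (Q : Set X) with hN
  have hY : ¬ Cfsg.Involves H N := not_involves_subgroup hX N
  set V : Subgroup N := Q.subgroupOf N with hV
  haveI hVn : V.Normal := Subgroup.normal_in_normalizer
  have hVp : IsPGroup p V := hQ.comap_subtype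
  have hVmap : V.map N.subtype = Q := by
    rw [hV, Subgroup.map_subgroupOf_eq_of_le Subgroup.le_normalizer]
  have hq : ⁅⁅V, Subgroup.zpowers (⟨g, hg⟩ : N)⁆, Subgroup.zpowers (⟨g, hg⟩ : N)⁆ = ⊥ := by
    apply (Subgroup.map_eq_bot_iff_of_injective _ (Subgroup.subtype_injective N)).1
    rw [Subgroup.map_commutator, Subgroup.map_commutator, MonoidHom.map_zpowers, hVmap]
    exact hquad
  have h1 := hstab N hY ⊤ V hVp ⟨g, hg⟩ (Subgroup.mem_top _) hq
  have hK : Subgroup.centralizer (V : Set N) =
      (Subgroup.centralizer (Q : Set X)).subgroupOf N := by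
    ext c
    rw [Subgroup.mem_subgroupOf, Subgroup.mem_centralizer_iff, Subgroup.mem_centralizer_iff]
    constructor
    · intro h x hx
      have := h ⟨x, Subgroup.le_normalizer hx⟩ (by
        rw [SetLike.mem_coe, hV, Subgroup.mem_subgroupOf]; exact hx)
      exact congrArg Subtype.val this
    · intro h x hx
      rw [SetLike.mem_coe, hV, Subgroup.mem_subgroupOf] at hx
      exact Subtype.ext (h x hx)
  exact mk_mem_pCore_congr _ _ hK _ h1

end Cfsg.Agent.Lib.Helper02.QdFree
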