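import Mathlib
import Cfsg.Agent.Lib.Helper41.SecFusionMain

/-!
# Control of strong fusion in `G` itself by a functor normal in the constrained sections

A repackaging of `Lib.Helper41.secF_main` for a single functor, stated for `G` and an arbitrary Sylow
`p`-subgroup of `G` (instead of sections `K / R`).
-/

set_option autoImplicit false
universe u
open Cfsg
open Cfsg.Agent.Lib.Helper41

namespace Cfsg.Agent.Lib.Helper02.SecCtl

theorem fchain_prod_mem' {G : Type*} [Group G] {K : Set G} {M N : Subgroup G} (hK : K ⊆ N) :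
    ∀ (L : List G) (A : Set G), FChain K M A L → L.prod ∈ N := by
  intro L
  induction L with
  | nil => intro A _; simpa using N.one_mem
  | cons y L ih =>
    intro A h
    rw [List.prod_cons]
    exact N.mul_mem (hK h.2.1) (ih _ h.2.2)

/-- If the iso-invariant functor `W` is normal in every section `G*` of `G` with
`C(O_p(G*)) ≤ O_p(G*)` (at some Sylow subgroup), then `N_G(W(P))` controls strong fusion in every
Sylow `p`-subgroup `P` of `G`. -/
theorem controls_of_normal_in_sections {G : Type u} [Group G] [Finite G] {p : ℕ} [Fact p.Prime]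
    (W : ∀ (Q : Type u) [Group Q], Subgroup Q) (hW : Cfsg.IsCharPFunctor.{u} p W)
    (hloc : ∀ (K R : Subgroup G) [hR : (R.subgroupOf K).Normal],
      Subgroup.centralizer ((Cfsg.pCore p (↥K ⧸ R.subgroupOf K) :
        Subgroup (↥K ⧸ R.subgroupOf K)) : Set (↥K ⧸ R.subgroupOf K)) ≤
          Cfsg.pCore p (↥K ⧸ R.subgroupOf K) →
      ∃ T : Sylow p (↥K ⧸ R.subgroupOf K),
        (Cfsg.inducedFunctor (G := (↥K ⧸ R.subgroupOf K)) W
          ((T : Subgroup (↥K ⧸ R.subgroupOf K)))).Normal)
    (P : Sylow p G) (A : Set G) (hA : A ⊆ ((P : Subgroup G) : Set G)) (g : G)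
    (hAg : (fun a => g⁻¹ * a * g) '' A ⊆ ((P : Subgroup G) : Set G)) :
    ∃ n ∈ Subgroup.normalizer ((Cfsg.inducedFunctor (G := G) W (P : Subgroup G) : Subgroup G) : Set G),
      ∀ a ∈ A, n⁻¹ * a * n = g⁻¹ * a * g := by
  have h𝓦 : ∀ W' ∈ ({W} : Set (∀ (Q : Type u) [Group Q], Subgroup Q)),
      Cfsg.IsCharPFunctor.{u} p W' := by
    intro W' hW'
    rw [Set.mem_singleton_iff.mp hW']; exact hW
  have hsec : SecAll (ConstrainedF p {W}) G := by
    intro K R hR hcon
    obtain ⟨T, hn⟩ := hloc K R hcon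
    have hNtop : Subgroup.normalizer ((Cfsg.inducedFunctor (G := (↥K ⧸ R.subgroupOf K)) W
        (T : Subgroup (↥K ⧸ R.subgroupOf K)) : Subgroup (↥K ⧸ R.subgroupOf K)) :
          Set (↥K ⧸ R.subgroupOf K)) = ⊤ := Subgroup.normalizer_eq_top_iff.mpr hn
    refine ⟨T, le_top, T.2, sylow_relIndex_top T, fun A h _ hA hhA => ?_⟩
    refine ⟨1, fun i => if i = 0 then 1 else h, by simp, ?_, ?_, ?_⟩
    · intro i
      refine ⟨Cfsg.inducedFunctor (G := (↥K ⧸ R.subgroupOf K)) W, ⟨W, rfl, rfl⟩, ?_⟩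
      rw [hNtop]
      exact ⟨trivial, trivial⟩
    · intro i
      by_cases hi : i = 0
      · simp only [hi, if_true]
        rintro _ ⟨a, ha, rfl⟩
        simpa using hA ha
      · simp only [hi, if_false]
        exact hhA
    · intro a _
      have : (Fin.last 1) ≠ 0 := by decide
      simp only [this, if_false]
  have hiso : IsoInv (GoodF p ({W} : Set (∀ (Q : Type u) [Group Q], Subgroup Q))) :=
    fun Y Z _ _ _ e h => GoodF.of_equiv h𝓦 e h
  have hgood : GoodF p ({W} : Set (∀ (Q : Type u) [Group Q], Subgroup Q)) G :=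
    SecAll.top hiso (secF_main h𝓦 G hsec)
  have hFC := fctrlAt_of_controls (isConjugacyFunctor_indFam h𝓦 G) hgood
    (M := (P : Subgroup G)) le_top P.2 (sylow_relIndex_top P)
  obtain ⟨L, hL, hag⟩ := hFC A g trivial hA hAg
  have hKN : stepSet (indFam {W} G) ⊤ (P : Subgroup G) ⊆
      (Subgroup.normalizer ((Cfsg.inducedFunctor (G := G) W (P : Subgroup G) : Subgroup G) : Set G) :
        Subgroup G) := by
    rintro y ⟨_, ⟨W', hW', rfl⟩, hy⟩
    rw [Set.mem_singleton_iff.mp hW'] at hy
    exact hy.2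
  exact ⟨L.prod, fchain_prod_mem' hKN L A hL, hag⟩

end Cfsg.Agent.Lib.Helper02.SecCtl
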