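import Mathlib
import Cfsg.Agent.S1394
import Cfsg.Agent.S1395
import Cfsg.Agent.S1396
import Cfsg.Agent.S1410
import Cfsg.Agent.S1411
import Cfsg.Agent.Lib.Helper71.BG11b
import Cfsg.Agent.Lib.Helper54.Subnormal
import Cfsg.Agent.Lib.Helper31.Bg10a
import Cfsg.Agent.Lib.Helper01.Commutator
import Cfsg.Agent.Lib.Helper91.BGFusion
import Cfsg.Agent.Lib.Helper55.Uniq2

set_option autoImplicit false
set_option linter.unusedSectionVars false

/-! Bender–Glauberman Lemma 12.4, the transfer step: a maximal elementary abelian subgroup `A` of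
order `p ^ 2` centralizing a Sylow `q`-subgroup `Q` of `G` lies in a Sylow `p`-subgroup contained in
the derived subgroup of `N_G(Q)`. -/

namespace Cfsg.Agent.Lib.Helper02.BG124

open Cfsg Cfsg.Agent.Lib.Helper55 Cfsg.Agent.Lib.Helper31

variable {G : Type*} [Group G] [Finite G]

/-- `A = Ω₁(C_G(A))` for a maximal elementary abelian subgroup. -/
theorem mem_of_cent_of_max {p : ℕ} [Fact p.Prime] {A : Subgroup G} (hA : IsElementaryAbelian p A)
    (hAmax : ∀ B : Subgroup G, IsElementaryAbelian p B → A ≤ B → B = A) {x : G}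
    (hx : x ∈ Subgroup.centralizer (A : Set G)) (hxp : x ^ p = 1) : x ∈ A := by
  have hZ : IsElementaryAbelian p (Subgroup.zpowers x) := by
    refine ⟨inferInstance, ?_⟩
    intro y hy
    obtain ⟨k, rfl⟩ := Subgroup.mem_zpowers_iff.mp hy
    rw [← zpow_natCast, ← zpow_mul, mul_comm, zpow_mul, zpow_natCast, hxp, one_zpow]
  have hc : ∀ a ∈ A, ∀ b ∈ Subgroup.zpowers x, a * b = b * a := by
    intro a ha b hb
    obtain ⟨k, rfl⟩ := Subgroup.mem_zpowers_iff.mp hb
    have h1 : Commute a x := (Subgroup.mem_centralizer_iff.mp hx a ha)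
    exact (h1.zpow_right k).eq
  have h2 := hAmax _ (Cfsg.Agent.Lib.Helper99.isEA_sup hA hZ hc) le_sup_left
  rw [← h2]
  exact (le_sup_right : Subgroup.zpowers x ≤ A ⊔ Subgroup.zpowers x) (Subgroup.mem_zpowers x)

/-- the transitivity hypothesis for a maximal elementary abelian subgroup of order `p ^ 2` -/
theorem transHyp_of_max (hG : IsMinSimpleOddOrder G) (p : ℕ) [Fact p.Prime] (A : Subgroup G)
    (hA : IsElementaryAbelian p A) (hA2 : Nat.card A = p ^ 2)
    (hAmax : ∀ B : Subgroup G, IsElementaryAbelian p B → A ≤ B → B = A) :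
    TransitivityHypothesis A := by
  have hpG : p ∣ Nat.card G :=
    dvd_trans (by rw [hA2]; exact dvd_pow_self p two_ne_zero) (Subgroup.card_subgroup_dvd_card A)
  exact Cfsg.Agent.S1396.result hG p hpG A (IsPGroup.of_card hA2) hA.1
    (Or.inl ⟨fun x hx => ⟨fun hxp => mem_of_cent_of_max hA hAmax hx hxp, fun hxA => hA.2 x hxA⟩,
      fun H hH => Cfsg.Agent.S1410.result hG p H hH⟩)

theorem le_centralizer_self_of_comm {A : Subgroup G} (hA : IsMulCommutative A) :
    A ≤ Subgroup.centralizer (A : Set G) := by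
  intro a ha
  rw [Subgroup.mem_centralizer_iff]
  intro b hb
  have := hA.is_comm.comm (⟨b, hb⟩ : A) ⟨a, ha⟩
  exact congrArg Subtype.val this

theorem not_rankLE_one (p : ℕ) [Fact p.Prime] (A : Subgroup G)
    (hA : IsElementaryAbelian p A) (hA2 : Nat.card A = p ^ 2) :
    ¬ RankLE 1 ↥(A ⊓ Subgroup.centralizer (A : Set G)) := by
  have hp : p.Prime := Fact.out
  intro h
  have hAC : A ⊓ Subgroup.centralizer (A : Set G) = A :=
    inf_eq_left.mpr (le_centralizer_self_of_comm hA.1)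
  have hcomm : IsMulCommutative (⊤ : Subgroup ↥(A ⊓ Subgroup.centralizer (A : Set G))) := by
    refine ⟨⟨?_⟩⟩
    rintro ⟨⟨a, ha⟩, h1⟩ ⟨⟨b, hb⟩, h2⟩
    apply Subtype.ext
    apply Subtype.ext
    show a * b = b * a
    have := hA.1.is_comm.comm (⟨a, ha.1⟩ : A) ⟨b, hb.1⟩
    exact congrArg Subtype.val this
  have h1 := h p hp (⊤ : Subgroup ↥(A ⊓ Subgroup.centralizer (A : Set G))) hcomm
    (by
      rintro ⟨a, ha⟩ -
      apply Subtype.ext
      simpa using hA.2 a ha.1)
  rw [Subgroup.card_top, hAC, hA2, pow_one] at h1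
  have : p < p ^ 2 := by
    calc p = p ^ 1 := (pow_one p).symm
      _ < p ^ 2 := Nat.pow_lt_pow_right hp.one_lt (by norm_num)
  omega

theorem le_normalizer_of_le_centralizer' {A Q : Subgroup G}
    (hQA : Q ≤ Subgroup.centralizer (A : Set G)) : A ≤ Subgroup.normalizer (Q : Set G) := by
  intro a ha
  apply Subgroup.centralizer_le_normalizer
  rw [Subgroup.mem_centralizer_iff]
  intro y hy
  exact (Subgroup.mem_centralizer_iff.mp (hQA hy) a ha).symm

/-- **BG 12.4, transfer step.** -/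
theorem exists_sylow_le_commutator_normalizer (hG : IsMinSimpleOddOrder G) (p : ℕ) [Fact p.Prime]
    (A : Subgroup G) (hA : IsElementaryAbelian p A) (hA2 : Nat.card A = p ^ 2)
    (hAmax : ∀ B : Subgroup G, IsElementaryAbelian p B → A ≤ B → B = A)
    (q : ℕ) [Fact q.Prime] (hqp : q ≠ p) (Q : Subgroup G) (hQ : IsPGroup q Q)
    (hQidx : ¬ q ∣ Q.index) (hQ1 : Q ≠ ⊥) (hQA : Q ≤ Subgroup.centralizer (A : Set G)) :
    ∃ P : Sylow p G, A ≤ (P : Subgroup G) ∧
      (P : Subgroup G) ≤ ⁅Subgroup.normalizer (Q : Set G), Subgroup.normalizer (Q : Set G)⁆ := by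
  have hp : p.Prime := Fact.out
  have hq : q.Prime := Fact.out
  have hTH := transHyp_of_max hG p A hA hA2 hAmax
  have hAp : IsPGroup p A := IsPGroup.of_card hA2
  have hpA : p ∣ Nat.card A := by rw [hA2]; exact dvd_pow_self p two_ne_zero
  have hqA : ¬ q ∣ Nat.card A := by
    rw [hA2]
    intro h
    exact hqp ((Nat.prime_dvd_prime_iff_eq hq hp).mp (hq.dvd_of_dvd_pow h))
  have hZ := not_rankLE_one p A hA hA2
  have hqC : q ∣ Nat.card (Subgroup.centralizer (A : Set G)) := by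
    have h1 : q ∣ Nat.card Q := by
      obtain ⟨n, hn⟩ := IsPGroup.iff_card.mp hQ
      rw [hn]
      rcases n with _ | n
      · exfalso
        apply hQ1
        rw [pow_zero] at hn
        exact Subgroup.card_eq_one.mp hn
      · exact dvd_pow_self q (Nat.succ_ne_zero n)
    exact dvd_trans h1 (Subgroup.card_dvd_of_le hQA)
  have htr := Cfsg.Agent.S1394.result hG A hTH hZ q hq hqA hqC
  -- a Sylow `p`-subgroup over `A`
  obtain ⟨Ph, hAPh⟩ := hAp.exists_le_sylow
  have hPhp : IsPGroup p (Ph : Subgroup G) := Ph.2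
  have hPhtop : (Ph : Subgroup G) ≠ ⊤ := ms_pgroup_ne_top hG hPhp
  have hPhπ : ∀ r : ℕ, r.Prime → r ∣ Nat.card (Ph : Subgroup G) → r ∣ Nat.card A := by
    intro r hr hrS
    obtain ⟨k, hk⟩ := IsPGroup.iff_card.mp hPhp
    rw [hk] at hrS
    have : r = p := (Nat.prime_dvd_prime_iff_eq hr hp).mp (hr.dvd_of_dvd_pow hrS)
    rw [this]; exact hpA
  have hsn : (A.subgroupOf (Ph : Subgroup G)).IsSubnormal := by
    have hPG : IsPGroup p ↥(Ph : Subgroup G) := hPhp
    exact Cfsg.Agent.Lib.Helper54.isSubnormal_of_isPGroup hPG _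
  obtain ⟨_, _, hc, hd⟩ := Cfsg.Agent.S1395.result hG A hTH q hq hqA (Ph : Subgroup G) hPhtop hPhπ
    hAPh hsn htr
  obtain ⟨Q', hQ', -⟩ := exists_maxInv_ge (Ph : Subgroup G) {q} ⊥
    (bot_mem_invSubgroups (Ph : Subgroup G) {q})
  have hQ'A : Q' ∈ maxInvSubgroups ⊤ A {q} := hc hQ'
  have hQmem : Q ∈ maxInvSubgroups ⊤ A {q} :=
    Cfsg.Agent.Lib.Helper71.BG11.mem_maxInv_of_sylow A
      (Cfsg.Agent.Lib.Helper71.BG11.isSylowIn_top_of_not_dvd_index hQ hQidx)
      (le_normalizer_of_le_centralizer' hQA)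
  obtain ⟨k, hk, hQk⟩ := htr Q hQmem Q' hQ'A
  have hkC : k ∈ Subgroup.centralizer (A : Set G) := KK_le_centralizer A hk
  -- `Ph ≤ N(Ph)'`
  have hloc : Cfsg.Agent.Lib.Helper91.BGFusion.LocCtl p G :=
    Cfsg.Agent.Lib.Helper91.BGFusion.ms_locCtl hG (fun H hH => Cfsg.Agent.S1410.result hG p H hH)
  have h1 := Cfsg.Agent.Lib.Helper91.BGFusion.sylow_le_commutator_normalizer hloc Ph
    (Cfsg.Agent.Lib.Helper91.BGFusion.ms_perfect hG)
  have h2 : (Ph : Subgroup G) ≤ ⁅Subgroup.normalizer ((Ph : Subgroup G) : Set G),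
      Subgroup.normalizer ((Ph : Subgroup G) : Set G)⁆ :=
    le_trans h1 (Subgroup.commutator_mono Subgroup.le_normalizer le_rfl)
  have h3 : (Ph : Subgroup G) ≤ ⁅Subgroup.normalizer (Q' : Set G), Subgroup.normalizer (Q' : Set G)⁆ :=
    le_trans (le_inf le_rfl h2) (hd Q' hQ').1
  -- conjugate back by `k⁻¹`
  have hNQ' : Subgroup.normalizer (Q' : Set G) = cj k (Subgroup.normalizer (Q : Set G)) := by
    rw [cj_normalizer, hQk]
  have h4 : (Ph : Subgroup G) ≤ cj k ⁅Subgroup.normalizer (Q : Set G), Subgroup.normalizer (Q : Set G)⁆ := by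
    have : cj k ⁅Subgroup.normalizer (Q : Set G), Subgroup.normalizer (Q : Set G)⁆ =
        ⁅cj k (Subgroup.normalizer (Q : Set G)), cj k (Subgroup.normalizer (Q : Set G))⁆ :=
      Subgroup.map_commutator _ _ _
    rw [this, ← hNQ']
    exact h3
  have hcoe : ((k⁻¹ • Ph : Sylow p G) : Subgroup G) = cj k⁻¹ (Ph : Subgroup G) := by
    rw [Sylow.coe_subgroup_smul, Subgroup.pointwise_smul_def]
    rfl
  refine ⟨k⁻¹ • Ph, ?_, ?_⟩
  · rw [hcoe]
    rw [le_cj_iff, inv_inv]
    have : cj k A = A := by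
      ext x
      rw [mem_cj]
      constructor
      · intro hx
        have e : x = k * (k⁻¹ * x * k) * k⁻¹ := by group
        rw [e, ← (Subgroup.mem_centralizer_iff.mp hkC _ hx)]
        simpa using hx
      · intro hx
        have : k⁻¹ * x * k = x := by
          rw [mul_assoc, (Subgroup.mem_centralizer_iff.mp hkC x hx)]
          group
        rw [this]; exact hx
    rw [this]
    exact hAPh
  · rw [hcoe, cj_le_iff, inv_inv]
    exact h4


/-- **BG 12.4, the `p ∈ σ(M)` step**: if `M'` is nilpotent and a maximal elementary abelian subgroup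
`A ≤ M` of order `p ^ 2` centralizes a nontrivial Sylow `q`-subgroup `Q` of `G` that is normal in `M`,
then `p ∈ σ(M)`. -/
theorem mem_sigma_of_centralizes (hG : IsMinSimpleOddOrder G) (M : Subgroup G) (hM : IsCoatom M)
    (p : ℕ) [Fact p.Prime] (A : Subgroup G) (hAM : A ≤ M) (hA : IsElementaryAbelian p A)
    (hA2 : Nat.card A = p ^ 2)
    (hAmax : ∀ B : Subgroup G, IsElementaryAbelian p B → A ≤ B → B = A)
    (hnil : Group.IsNilpotent ↥⁅M, M⁆)
    (q : ℕ) [Fact q.Prime] (hqp : q ≠ p) (Q : Subgroup G) (hQ : IsPGroup q Q)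
    (hQidx : ¬ q ∣ Q.index) (hQ1 : Q ≠ ⊥) (hMQ : M ≤ Subgroup.normalizer (Q : Set G))
    (hQA : Q ≤ Subgroup.centralizer (A : Set G)) : p ∈ sigma M := by
  have hp : p.Prime := Fact.out
  obtain ⟨P, hAP, hPN⟩ := exists_sylow_le_commutator_normalizer hG p A hA hA2 hAmax q hqp Q hQ
    hQidx hQ1 hQA
  have hNQ : Subgroup.normalizer (Q : Set G) = M := by
    rcases eq_or_lt_of_le hMQ with h | h
    · exact h.symm
    · exact absurd (hM.2 _ h)
        (Cfsg.Agent.Lib.Helper91.BGFusion.ms_normalizer_ne_top_of_pgroup hG hQ1 hQ)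
  rw [hNQ] at hPN
  have hDM : ⁅M, M⁆ ≤ M := Subgroup.commutator_le.mpr (fun a ha b hb =>
    M.mul_mem (M.mul_mem (M.mul_mem ha hb) (M.inv_mem ha)) (M.inv_mem hb))
  have hPM : (P : Subgroup G) ≤ M := hPN.trans hDM
  have hP1 : (P : Subgroup G) ≠ ⊥ := by
    intro h
    have hA1 : A = ⊥ := eq_bot_iff.mpr (h ▸ hAP)
    have h1 := hA2
    rw [hA1, Subgroup.card_bot] at h1
    have : 1 < p ^ 2 := Nat.one_lt_pow two_ne_zero hp.one_lt
    omega
  have hMP : M ≤ Subgroup.normalizer ((P : Subgroup G) : Set G) :=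
    Cfsg.Agent.Lib.Helper71.BG11.sylow_normal_of_nilpotent hnil
      (isSylowIn_of_sylow_le P hPN)
      (Cfsg.Agent.Lib.Helper01.le_normalizer_commutator_left M M)
  have hNP : Subgroup.normalizer ((P : Subgroup G) : Set G) ≤ M := by
    rcases eq_or_lt_of_le hMP with h | h
    · exact h.symm.le
    · exact absurd (hM.2 _ h)
        (Cfsg.Agent.Lib.Helper91.BGFusion.ms_normalizer_ne_top_of_pgroup hG hP1 P.2)
  exact Cfsg.Agent.Lib.Helper31.Bg10.mem_sigma_of_normalizer_le (isSylowIn_of_sylow_le P hPM) hP1 hNP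

end Cfsg.Agent.Lib.Helper02.BG124
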