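import Mathlib
import Cfsg.Agent.Lib.Helper15.BG139Defs
import Cfsg.Agent.Lib.Helper52.BG134A2
import Cfsg.Agent.Lib.Helper91.BG125e

/-!
# K-S1378-L3 (keystone 137804): a complement of `M_σ` containing a coprime `P` and normalizing `S`
-/

set_option autoImplicit false

namespace Cfsg.Agent.Lib.Helper02.BG139

open Cfsg Cfsg.Agent.Lib.Helper55 Cfsg.Agent.Lib.Helper31.BG134 Cfsg.Agent.Lib.Helper15.BG139

variable {G : Type*} [Group G] [Finite G]

/-- KEYSTONE 137804  K-S1378-L3. -/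
theorem Cfg.exists_compl {M N S : Subgroup G} {p : ℕ} (c : Cfg M N S p) {P : Subgroup G}
    (hPM : P ≤ M) (hPS : P ≤ Subgroup.normalizer (S : Set G))
    (hPσ : ∀ q : ℕ, q.Prime → q ∣ Nat.card P → q ∉ sigma M) :
    ∃ E : Subgroup G, IsComplIn E (sigmaCore M) M ∧ P ≤ E ∧
      E ≤ Subgroup.normalizer (S : Set G) := by
  have hG := c.hG
  have hM := c.hM
  haveI : Fact p.Prime := ⟨c.hpM.1⟩
  have hHall := (Cfsg.Agent.S1350.result hG M hM).1
  have hn : M ≤ Subgroup.normalizer (sigmaCore M : Set G) :=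
    Cfsg.Agent.Lib.Helper31.le_normalizer_piCoreOf (sigma M) M
  have hSM : S ≤ M := (Subgroup.le_normalizer.trans c.hNS).trans inf_le_left
  have hSσ : S ≤ sigmaCore M :=
    Cfsg.Agent.Lib.Helper91.BG125.le_sigmaCore_of_mem_sigma hG hM c.hpM c.hS.2.1 hSM
  -- a complement containing `P`
  obtain ⟨E₁, hE₁, hPE₁⟩ :=
    Cfsg.Agent.Lib.Helper13.BG12.exists_complIn_ge hG hM hHall hPM hPσ
  -- coprimality
  have hcopE : (Nat.card E₁).Coprime (Nat.card (sigmaCore M)) :=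
    Cfsg.Agent.Lib.Helper13.BG12.coprime_of_primes_disjoint
      (Cfsg.Agent.Lib.Helper13.BG12.complIn_prime_not_mem_sigma hHall hE₁) hHall.2.1
  have hStop : sigmaCore M ≠ ⊤ := fun h => hM.1 (top_le_iff.mp (h ▸ hHall.1))
  have hsolv : Group.IsSolvable ↥(sigmaCore M) := Cfsg.Agent.Lib.Helper55.ms_solvable hG hStop
  have hE₁n : E₁ ≤ Subgroup.normalizer (sigmaCore M : Set G) := hE₁.1.trans hn
  -- an `E₁`-invariant Sylow `p`-subgroup of `M_σ`
  obtain ⟨P₁, -, hE₁P₁⟩ := Cfsg.Agent.S0025.result E₁ (sigmaCore M) hE₁n hcopE (Or.inr hsolv) p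
    ⊥ bot_le (IsPGroup.of_bot)
    (by rw [Subgroup.normalizer_eq_top_iff.mpr Subgroup.normal_bot]; exact le_top)
  obtain ⟨S', hS'⟩ :
      ∃ S' : Subgroup G, S' = (P₁ : Subgroup (sigmaCore M)).map (sigmaCore M).subtype := ⟨_, rfl⟩
  have hS'syl : IsSylowIn p (sigmaCore M) S' := by rw [hS']; exact isSylowIn_of_sylow P₁
  have hE₁S' : E₁ ≤ Subgroup.normalizer (S' : Set G) := by rw [hS']; exact hE₁P₁
  -- both `S'` and `S` are `P`-invariant `p`-subgroups of `M_σ`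
  have hPn : P ≤ Subgroup.normalizer (sigmaCore M : Set G) := hPM.trans hn
  have hcopP : (Nat.card P).Coprime (Nat.card (sigmaCore M)) :=
    Nat.Coprime.coprime_dvd_left (Subgroup.card_dvd_of_le hPE₁) hcopE
  obtain ⟨S₀, d, hSσ₀, hSq', -, hS'S, hdσ, hdP, hSqd⟩ :=
    Cfsg.Agent.Lib.Helper31.exists_inv_sylow_pair P (sigmaCore M) hPn hcopP (Or.inr hsolv) p
      S' S hS'syl.1 hSσ hS'syl.2.1 c.hS.2.1 (hPE₁.trans hE₁S') hPS
  have hSS' : S₀ = S' := hS'syl.2.2 S₀ hSσ₀ hSq' hS'S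
  have hSqeq : cj d S' = S := by
    have h1 : S ≤ cj d S' := by
      rw [← hSS']
      exact hSqd
    exact c.hS.2.2 _ le_top (isPGroup_cj hS'syl.2.1) h1
  have hdM : d ∈ M := hHall.1 hdσ
  refine ⟨cj d E₁, Cfsg.Agent.Lib.Helper52.BG134.isComplIn_cj hE₁ hn hdM, ?_, ?_⟩
  · -- `cj d P = P`
    intro x hx
    rw [mem_cj]
    rw [Subgroup.mem_centralizer_iff] at hdP
    have : d⁻¹ * x * d = x := by
      have := hdP x hx
      calc d⁻¹ * x * d = d⁻¹ * (x * d) := by group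
        _ = d⁻¹ * (d * x) := by rw [this]
        _ = x := by group
    rw [this]
    exact hPE₁ hx
  · have h1 : cj d E₁ ≤ cj d (Subgroup.normalizer (S' : Set G)) := cj_mono hE₁S'
    rw [cj_normalizer, hSqeq] at h1
    exact h1

end Cfsg.Agent.Lib.Helper02.BG139
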