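import Mathlib
import Cfsg.Agent.Lib.Helper02.BG1310Defs
import Cfsg.Agent.Lib.Helper15.BG139Glue
import Cfsg.Agent.Lib.Helper28.BG142A
import Cfsg.Agent.S1428

/-!
# BG 13.10 (Lemma D), pack K-LemmaD2: keystone 143102 `ha_of_htx` (via helper28's 143020) and the
sigma-partition / 13.4 hypotheses as theorems
-/

set_option autoImplicit false

namespace Cfsg.Agent.Lib.Helper02.BG1310

open Cfsg Cfsg.Agent.Lib.Helper55 Cfsg.Agent.Lib.Helper31.BG134 Cfsg.Agent.Lib.Helper15.BG139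

variable {G : Type*} [Group G] [Finite G]

/-- S1428 for all maximal subgroups -/
theorem h28_of (hG : IsMinSimpleOddOrder G) : H1428 G :=
  fun M hM E hE p hp P hPE hP R hRE hR =>
    Cfsg.Agent.S1428.result hG M hM E hE p hp P hPE hP R hRE hR

/-- the sigma-partition in the form `HSP` -/
theorem hsp_of (hG : IsMinSimpleOddOrder G) : Cfsg.Agent.Lib.Helper15.BG142.HSP G :=
  fun _ _ hM hN hnc _ hpM hpN =>
    Cfsg.Agent.Lib.Helper15.BG139.sigma_disjoint hG (h28_of hG) hM hN hnc hpM hpN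

/-- helper15's form of T-X from ours -/
theorem htx15_of {hTX : HTX G} : Cfsg.Agent.Lib.Helper15.BG142.HTX G :=
  fun M P H p hM hPM hPc hp hC hH hNH => hTX M H P p hM hH hp hPM hPc hC hNH

/-- our form of T-X from helper15's -/
theorem htx_of_htx15 (hTX : Cfsg.Agent.Lib.Helper15.BG142.HTX G) : HTX G :=
  fun M H X p hM hH hp hXM hXc hC hNX => hTX M X H p hM hXM hXc hp hC hH hNX

/-- KEYSTONE 143102 K-LD2-A -/
theorem ha_of_htx (hG : IsMinSimpleOddOrder G) (hTX : HTX G) (hP4 : HP4 G) : HA G := by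
  have h := Cfsg.Agent.Lib.Helper28.BG142.ha_of_htx hG (hsp_of hG) (htx15_of (hTX := hTX))
  intro M X Y p hM hp hXM hXc hY hYc L hL hNL
  exact h M X Y p hM hXM hXc hp hY hYc L hL hNL

end Cfsg.Agent.Lib.Helper02.BG1310
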