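import Mathlib
import Cfsg.Agent.Lib.Helper02.BG1310Defs
import Cfsg.Agent.Lib.Helper15.BG139Glue
import Cfsg.Agent.Lib.Helper12.CNMaxSub
import Cfsg.Agent.Lib.Helper16.BG134Asm

/-!
# BG 13.10 (Lemma D), pack K-LemmaD2: the two assembly leaves 143108 and 143112
-/

set_option autoImplicit false

namespace Cfsg.Agent.Lib.Helper02.BG1310

open Cfsg Cfsg.Agent.Lib.Helper55 Cfsg.Agent.Lib.Helper31.BG134 Cfsg.Agent.Lib.Helper15.BG139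

variable {G : Type*} [Group G] [Finite G]

theorem ne_bot_of_card_prime {S : Subgroup G} (h : (Nat.card S).Prime) : S ≠ ⊥ := by
  rintro rfl
  rw [Subgroup.card_bot] at h
  exact Nat.not_prime_one h

theorem ne_top_of_le_coatom {S M : Subgroup G} (hM : IsCoatom M) (h : S ≤ M) : S ≠ ⊤ := by
  rintro rfl
  exact hM.1 (top_le_iff.mp h)

/-- a nontrivial subgroup has a subgroup of prime order -/
theorem exists_le_card_prime {K : Subgroup G} (hK : K ≠ ⊥) :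
    ∃ Y : Subgroup G, Y ≤ K ∧ (Nat.card Y).Prime := by
  have h1 : Nat.card K ≠ 1 := fun h => hK (Subgroup.card_eq_one.mp h)
  obtain ⟨q, hq, hqd⟩ := Nat.exists_prime_and_dvd h1
  haveI : Fact q.Prime := ⟨hq⟩
  obtain ⟨x, hx⟩ := exists_prime_orderOf_dvd_card' (G := K) q hqd
  refine ⟨Subgroup.zpowers (x : G), ?_, ?_⟩
  · rw [Subgroup.zpowers_le]
    exact x.2
  · rw [Nat.card_zpowers, Subgroup.orderOf_coe, hx]
    exact hq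

/-- `N_G(S₀)` lies in a maximal subgroup, for `S₀ ≤ E₃` of prime order in the nonregular configuration -/
theorem NRS.exists_coatom {M E E₁ E₃ : Subgroup G} (d : NRS M E E₁ E₃) :
    ∃ S₀ H : Subgroup G, S₀ ≤ E₃ ∧ (Nat.card S₀).Prime ∧ CP M S₀ ≠ ⊥ ∧ IsCoatom H ∧
      Subgroup.normalizer (S₀ : Set G) ≤ H := by
  obtain ⟨S₀, hS₀, hS₀c, hC⟩ := d.nr.hnr
  have hS₀M : S₀ ≤ M := (hS₀.trans d.nr.hE₃.1).trans d.nr.hE.1
  obtain ⟨H, hH, hNH⟩ := Cfsg.Agent.Lib.Helper12.CNMaxSub.exists_coatom_normalizer_le d.nr.hG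
    (ne_bot_of_card_prime hS₀c) (ne_top_of_le_coatom d.nr.hM hS₀M)
  exact ⟨S₀, H, hS₀, hS₀c, hC, hH, hNH⟩

/-- KEYSTONE 143108 K-LD2-IIb -/
theorem typeII_moves_false (hA : HA G) (h28 : H1428 G) {M E E₁ E₃ : Subgroup G}
    (d : NRS M E E₁ E₃) (hII : TypeII M E₁ E₃)
    (hmv : ¬ CP M E₃ ≤ Subgroup.centralizer (E₁ : Set G))
    (h1 : ∀ S₀ H : Subgroup G, S₀ ≤ E₃ → (Nat.card S₀).Prime → IsCoatom H →
      Subgroup.normalizer (S₀ : Set G) ≤ H →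
      ∃ EH F₃ : Subgroup G, NRS H EH E₁ F₃ ∧ TypeII H E₁ F₃ ∧ CP M E₃ ≤ F₃)
    (h2 : ∀ L EL EL₃ : Subgroup G, NRS L EL E₁ EL₃ → TypeII L E₁ EL₃ → CP L EL = ⊥ →
      POut L E₁ (Nat.card E₁))
    (h3 : ∀ H : Subgroup G, IsCoatom H → (∀ g : G, cj g M ≠ H) → E ≤ H →
      sigmaCore M ⊓ H = CP M E₃ → Nat.card E₁ ∉ sigma H → sigmaCore H ⊓ M ≤ E₃) : False := by
  have hG := d.nr.hG
  have hM := d.nr.hM
  obtain ⟨S₀, H, hS₀, hS₀c, hC, hH, hNH⟩ := d.exists_coatom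
  have hS₀1 : S₀ ≠ ⊥ := ne_bot_of_card_prime hS₀c
  have hS₀M : S₀ ≤ M := (hS₀.trans d.nr.hE₃.1).trans d.nr.hE.1
  obtain ⟨hEH, hnc, hMH⟩ := d.hH S₀ H hS₀ hS₀c hH hNH
  obtain ⟨EH, F₃, dH, hIIH, hC₃F⟩ := h1 S₀ H hS₀ hS₀c hH hNH
  have hE₃E : E₃ ≤ E := d.nr.hE₃.1
  have hE₁E : E₁ ≤ E := d.nr.hE₁.1
  have hCE : CP M E = ⊥ := by
    rw [eq_bot_iff]
    intro x hx
    have hx3 : x ∈ CP M E₃ := ⟨hx.1, Subgroup.centralizer_le hE₃E hx.2⟩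
    have hx1 : x ∈ Subgroup.centralizer (E₁ : Set G) := Subgroup.centralizer_le hE₁E hx.2
    have h : x ∈ F₃ ⊓ Subgroup.centralizer (E₁ : Set G) := ⟨hC₃F hx3, hx1⟩
    rw [hIIH.2.1] at h
    exact h
  have oM := h2 M E E₃ d hII hCE
  have hC₃ne : CP M E₃ ≠ ⊥ := by
    rw [← d.hC₃ S₀ hS₀ hS₀1]
    exact hC
  obtain ⟨Y₀, hY₀, hY₀c⟩ := exists_le_card_prime hC₃ne
  have hY₀1 : Y₀ ≠ ⊥ := ne_bot_of_card_prime hY₀c
  have hY₀M : Y₀ ≤ M :=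
    (hY₀.trans inf_le_left).trans (Cfsg.Agent.Lib.Helper71.BG11.sigmaCore_le M)
  have hs3 : Nat.card S₀ ∈ tau3 M := d.nr.hE₃.2.1 _ hS₀c (Subgroup.card_dvd_of_le hS₀)
  have hCY : Subgroup.centralizer (Y₀ : Set G) ≤ M := by
    obtain ⟨L, hL, hNL⟩ := Cfsg.Agent.Lib.Helper12.CNMaxSub.exists_coatom_normalizer_le hG hY₀1
      (ne_top_of_le_coatom hM hY₀M)
    have hY₀S : Y₀ ≤ CP M S₀ := by
      rw [d.hC₃ S₀ hS₀ hS₀1]
      exact hY₀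
    have hLM : L = M := hA M S₀ Y₀ (Nat.card S₀) hM (Or.inr hs3) hS₀M rfl hY₀S hY₀c L hL hNL
    rw [← hLM]
    exact (Subgroup.centralizer_le_normalizer _).trans hNL
  have hp : (Nat.card E₁).Prime := hII.1
  have hpH : Nat.card E₁ ∉ sigma H := (dH.nr.hE₁.2.1 _ hp dvd_rfl).2.1
  have hD : sigmaCore H ⊓ M ≤ E₃ := h3 H hH hnc hEH hMH hpH
  have hCEH : CP H EH = ⊥ := by
    rw [eq_bot_iff]
    intro x hx
    have hxF : x ∈ Subgroup.centralizer (F₃ : Set G) := Subgroup.centralizer_le dH.nr.hE₃.1 hx.2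
    have hxY : x ∈ Subgroup.centralizer (Y₀ : Set G) :=
      Subgroup.centralizer_le (hY₀.trans hC₃F) hxF
    have hxE₃ : x ∈ E₃ := hD ⟨hx.1, hCY hxY⟩
    have hx1 : x ∈ Subgroup.centralizer (E₁ : Set G) := Subgroup.centralizer_le dH.nr.hE₁.1 hx.2
    have h : x ∈ E₃ ⊓ Subgroup.centralizer (E₁ : Set G) := ⟨hxE₃, hx1⟩
    rw [hII.2.1] at h
    exact h
  have oH := h2 H EH F₃ dH hIIH hCEH
  have h131 := Cfsg.Agent.Lib.Helper15.BG139.t131 hG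
  exact part_two hG oM oH hnc (sigmaTau hG h28 h131) h131 h28

/-- KEYSTONE 143112 K-LD2-IIa -/
theorem typeII_fixes_false {M E E₁ E₃ : Subgroup G}
    (d : NRS M E E₁ E₃) (hII : TypeII M E₁ E₃)
    (hc : CP M E₃ ≤ Subgroup.centralizer (E₁ : Set G))
    (hσ : ∀ S₀ H : Subgroup G, S₀ ≤ E₃ → (Nat.card S₀).Prime → IsCoatom H →
      Subgroup.normalizer (S₀ : Set G) ≤ H → Nat.card E₁ ∉ sigma H)
    (h1 : ∀ S₀ H : Subgroup G, S₀ ≤ E₃ → (Nat.card S₀).Prime → IsCoatom H →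
      Subgroup.normalizer (S₀ : Set G) ≤ H → Nat.card E₁ ∈ tau1 H → False)
    (h23 : ∀ S₀ H : Subgroup G, S₀ ≤ E₃ → (Nat.card S₀).Prime → IsCoatom H →
      Subgroup.normalizer (S₀ : Set G) ≤ H → (Nat.card E₁ ∈ tau2 H ∨ Nat.card E₁ ∈ tau3 H) → False) :
    False := by
  have hG := d.nr.hG
  obtain ⟨S₀, H, hS₀, hS₀c, -, hH, hNH⟩ := d.exists_coatom
  obtain ⟨hEH, -, -⟩ := d.hH S₀ H hS₀ hS₀c hH hNH
  have hp : (Nat.card E₁).Prime := hII.1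
  have hdvd : Nat.card E₁ ∣ Nat.card H := Subgroup.card_dvd_of_le (d.nr.hE₁.1.trans hEH)
  rcases Cfsg.Agent.Lib.Helper16.BG134.mem_tau_cases hG hH hp hdvd (hσ S₀ H hS₀ hS₀c hH hNH) with
    h | h | h
  · exact h1 S₀ H hS₀ hS₀c hH hNH h
  · exact h23 S₀ H hS₀ hS₀c hH hNH (Or.inl h)
  · exact h23 S₀ H hS₀ hS₀c hH hNH (Or.inr h)

end Cfsg.Agent.Lib.Helper02.BG1310
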