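import Mathlib

/-!
# BG 13.10 (Lemma D), pack K-LemmaD2: a pure coprime-action lemma for keystone 143105, step (4)
-/

set_option autoImplicit false

namespace Cfsg.Agent.Lib.Helper02.BG1310

open scoped commutatorElement

variable {G : Type*} [Group G] [Finite G]

/-- a subgroup of prime order `p` is a `p`-group -/
theorem isPGroup_of_card_eq {P : Subgroup G} {p : ℕ} [Fact p.Prime] (h : Nat.card P = p) :
    IsPGroup p P := IsPGroup.of_card (n := 1) (by rw [h, pow_one])

/-- PURE coprime action: if `A` (of prime order `p`) normalizes `C`, `p ∤ |C|` and `A` centralizes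
`⁅C, A⁆`, then `A` centralizes `C`. -/
theorem le_centralizer_of_commutator_le {C A : Subgroup G} {p : ℕ} (hAc : Nat.card A = p)
    (hcop : (Nat.card C).Coprime p)
    (hK : ⁅C, A⁆ ≤ Subgroup.centralizer (A : Set G)) (hKC : ⁅C, A⁆ ≤ C) :
    C ≤ Subgroup.centralizer (A : Set G) := by
  intro c hc
  rw [Subgroup.mem_centralizer_iff]
  intro a ha
  -- k := c⁻¹ * a * c * a⁻¹ ∈ ⁅C, A⁆
  set k : G := ⁅c⁻¹, a⁆ with hk
  have hkK : k ∈ ⁅C, A⁆ := Subgroup.commutator_mem_commutator (inv_mem hc) ha
  have hkC : k ∈ C := hKC hkK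
  have hka : a * k = k * a := by
    have := hK hkK
    rw [Subgroup.mem_centralizer_iff] at this
    exact this a ha
  -- a * c * a⁻¹ = c * k
  have h1 : a * c * a⁻¹ = c * k := by
    rw [hk, commutatorElement_def]
    group
  -- a^i * c * a^(-i) = c * k^i
  have h2 : ∀ i : ℕ, a ^ i * c * (a ^ i)⁻¹ = c * k ^ i := by
    intro i
    induction i with
    | zero => simp
    | succ n ih =>
      have hcomm : a * k ^ n * a⁻¹ = k ^ n := by
        have : Commute a (k ^ n) := (show Commute a k from hka).pow_right n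
        rw [this.eq, mul_inv_cancel_right]
      calc a ^ (n + 1) * c * (a ^ (n + 1))⁻¹
          = a * (a ^ n * c * (a ^ n)⁻¹) * a⁻¹ := by rw [pow_succ']; group
        _ = a * (c * k ^ n) * a⁻¹ := by rw [ih]
        _ = (a * c * a⁻¹) * (a * k ^ n * a⁻¹) := by group
        _ = c * k * k ^ n := by rw [h1, hcomm]
        _ = c * k ^ (n + 1) := by rw [pow_succ', mul_assoc]
  have hap : a ^ p = 1 := by
    have : (⟨a, ha⟩ : A) ^ Nat.card A = 1 := pow_card_eq_one'
    rw [hAc] at this
    exact congrArg Subtype.val this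
  have h3 := h2 p
  rw [hap] at h3
  simp only [one_mul, inv_one, mul_one] at h3
  have hkp : k ^ p = 1 := by
    have : c * k ^ p = c * 1 := by rw [mul_one]; exact h3.symm
    exact mul_left_cancel this
  have hkc : k ^ Nat.card C = 1 := by
    have : (⟨k, hkC⟩ : C) ^ Nat.card C = 1 := pow_card_eq_one'
    exact congrArg Subtype.val this
  have hk1 : k = 1 := by
    have hd1 : orderOf k ∣ p := orderOf_dvd_of_pow_eq_one hkp
    have hd2 : orderOf k ∣ Nat.card C := orderOf_dvd_of_pow_eq_one hkc
    have : orderOf k ∣ Nat.gcd (Nat.card C) p := Nat.dvd_gcd hd2 hd1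
    rw [hcop] at this
    exact orderOf_eq_one_iff.mp (Nat.dvd_one.mp this)
  rw [hk1, mul_one] at h1
  -- a * c * a⁻¹ = c  ⟹  a * c = c * a
  calc a * c = a * c * a⁻¹ * a := by group
    _ = c * a := by rw [h1]

end Cfsg.Agent.Lib.Helper02.BG1310
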