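import Mathlib
import Cfsg.Agent.Lib.Helper02.BG1310Asm
import Cfsg.Agent.Lib.Helper02.BG1310Cop
import Cfsg.Agent.Lib.Helper84.BG134T
import Cfsg.Agent.Lib.Helper54.BG134A3a
import Cfsg.Agent.Lib.Helper11.BG134P2
import Cfsg.Agent.S1350
import Cfsg.Agent.S1415

/-!
# BG 13.10 (Lemma D), pack K-LemmaD2: keystone 143105 `exists_typeII_of_moves`
-/

set_option autoImplicit false

namespace Cfsg.Agent.Lib.Helper02.BG1310

open Cfsg Cfsg.Agent.Lib.Helper55 Cfsg.Agent.Lib.Helper31.BG134 Cfsg.Agent.Lib.Helper15.BG139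
open scoped commutatorElement

variable {G : Type*} [Group G] [Finite G]

/-- a subgroup of prime order `q` of `K` for every prime divisor `q` of `|K|` -/
theorem exists_le_card_eq {K : Subgroup G} {q : ℕ} (hq : q.Prime) (hqd : q ∣ Nat.card K) :
    ∃ Y : Subgroup G, Y ≤ K ∧ Nat.card Y = q := by
  haveI : Fact q.Prime := ⟨hq⟩
  obtain ⟨x, hx⟩ := exists_prime_orderOf_dvd_card' (G := K) q hqd
  refine ⟨Subgroup.zpowers (x : G), ?_, ?_⟩
  · rw [Subgroup.zpowers_le]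
    exact x.2
  · rw [Nat.card_zpowers, Subgroup.orderOf_coe, hx]

/-- `E` normalizes `C_{M_σ}(E₃)` when it normalizes `E₃` -/
theorem le_normalizer_CP {M E E₃ : Subgroup G} (hEM : E ≤ M)
    (hE₃n : E ≤ Subgroup.normalizer (E₃ : Set G)) :
    E ≤ Subgroup.normalizer ((CP M E₃ : Subgroup G) : Set G) := by
  intro e he
  have h1 : e ∈ Subgroup.normalizer (sigmaCore M : Set G) :=
    Cfsg.Agent.Lib.Helper71.BG11.le_normalizer_sigmaCore M (hEM he)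
  have h2 : e ∈ Subgroup.normalizer ((Subgroup.centralizer (E₃ : Set G) : Subgroup G) : Set G) := by
    have h3 := hE₃n he
    rw [Subgroup.mem_normalizer_iff] at h3 ⊢
    intro x
    constructor
    · intro hx
      rw [Subgroup.mem_centralizer_iff] at hx ⊢
      intro y hy
      have hy' : e⁻¹ * y * e ∈ E₃ := by
        have := (h3 (e⁻¹ * y * e)).mpr (by simpa [mul_assoc] using hy)
        exact this
      have := hx _ hy'
      calc y * (e * x * e⁻¹) = e * ((e⁻¹ * y * e) * x) * e⁻¹ := by group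
        _ = e * (x * (e⁻¹ * y * e)) * e⁻¹ := by rw [this]
        _ = e * x * e⁻¹ * y := by group
    · intro hx
      rw [Subgroup.mem_centralizer_iff] at hx ⊢
      intro y hy
      have hy' : e * y * e⁻¹ ∈ E₃ := (h3 y).mp hy
      have := hx _ hy'
      calc y * x = e⁻¹ * ((e * y * e⁻¹) * (e * x * e⁻¹)) * e := by group
        _ = e⁻¹ * ((e * x * e⁻¹) * (e * y * e⁻¹)) * e := by rw [this]
        _ = x * y := by group
  rw [Subgroup.mem_normalizer_iff] at h1 h2 ⊢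
  intro x
  constructor
  · rintro ⟨hx1, hx2⟩
    exact ⟨(h1 x).mp hx1, (h2 x).mp hx2⟩
  · rintro ⟨hx1, hx2⟩
    exact ⟨(h1 x).mpr hx1, (h2 x).mpr hx2⟩

/-- KEYSTONE 143105 K-LD2-IIb1 -/
theorem exists_typeII_of_moves (hTX : HTX G) (hP4 : HP4 G) (hS : HNRS G)
    {M E E₁ E₃ S₀ H : Subgroup G}
    (d : NRS M E E₁ E₃) (hII : TypeII M E₁ E₃)
    (hmv : ¬ CP M E₃ ≤ Subgroup.centralizer (E₁ : Set G))
    (hS₀ : S₀ ≤ E₃) (hS₀c : (Nat.card S₀).Prime) (hH : IsCoatom H)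
    (hNH : Subgroup.normalizer (S₀ : Set G) ≤ H) :
    ∃ EH F₃ : Subgroup G, NRS H EH E₁ F₃ ∧ TypeII H E₁ F₃ ∧ CP M E₃ ≤ F₃ := by
  have hG := d.nr.hG
  have hM := d.nr.hM
  have hE := d.nr.hE
  have hp : (Nat.card E₁).Prime := hII.1
  haveI : Fact (Nat.card E₁).Prime := ⟨hp⟩
  have hp1M : Nat.card E₁ ∈ tau1 M := d.nr.hE₁.2.1 _ hp dvd_rfl
  have hpσM : Nat.card E₁ ∉ sigma M := hp1M.2.1
  obtain ⟨hEH, hnc, hMH⟩ := d.hH S₀ H hS₀ hS₀c hH hNH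
  have hE₁E : E₁ ≤ E := d.nr.hE₁.1
  have hE₃E : E₃ ≤ E := d.nr.hE₃.1
  have hEM : E ≤ M := hE.1
  have hE₁H : E₁ ≤ H := hE₁E.trans hEH
  have hE₁p : IsPGroup (Nat.card E₁) E₁ := isPGroup_of_card_eq rfl
  -- (1) p ∈ τ₁(H)
  have hp1H : Nat.card E₁ ∈ tau1 H := by
    by_contra hno
    apply hmv
    rw [← hMH]
    exact Cfsg.Agent.Lib.Helper84.BG134.lemmaT hG hM hH hnc hpσM hno hE₁p (hE₁E.trans hEM) hE₁H
  have hpσH : Nat.card E₁ ∉ sigma H := hp1H.2.1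
  -- S₀
  have hS₀1 : S₀ ≠ ⊥ := ne_bot_of_card_prime hS₀c
  have hS₀M : S₀ ≤ M := (hS₀.trans hE₃E).trans hEM
  have hs3 : Nat.card S₀ ∈ tau3 M := d.nr.hE₃.2.1 _ hS₀c (Subgroup.card_dvd_of_le hS₀)
  have hCS₀ : CP M S₀ = CP M E₃ := d.hC₃ S₀ hS₀ hS₀1
  have hC₃ne : CP M E₃ ≠ ⊥ := by
    intro h
    apply hmv
    rw [h]
    exact bot_le
  have hsσH : Nat.card S₀ ∈ sigma H :=
    hTX M H S₀ _ hM hH (Or.inr hs3) hS₀M rfl (by rw [hCS₀]; exact hC₃ne) hNH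
  -- (2) (P4)
  have hP4' : ∀ Y : Subgroup G, Y ≤ CP M E₃ → (Nat.card Y).Prime →
      (Nat.card Y ∈ tau1 H ∨ Nat.card Y ∈ tau3 H) := by
    intro Y hY hYc
    exact hP4 M H S₀ Y _ hM hH (Or.inr hs3) hS₀M rfl hNH (by rw [hCS₀]; exact hY) hYc
  have hC₃σH : ∀ q : ℕ, q.Prime → q ∣ Nat.card ↥(CP M E₃) → q ∉ sigma H := by
    intro q hq hqd
    obtain ⟨Y, hY, hYc⟩ := exists_le_card_eq hq hqd
    rcases hP4' Y hY (by rw [hYc]; exact hq) with h | h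
    · rw [hYc] at h; exact h.2.1
    · rw [hYc] at h; exact h.2.1
  have hC₃σM : ∀ q : ℕ, q.Prime → q ∣ Nat.card ↥(CP M E₃) → q ∈ sigma M := by
    intro q hq hqd
    exact Cfsg.Agent.Lib.Helper71.BG11.sigmaCore_pi hG hM hq
      (hqd.trans (Subgroup.card_dvd_of_le inf_le_left))
  have hC₃H : CP M E₃ ≤ H := by rw [← hMH]; exact inf_le_right
  have hE₁N : E₁ ≤ Subgroup.normalizer ((CP M E₃ : Subgroup G) : Set G) :=
    hE₁E.trans (le_normalizer_CP hEM d.hE₃n)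
  -- the complement EH
  have hKH : CP M E₃ ⊔ E₁ ≤ H := sup_le hC₃H hE₁H
  have hKσ : ∀ q : ℕ, q.Prime → q ∣ Nat.card ↥(CP M E₃ ⊔ E₁) → q ∉ sigma H := by
    intro q hq hqd
    have h1 := hqd.trans
      (Cfsg.Agent.Lib.Helper11.BG134.card_sup_dvd_of_le_normalizer (CP M E₃) E₁ hE₁N)
    rcases (Nat.Prime.dvd_mul hq).mp h1 with h | h
    · exact hC₃σH q hq h
    · rw [(Nat.prime_dvd_prime_iff_eq hq hp).mp h]
      exact hpσH
  have hHallH := (Cfsg.Agent.S1350.result hG H hH).1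
  obtain ⟨EH, hEHc, hKEH⟩ :=
    Cfsg.Agent.Lib.Helper13.BG12.exists_complIn_ge hG hH hHallH hKH hKσ
  have hC₃EH : CP M E₃ ≤ EH := le_sup_left.trans hKEH
  have hE₁EH : E₁ ≤ EH := le_sup_right.trans hKEH
  have hEHH : EH ≤ H := hEHc.1
  haveI hsolvH : Group.IsSolvable H := ms_solvable hG hH.1
  have hsolv : Group.IsSolvable ↥EH :=
    solvable_of_solvable_injective (Subgroup.inclusion_injective hEHH)
  obtain ⟨F₁, hF₁, hE₁F₁⟩ := Cfsg.Agent.Lib.Helper54.BG134.exists_isPiHallOf_ge hsolv (tau1 H)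
    hE₁EH (by
      intro q hq hqd
      rw [(Nat.prime_dvd_prime_iff_eq hq hp).mp hqd]
      exact hp1H)
  obtain ⟨F₃, hF₃, -⟩ := Cfsg.Agent.Lib.Helper54.BG134.exists_isPiHallOf_ge hsolv (tau3 H)
    (bot_le : (⊥ : Subgroup G) ≤ EH) (by
      intro q hq hqd
      rw [Subgroup.card_bot] at hqd
      exact absurd (Nat.dvd_one.mp hqd) hq.ne_one)
  obtain ⟨-, -, h15⟩ := Cfsg.Agent.S1415.result hG H hH EH hEHc
  obtain ⟨hF₃c, hF₃d, hF₃n⟩ := h15 F₃ hF₃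
  -- subgroups of C₃ whose primes are in τ₃(H) lie in F₃
  have hleF₃ : ∀ Z : Subgroup G, Z ≤ CP M E₃ →
      (∀ q : ℕ, q.Prime → q ∣ Nat.card Z → q ∈ tau3 H) → Z ≤ F₃ := by
    intro Z hZ hZq
    exact Cfsg.Agent.Lib.Helper71.BG10.le_of_isPiHallOf_normal hF₃ hF₃n (hZ.trans hC₃EH) hZq
  -- (3) K' := ⁅C₃, E₁⁆
  have hK'C : ⁅CP M E₃, E₁⁆ ≤ CP M E₃ := by
    rw [Subgroup.commutator_le]
    intro c hc e he
    have h1 := hE₁N he
    rw [Subgroup.mem_normalizer_iff] at h1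
    have h2 : e * c⁻¹ * e⁻¹ ∈ CP M E₃ := (h1 c⁻¹).mp (inv_mem hc)
    have : ⁅c, e⁆ = c * (e * c⁻¹ * e⁻¹) := by rw [commutatorElement_def]; group
    rw [this]
    exact mul_mem hc h2
  have hK'H : ⁅CP M E₃, E₁⁆ ≤ ⁅H, H⁆ := Subgroup.commutator_mono hC₃H hE₁H
  have hK'3 : ∀ q : ℕ, q.Prime → q ∣ Nat.card ↥⁅CP M E₃, E₁⁆ → q ∈ tau3 H := by
    intro q hq hqd
    obtain ⟨Y, hY, hYc⟩ := exists_le_card_eq hq hqd
    have hqH' : q ∣ Nat.card ↥⁅H, H⁆ := by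
      rw [← hYc]
      exact Subgroup.card_dvd_of_le (hY.trans hK'H)
    rcases hP4' Y (hY.trans hK'C) (by rw [hYc]; exact hq) with h | h
    · rw [hYc] at h; exact absurd hqH' h.2.2.2.1
    · rw [hYc] at h; exact h
  have hK'ne : ⁅CP M E₃, E₁⁆ ≠ ⊥ := by
    intro h
    apply hmv
    exact (Subgroup.commutator_eq_bot_iff_le_centralizer).mp h
  have hK'F : ⁅CP M E₃, E₁⁆ ≤ F₃ := hleF₃ _ hK'C hK'3
  -- NR for H
  obtain ⟨Y₀, hY₀, hY₀c⟩ := exists_le_card_prime hK'ne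
  have hS₀H : S₀ ≤ H := Subgroup.le_normalizer.trans hNH
  have hS₀σ : S₀ ≤ sigmaCore H := by
    refine Cfsg.Agent.Lib.Helper71.BG10.le_of_isPiHallOf_normal hHallH
      (Cfsg.Agent.Lib.Helper71.BG11.le_normalizer_sigmaCore H) hS₀H ?_
    intro q hq hqd
    rw [(Nat.prime_dvd_prime_iff_eq hq hS₀c).mp hqd]
    exact hsσH
  have hS₀Y : S₀ ≤ Subgroup.centralizer (Y₀ : Set G) := by
    have h1 : Y₀ ≤ Subgroup.centralizer (E₃ : Set G) := (hY₀.trans hK'C).trans inf_le_right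
    have h2 : E₃ ≤ Subgroup.centralizer (Y₀ : Set G) := Subgroup.le_centralizer_iff.mp h1
    exact hS₀.trans h2
  have hnrH : NR H EH F₁ F₃ := by
    refine ⟨hG, hH, hEHc, hF₁, hF₃, Y₀, hY₀.trans hK'F, hY₀c, ?_⟩
    intro hbot
    apply hS₀1
    rw [eq_bot_iff, ← hbot]
    exact le_inf hS₀σ hS₀Y
  have dH : NRS H EH F₁ F₃ := hS H EH F₁ F₃ hnrH
  -- (4) the dichotomy for H
  have hIIH : TypeII H F₁ F₃ := by
    rcases dH.hdich with hI | hIIH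
    · exfalso
      apply hmv
      have hF₃E₁ : F₃ ≤ Subgroup.centralizer (E₁ : Set G) := hI.1 E₁ hE₁F₁ hp
      have hcop : (Nat.card ↥(CP M E₃)).Coprime (Nat.card E₁) := by
        rw [Nat.coprime_comm]
        rw [Nat.Prime.coprime_iff_not_dvd hp]
        intro hd
        exact hpσM (hC₃σM _ hp hd)
      exact le_centralizer_of_commutator_le rfl hcop (hK'F.trans hF₃E₁) hK'C
    · exact hIIH
  have hF₁E₁ : F₁ = E₁ := by
    have hdvd : Nat.card E₁ ∣ Nat.card F₁ := Subgroup.card_dvd_of_le hE₁F₁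
    have heq : Nat.card E₁ = Nat.card F₁ := (Nat.prime_dvd_prime_iff_eq hp hIIH.1).mp hdvd
    exact (Subgroup.eq_of_le_of_card_ge hE₁F₁ heq.ge).symm
  subst hF₁E₁
  -- (5) C₃ ≤ F₃
  have hC₃F : CP M E₃ ≤ F₃ := by
    apply hleF₃ _ le_rfl
    intro q hq hqd
    obtain ⟨Y, hY, hYc⟩ := exists_le_card_eq hq hqd
    rcases hP4' Y hY (by rw [hYc]; exact hq) with h | h
    · exfalso
      rw [hYc] at h
      have h1 : q ∣ Nat.card F₁ := tau1_dvd_card hG hH hEHc hF₁ h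
      have h2 : q = Nat.card F₁ := (Nat.prime_dvd_prime_iff_eq hq hp).mp h1
      apply hpσM
      rw [← h2]
      exact hC₃σM q hq hqd
    · rw [hYc] at h; exact h
  exact ⟨EH, F₃, dH, hIIH, hC₃F⟩

end Cfsg.Agent.Lib.Helper02.BG1310
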