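import Mathlib
import Cfsg.Agent.Lib.Helper02.BG1310IIb1
import Cfsg.Agent.Lib.Helper57.BG142D4
import Cfsg.Agent.Lib.Helper64.BG14K
import Cfsg.Agent.Lib.Helper13.BG1310O
import Cfsg.Agent.Lib.Helper16.BG134Asm

/-!
# BG 13.10 (Lemma D), pack K-LemmaD2: keystone 143114 `hd` (the wrapper `HD G`)
-/

set_option autoImplicit false

namespace Cfsg.Agent.Lib.Helper02.BG1310

open Cfsg Cfsg.Agent.Lib.Helper55 Cfsg.Agent.Lib.Helper31.BG134 Cfsg.Agent.Lib.Helper15.BG139

variable {G : Type*} [Group G] [Finite G]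

/-- KEYSTONE 143114 K-LD2-HD -/
theorem hd (hG : IsMinSimpleOddOrder G) (hS : HNRS G)
    (hZ : ∀ M E E₁ E₃ : Subgroup G, NRS M E E₁ E₃ →
      CP M E ≠ ⊥ ∧ ∀ Q : Subgroup G, Q ≤ E → (Nat.card Q).Prime →
        CP M Q = CP M E ∧ E ≤ Subgroup.normalizer (Q : Set G)) : HD G := by
  intro M hM hκ E hE
  push_neg at hκ
  obtain ⟨s, hsκ, hs1⟩ := hκ
  have hs3 : s ∈ tau3 M := by
    rcases (Cfsg.Agent.Lib.Helper57.BG142.kappa_facts hM hsκ).1 with h | h
    · exact absurd h hs1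
    · exact h
  haveI hsolvM : Group.IsSolvable M := ms_solvable hG hM.1
  have hsolv : Group.IsSolvable ↥E :=
    solvable_of_solvable_injective (Subgroup.inclusion_injective hE.1)
  have hbot : ∀ π : Set ℕ, ∀ q : ℕ, q.Prime → q ∣ Nat.card (⊥ : Subgroup G) → q ∈ π := by
    intro π q hq hqd
    rw [Subgroup.card_bot] at hqd
    exact absurd (Nat.dvd_one.mp hqd) hq.ne_one
  obtain ⟨E₁, hE₁, -⟩ := Cfsg.Agent.Lib.Helper54.BG134.exists_isPiHallOf_ge hsolv (tau1 M)
    (bot_le : (⊥ : Subgroup G) ≤ E) (hbot _)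
  obtain ⟨E₃, hE₃, -⟩ := Cfsg.Agent.Lib.Helper54.BG134.exists_isPiHallOf_ge hsolv (tau3 M)
    (bot_le : (⊥ : Subgroup G) ≤ E) (hbot _)
  have c71 := Cfsg.Agent.Lib.Helper13.BG1310.NR.of_kappa hG hM hE hE₁ hE₃ hsκ hs3
  obtain ⟨S₀, hS₀, hS₀c⟩ := exists_le_card_prime c71.hE₃1
  have hnr : NR M E E₁ E₃ := by
    refine ⟨hG, hM, hE, hE₁, hE₃, S₀, hS₀, hS₀c, ?_⟩
    intro h
    apply c71.hC3
    rw [eq_bot_iff, ← h]
    intro x hx
    exact ⟨hx.1, Subgroup.centralizer_le hS₀ hx.2⟩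
  have d : NRS M E E₁ E₃ := hS M E E₁ E₃ hnr
  obtain ⟨hCne, hQ⟩ := hZ M E E₁ E₃ d
  have hHall := (Cfsg.Agent.S1350.result hG M hM).1
  refine ⟨?_, ?_, fun Q hQE hQc => (hQ Q hQE hQc).2, d.hτ2, hCne⟩
  · -- (i)
    intro q hq hqd
    obtain ⟨Q, hQE, hQc⟩ := exists_le_card_eq hq hqd
    have hqσ : q ∉ sigma M :=
      Cfsg.Agent.Lib.Helper13.BG12.complIn_prime_not_mem_sigma hHall hE q hq hqd
    have hqM : q ∣ Nat.card M := hqd.trans (Subgroup.card_dvd_of_le hE.1)
    have hrank : PRankLE q 1 M := by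
      rcases Cfsg.Agent.Lib.Helper16.BG134.mem_tau_cases hG hM hq hqM hqσ with h | h | h
      · exact h.2.2.2.2
      · exact absurd h (d.hτ2 q)
      · exact h.2.2.2
    have hC : sigmaCore M ⊓ Subgroup.centralizer (Q : Set G) ≠ ⊥ := by
      have := (hQ Q hQE (by rw [hQc]; exact hq)).1
      show CP M Q ≠ ⊥
      rw [this]
      exact hCne
    exact Cfsg.Agent.Lib.Helper64.BG14.mem_kappa_of_cent_ne_bot hG hM hq hqM hqσ hrank
      (hQE.trans hE.1) hQc hC
  · -- (ii)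
    intro x hx hx1
    apply le_antisymm
    · have hz1 : Subgroup.zpowers x ≠ ⊥ := by
        intro h
        apply hx1
        have : x ∈ Subgroup.zpowers x := Subgroup.mem_zpowers x
        rw [h] at this
        exact Subgroup.mem_bot.mp this
      obtain ⟨Q, hQz, hQc⟩ := exists_le_card_prime hz1
      have hzE : Subgroup.zpowers x ≤ E := by
        rw [Subgroup.zpowers_le]
        exact hx
      have hQE : Q ≤ E := hQz.trans hzE
      have h1 := (hQ Q hQE hQc).1
      intro y hy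
      have hyQ : y ∈ CP M Q := by
        refine ⟨hy.1, ?_⟩
        show y ∈ Subgroup.centralizer (Q : Set G)
        rw [Subgroup.mem_centralizer_iff]
        intro z hz
        obtain ⟨k, rfl⟩ := Subgroup.mem_zpowers_iff.mp (hQz hz)
        have hxy : x * y = y * x :=
          (Subgroup.mem_centralizer_iff.mp hy.2) x (Set.mem_singleton x)
        exact ((show Commute x y from hxy).zpow_left k).eq
      rw [h1] at hyQ
      exact hyQ
    · intro y hy
      refine ⟨hy.1, ?_⟩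
      show y ∈ Subgroup.centralizer ({x} : Set G)
      rw [Subgroup.mem_centralizer_iff]
      intro z hz
      rw [Set.mem_singleton_iff] at hz
      subst hz
      exact (Subgroup.mem_centralizer_iff.mp hy.2) z hx

end Cfsg.Agent.Lib.Helper02.BG1310
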