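import Mathlib
import Cfsg.Agent.Lib.Helper02.BG1310IIb1
import Cfsg.Agent.Lib.Helper71.BG1310Glue
import Cfsg.Agent.Lib.Helper31.BG139L178

/-!
# BG 13.10 (Lemma D), pack K-LemmaD2: keystone 143104 `typeI_cent_le` (helper83's proof, msg 4138)
-/

set_option autoImplicit false

namespace Cfsg.Agent.Lib.Helper02.BG1310

open Cfsg Cfsg.Agent.Lib.Helper55 Cfsg.Agent.Lib.Helper31.BG134 Cfsg.Agent.Lib.Helper15.BG139

variable {G : Type*} [Group G] [Finite G]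

/-- KEYSTONE 143104 K-LD2-I -/
theorem typeI_cent_le (hTX : HTX G) (h28 : H1428 G) {M E E₁ E₃ : Subgroup G}
    (d : NRS M E E₁ E₃) (hI : TypeI M E₁ E₃) : CP M E₃ ≤ CP M E₁ := by
  have hG := d.nr.hG
  have hM := d.nr.hM
  have hE := d.nr.hE
  have hE₁E : E₁ ≤ E := d.nr.hE₁.1
  have hE₃E : E₃ ≤ E := d.nr.hE₃.1
  have hEM : E ≤ M := hE.1
  by_contra hno
  -- the structure from helper71's pack
  have c71 := Cfsg.Agent.Lib.Helper71.BG1310.nr_of_nr2 d.nr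
  obtain ⟨-, -, -, -, -, -, hfix, hE₁1⟩ := Cfsg.Agent.Lib.Helper54.BG1310.NR.structure c71
  obtain ⟨S₀, H, hS₀, hS₀c, hCS₀, hH, hNH⟩ := d.exists_coatom
  have hS₀1 : S₀ ≠ ⊥ := ne_bot_of_card_prime hS₀c
  have hS₀M : S₀ ≤ M := (hS₀.trans hE₃E).trans hEM
  obtain ⟨hEH, hnc, hMH⟩ := d.hH S₀ H hS₀ hS₀c hH hNH
  have hs3 : Nat.card S₀ ∈ tau3 M := d.nr.hE₃.2.1 _ hS₀c (Subgroup.card_dvd_of_le hS₀)
  have hsσH : Nat.card S₀ ∈ sigma H := hTX M H S₀ _ hM hH (Or.inr hs3) hS₀M rfl hCS₀ hNH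
  have hHallH := (Cfsg.Agent.S1350.result hG H hH).1
  have hS₀H : S₀ ≤ H := Subgroup.le_normalizer.trans hNH
  have hS₀σ : S₀ ≤ sigmaCore H := by
    refine Cfsg.Agent.Lib.Helper71.BG10.le_of_isPiHallOf_normal hHallH
      (Cfsg.Agent.Lib.Helper71.BG11.le_normalizer_sigmaCore H) hS₀H ?_
    intro q hq hqd
    rw [(Nat.prime_dvd_prime_iff_eq hq hS₀c).mp hqd]
    exact hsσH
  -- every prime of |E₁| is in τ₁(H)
  have hE₁H : E₁ ≤ H := hE₁E.trans hEH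
  have hτ1 : ∀ u : ℕ, u.Prime → u ∣ Nat.card E₁ → u ∈ tau1 H := by
    intro u hu hud
    by_contra hu1
    haveI : Fact u.Prime := ⟨hu⟩
    obtain ⟨U, hU, hUc⟩ := exists_le_card_eq hu hud
    have hU1 : U ≠ ⊥ := ne_bot_of_card_prime (by rw [hUc]; exact hu)
    have huσM : u ∉ sigma M := (d.nr.hE₁.2.1 u hu hud).2.1
    have hT := Cfsg.Agent.Lib.Helper84.BG134.lemmaT hG hM hH hnc huσM hu1
      (isPGroup_of_card_eq hUc) ((hU.trans hE₁E).trans hEM) (hU.trans hE₁H)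
    apply hno
    rw [← d.hC₁ U hU hU1]
    intro x hx
    refine ⟨hx.1, ?_⟩
    apply hT
    rw [hMH]
    exact hx
  -- a complement of H_σ containing E₁ and its Hall τ₁(H)-subgroup
  obtain ⟨EH, hEHc, hE₁EH⟩ := Cfsg.Agent.Lib.Helper13.BG12.exists_complIn_ge hG hH hHallH hE₁H
    (fun q hq hqd => (hτ1 q hq hqd).2.1)
  haveI hsolvH : Group.IsSolvable H := ms_solvable hG hH.1
  have hsolv : Group.IsSolvable ↥EH :=
    solvable_of_solvable_injective (Subgroup.inclusion_injective hEHc.1)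
  obtain ⟨F₁, hF₁, hE₁F₁⟩ :=
    Cfsg.Agent.Lib.Helper54.BG134.exists_isPiHallOf_ge hsolv (tau1 H) hE₁EH hτ1
  have hpa : PrimeAct H F₁ := Cfsg.Agent.Lib.Helper31.BG139.primeAct hG hH h28 hEHc hF₁
  -- a subgroup P of prime order of E₁ and a generator
  obtain ⟨P, hP, hPc⟩ := exists_le_card_prime hE₁1
  have hP1 : P ≠ ⊥ := ne_bot_of_card_prime hPc
  obtain ⟨x, hxP, hx1⟩ : ∃ x ∈ P, x ≠ 1 := by
    by_contra h
    push_neg at h
    apply hP1
    rw [eq_bot_iff]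
    intro y hy
    exact Subgroup.mem_bot.mpr (h y hy)
  have hE₃P : E₃ ≤ Subgroup.centralizer (P : Set G) := hI.1 P hP hPc
  have hS₀x : S₀ ≤ sigmaCore H ⊓ Subgroup.centralizer ({x} : Set G) := by
    refine le_inf hS₀σ ?_
    intro y hy
    have := hE₃P (hS₀ hy)
    rw [Subgroup.mem_centralizer_iff] at this
    rw [Subgroup.mem_centralizer_iff]
    intro z hz
    rw [Set.mem_singleton_iff] at hz
    subst hz
    exact this z hxP
  have hS₀F : S₀ ≤ Subgroup.centralizer (F₁ : Set G) :=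
    hS₀x.trans (hpa x (hE₁F₁ (hP hxP)) hx1)
  have hS₀E₁ : S₀ ≤ Subgroup.centralizer (E₁ : Set G) :=
    hS₀F.trans (Subgroup.centralizer_le hE₁F₁)
  apply hS₀1
  rw [eq_bot_iff, ← hfix]
  exact le_inf hS₀ hS₀E₁

end Cfsg.Agent.Lib.Helper02.BG1310
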