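import Mathlib
import Cfsg.Agent.Lib.Helper02.BG1310Defs
import Cfsg.Agent.Lib.Helper15.BG139Glue
import Cfsg.Agent.Lib.Helper16.BG142K10
import Cfsg.Agent.Lib.Helper84.BG142U2
import Cfsg.Agent.Lib.Helper71.BG11a
import Cfsg.Agent.Lib.Helper13.BG12B
import Cfsg.Agent.S1350

/-!
# BG 13.10 (Lemma D), pack K-LemmaD2: keystone 143106 `pout_of_typeII`
-/

set_option autoImplicit false

namespace Cfsg.Agent.Lib.Helper02.BG1310

open Cfsg Cfsg.Agent.Lib.Helper55 Cfsg.Agent.Lib.Helper31.BG134 Cfsg.Agent.Lib.Helper15.BG139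

variable {G : Type*} [Group G] [Finite G]

/-- KEYSTONE 143106 K-LD2-IIb2 -/
theorem pout_of_typeII {M E E₁ E₃ : Subgroup G} (d : NRS M E E₁ E₃) (hII : TypeII M E₁ E₃)
    (hCE : CP M E = ⊥) : POut M E₁ (Nat.card E₁) := by
  have hG := d.nr.hG
  have hM := d.nr.hM
  have hE := d.nr.hE
  have hp : (Nat.card E₁).Prime := hII.1
  have hE₁E : E₁ ≤ E := d.nr.hE₁.1
  have hr1 : Nat.card E₁ ∈ tau1 M := d.nr.hE₁.2.1 _ hp dvd_rfl
  refine ⟨hG, hM, hE₁E.trans hE.1, rfl, hr1, ?_, d.hC₁ne, ?_, hII.2.2.2⟩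
  · intro u hu
    have := tau1_dvd_card hG hM hE d.nr.hE₁ hu
    exact (Nat.prime_dvd_prime_iff_eq hu.1 hp).mp this
  · intro q hq hqd
    by_contra hqβ
    haveI : Fact q.Prime := ⟨hq⟩
    have hqσ : q ∈ sigma M := Cfsg.Agent.Lib.Helper71.BG11.sigmaCore_pi hG hM hq
      (hqd.trans (Subgroup.card_dvd_of_le inf_le_left))
    haveI hsolvM : Group.IsSolvable M := ms_solvable hG hM.1
    have hsolvE : Group.IsSolvable ↥E :=
      solvable_of_solvable_injective (Subgroup.inclusion_injective hE.1)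
    have hsolvE₁ : Group.IsSolvable ↥E₁ :=
      solvable_of_solvable_injective (Subgroup.inclusion_injective (hE₁E.trans hE.1))
    have hEN : E ≤ Subgroup.normalizer (sigmaCore M : Set G) :=
      hE.1.trans (Cfsg.Agent.Lib.Helper71.BG11.le_normalizer_sigmaCore M)
    have hHall := (Cfsg.Agent.S1350.result hG M hM).1
    have hcop : (Nat.card E).Coprime (Nat.card (sigmaCore M)) :=
      Cfsg.Agent.Lib.Helper13.BG12.coprime_of_primes_disjoint
        (Cfsg.Agent.Lib.Helper13.BG12.complIn_prime_not_mem_sigma hHall hE)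
        (fun p hp hpd => Cfsg.Agent.Lib.Helper71.BG11.sigmaCore_pi hG hM hp hpd)
    have hcop₁ : (Nat.card E₁).Coprime (Nat.card (sigmaCore M)) :=
      Nat.Coprime.coprime_dvd_left (Subgroup.card_dvd_of_le hE₁E) hcop
    obtain ⟨T, -, hTσ, hET, hTsyl, -⟩ :=
      Cfsg.Agent.Lib.Helper71.BG11.exists_inv_sylow_ge (q := q) (A := E) (K := sigmaCore M)
        (Q := ⊥) hsolvE hEN hcop (Cfsg.Agent.Lib.Helper71.BG11.sigmaCore_index hG hM hqσ) bot_le
        IsPGroup.of_bot (by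
          intro e _
          rw [Subgroup.mem_normalizer_iff]
          intro x
          simp [Subgroup.mem_bot])
    have hTsyl' : IsSylowIn q (sigmaCore M) T :=
      ⟨hTσ, hTsyl.2.1, fun T' _ hT'p hle => hTsyl.2.2 T' le_top hT'p hle⟩
    have hder := Cfsg.Agent.Lib.Helper16.BG142.derived_cent_sylow hG hM hE hqσ hqβ hTsyl.2.1 hTσ hET
    have hE₃T : E₃ ≤ Subgroup.centralizer (T : Set G) := d.hE₃d.trans hder
    have hTC₃ : T ≤ Subgroup.centralizer (E₃ : Set G) := Subgroup.le_centralizer_iff.mp hE₃T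
    have hne := Cfsg.Agent.Lib.Helper84.BG142.sylow_inf_cent_ne_bot (N := sigmaCore M) (K := E₁)
      (S := T) (hE₁E.trans hEN) hcop₁ (Or.inl hsolvE₁) hTsyl' (hE₁E.trans hET) hqd
    apply hne
    rw [eq_bot_iff, ← hCE]
    intro x hx
    refine ⟨hTσ hx.1, ?_⟩
    show x ∈ Subgroup.centralizer (E : Set G)
    rw [Subgroup.mem_centralizer_iff]
    intro e he
    obtain ⟨a, ha, b, hb, rfl⟩ := d.hfac e he
    have h1 : a * x = x * a := (Subgroup.mem_centralizer_iff.mp (hTC₃ hx.1)) a ha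
    have h2 : b * x = x * b := (Subgroup.mem_centralizer_iff.mp hx.2) b hb
    calc a * b * x = a * (b * x) := by rw [mul_assoc]
      _ = a * (x * b) := by rw [h2]
      _ = a * x * b := by rw [mul_assoc]
      _ = x * a * b := by rw [h1]
      _ = x * (a * b) := by rw [mul_assoc]

end Cfsg.Agent.Lib.Helper02.BG1310
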