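import Mathlib
import Cfsg.Agent.Lib.Helper02.BG1310A
import Cfsg.Agent.Lib.Helper02.BG1310Asm
import Cfsg.Agent.Lib.Helper02.BG1310I
import Cfsg.Agent.Lib.Helper02.BG1310IIb1
import Cfsg.Agent.Lib.Helper02.BG1310IIb2
import Cfsg.Agent.Lib.Helper02.BG1310HD
import Cfsg.Agent.Lib.Helper78.BG1310P4
import Cfsg.Agent.Lib.Helper78.BG1310C
import Cfsg.Agent.Lib.Helper47.BG1310IIb3
import Cfsg.Agent.Lib.Helper86.BG1310IIaS
import Cfsg.Agent.Lib.Helper01.BG1310IIa1
import Cfsg.Agent.Lib.Helper96.BG1310IIa23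
import Cfsg.Agent.Lib.Helper52.BG1310Z
import Cfsg.Agent.Lib.Helper71.BG1310Glue
import Cfsg.Agent.Lib.Helper15.BG142TX

/-!
# BG Lemma 13.10 ("Lemma D"): the final glue of the pack K-LemmaD2 (keystones 143101-143116)

`hd_main hG : Cfsg.Agent.Lib.Helper15.BG142.HD G` is the nonregular-case input of S1430/S1431.
-/

set_option autoImplicit false

namespace Cfsg.Agent.Lib.Helper02.BG1310

open Cfsg Cfsg.Agent.Lib.Helper55 Cfsg.Agent.Lib.Helper31.BG134 Cfsg.Agent.Lib.Helper15.BG139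

variable {G : Type*} [Group G] [Finite G]

/-- Lemma D in the form of `Helper02.BG1310.HD`, from T-X and helper71's structure pack -/
theorem hd_of (hG : IsMinSimpleOddOrder G) (hTX : HTX G) (hS : HNRS G) : HD G := by
  have h28 := h28_of hG
  have hP4 := Cfsg.Agent.Lib.Helper78.BG1310.hp4_of_htx hG hTX
  have hA := ha_of_htx hG hTX hP4
  have hC := Cfsg.Agent.Lib.Helper78.BG1310.hc_of_htx hG hTX
  refine hd hG hS ?_
  intro M E E₁ E₃ d
  refine Cfsg.Agent.Lib.Helper52.BG1310.nr_conclusion d (typeI_cent_le hTX h28 d) ?_ ?_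
  · intro hII hc
    refine typeII_fixes_false d hII hc ?_ ?_ ?_
    · intro S₀ H hS₀ hS₀c hH hNH
      exact Cfsg.Agent.Lib.Helper86.BG1310.typeII_not_sigma hTX d hII hS₀ hS₀c hH hNH
    · intro S₀ H hS₀ hS₀c hH hNH hp1
      exact Cfsg.Agent.Lib.Helper01.BG1310.typeII_fixes_tau1_false hTX hP4 hA hS h28 d hII hc
        hS₀ hS₀c hH hNH hp1
        (fun H hH hnc hEH hMH hpH =>
          Cfsg.Agent.Lib.Helper47.BG1310.sigmaCore_inf_le_E3 d hII.1 hH hnc hEH hMH hpH)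
    · intro S₀ H hS₀ hS₀c hH hNH hp23
      exact Cfsg.Agent.Lib.Helper96.BG1310.typeII_fixes_tau23_false hTX hP4 hC hS h28 d hII hc
        hS₀ hS₀c hH hNH hp23
  · intro hII hmv
    refine typeII_moves_false hA h28 d hII hmv ?_ ?_ ?_
    · intro S₀ H hS₀ hS₀c hH hNH
      exact exists_typeII_of_moves hTX hP4 hS d hII hmv hS₀ hS₀c hH hNH
    · intro L EL EL₃ dL hL hCE
      exact pout_of_typeII dL hL hCE
    · intro H hH hnc hEH hMH hpH
      exact Cfsg.Agent.Lib.Helper47.BG1310.sigmaCore_inf_le_E3 d hII.1 hH hnc hEH hMH hpH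

/-- **BG Lemma 13.10 (Lemma D)**, in the form `Helper02.BG1310.HD` -/
theorem hd_full (hG : IsMinSimpleOddOrder G) : HD G :=
  hd_of hG (htx_of_htx15 (Cfsg.Agent.Lib.Helper15.BG142.htx' hG))
    Cfsg.Agent.Lib.Helper71.BG1310.hnrs

/-- **BG Lemma 13.10 (Lemma D)**, in helper15's form `Helper15.BG142.HD` (input of S1430/S1431) -/
theorem hd_main (hG : IsMinSimpleOddOrder G) : Cfsg.Agent.Lib.Helper15.BG142.HD G := by
  have h := hd_full hG
  intro M E hM hE hκ
  obtain ⟨h1, h2, h3, -, -⟩ := h M hM hκ E hE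
  refine ⟨h1, ?_, h3⟩
  intro x hx hx1
  rw [h2 x hx hx1]
  exact inf_le_right

end Cfsg.Agent.Lib.Helper02.BG1310
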