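import Mathlib
import Cfsg.Agent.Lib.Helper13.BG12B
import Cfsg.Agent.Lib.Helper91.BG125e

/-!
# S1358 from the statement of S1417

`M = K U M_σ` the standard factorisation.  Every Sylow subgroup of `U` is abelian of rank at most two.
-/

set_option autoImplicit false

namespace Cfsg.Agent.Lib.Helper02.BG1358

open Cfsg Cfsg.Agent.Lib.Helper55 Cfsg.Agent.Lib.Helper13.BG12

variable {G : Type*} [Group G] [Finite G]

/-- `U` contains no nontrivial `p`-subgroup for `p ∈ σ(M)` -/
theorem eq_bot_of_mem_sigma (hG : IsMinSimpleOddOrder G) {M : Subgroup G} (hM : IsCoatom M)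
    {K U : Subgroup G} (hKU : IsSigmaDecomposition M K U) {p : ℕ} [Fact p.Prime]
    (hp : p ∈ sigma M) {Q : Subgroup G} (hQU : Q ≤ U) (hQ : IsPGroup p Q) : Q = ⊥ := by
  have hQM : Q ≤ M := hQU.trans hKU.compl.1
  have h1 : Q ≤ sigmaCore M :=
    Cfsg.Agent.Lib.Helper91.BG125.le_sigmaCore_of_mem_sigma hG hM hp hQ hQM
  have h2 : Q ≤ U ⊓ (K ⊔ sigmaCore M) := le_inf hQU (h1.trans le_sup_right)
  rw [hKU.compl.2.2.1] at h2
  exact le_bot_iff.mp h2

/-- the order of `U` involves no prime of `σ(M)` -/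
theorem not_mem_sigma_of_dvd_card (hG : IsMinSimpleOddOrder G) {M : Subgroup G} (hM : IsCoatom M)
    {K U : Subgroup G} (hKU : IsSigmaDecomposition M K U) {p : ℕ} (hp : p.Prime)
    (hpd : p ∣ Nat.card U) : p ∉ sigma M := by
  intro hpσ
  have : Fact p.Prime := ⟨hp⟩
  obtain ⟨x, hx⟩ := exists_prime_orderOf_dvd_card' (G := ↥U) p hpd
  have hQ : IsPGroup p (Subgroup.zpowers (x : G)) := by
    rw [IsPGroup.iff_card]
    refine ⟨1, ?_⟩
    rw [Nat.card_zpowers, Subgroup.orderOf_coe, hx, pow_one]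
  have hQU : Subgroup.zpowers (x : G) ≤ U := Subgroup.zpowers_le.mpr x.2
  have h0 := eq_bot_of_mem_sigma hG hM hKU hpσ hQU hQ
  rw [Subgroup.zpowers_eq_bot] at h0
  have : x = 1 := Subtype.ext h0
  rw [this, orderOf_one] at hx
  exact hp.one_lt.ne hx

theorem s1358_of_hyp17 (hG : IsMinSimpleOddOrder G) (M : Subgroup G) (hM : IsCoatom M)
    (K U : Subgroup G) (hKU : IsSigmaDecomposition M K U) (h17 : Hyp17 M) :
    ∀ (p : ℕ), p.Prime → ∀ P : Sylow p U,
      IsMulCommutative (P : Subgroup U) ∧ PRankLE p 2 (P : Subgroup U) := by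
  intro p hp P
  have : Fact p.Prime := ⟨hp⟩
  have hUM : U ≤ M := hKU.compl.1
  set Q : Subgroup G := (P : Subgroup ↥U).map U.subtype with hQdef
  have hQU : Q ≤ U := Subgroup.map_subtype_le _
  have hQp : IsPGroup p Q := P.2.map U.subtype
  by_cases hpσ : p ∈ sigma M
  · have hQ1 : Q = ⊥ := eq_bot_of_mem_sigma hG hM hKU hpσ hQU hQp
    have hP1 : (P : Subgroup ↥U) = ⊥ :=
      (Subgroup.map_eq_bot_iff_of_injective _ U.subtype_injective).mp hQ1
    have hsub : Subsingleton ↥(P : Subgroup ↥U) := by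
      rw [hP1]; infer_instance
    refine ⟨⟨⟨fun a b => Subsingleton.elim _ _⟩⟩, ?_⟩
    intro A _ _
    have h1 : Nat.card A = 1 := Nat.card_unique
    rw [h1]
    exact Nat.one_le_pow _ _ hp.pos
  · have hcomm := comm_of_pgroup_not_sigma hG hM h17 hpσ (hQU.trans hUM) hQp
    refine ⟨⟨⟨fun a b => ?_⟩⟩, ?_⟩
    · apply Subtype.ext
      apply Subtype.ext
      exact hcomm _ ⟨a.1, a.2, rfl⟩ _ ⟨b.1, b.2, rfl⟩
    · have hr2 : PRankLE p 2 ↥M := by
        by_contra h
        exact hpσ (mem_sigma_of_not_pRankLE_two hG hM hp h)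
      intro A hAc hAe
      -- the image of `A` in `G`
      set f : ↥(P : Subgroup ↥U) →* G := U.subtype.comp (P : Subgroup ↥U).subtype with hf
      have hfinj : Function.Injective f :=
        U.subtype_injective.comp (P : Subgroup ↥U).subtype_injective
      have hcard : Nat.card ↥(A.map f) = Nat.card A :=
        (Nat.card_congr (A.equivMapOfInjective f hfinj).toEquiv).symm
      rw [← hcard]
      apply pRankLE_sub_iff.mp hr2 (A.map f)
      · rintro _ ⟨a, -, rfl⟩
        exact hUM a.1.2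
      · rintro _ ⟨a, ha, rfl⟩ _ ⟨b, hb, rfl⟩
        have := hAc.is_comm.comm (⟨a, ha⟩ : ↥A) ⟨b, hb⟩
        have h2 : a * b = b * a := congrArg Subtype.val this
        rw [← map_mul, ← map_mul, h2]
      · rintro _ ⟨a, ha, rfl⟩
        rw [← map_pow, hAe a ha, map_one]

end Cfsg.Agent.Lib.Helper02.BG1358
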