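import Mathlib
import Cfsg.Agent.Lib.Helper13.BG12B
import Cfsg.Agent.Lib.Helper02.BG1358
import Cfsg.Agent.Lib.Helper55.Uniq3
import Cfsg.Agent.S2971
import Cfsg.Agent.S1350

/-!
# S1361 from the statements of S1417 and S1418

`M = K U M_σ` the standard factorisation, `1 ≠ X ≤ U` with `C_{M_σ}(X) ≠ 1`.  Then `M` is the only
maximal subgroup containing `C_G(X)`.
-/

set_option autoImplicit false

namespace Cfsg.Agent.Lib.Helper02.BG1361

open Cfsg Cfsg.Agent.Lib.Helper55 Cfsg.Agent.Lib.Helper13.BG12 Cfsg.Agent.Lib.Helper71.BG11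

variable {G : Type*} [Group G] [Finite G]

/-- an element of `M` normalizing `A = E_{p²} ≤ M`, `p ∉ σ(M)`, all of whose prime divisors are at
least `p`, centralizes `A` (given S1417) -/
theorem centralizes_of_min_prime (hG : IsMinSimpleOddOrder G) {M : Subgroup G} (hM : IsCoatom M)
    (h17 : Hyp17 M) {p : ℕ} [Fact p.Prime] (hpσ : p ∉ sigma M) {A : Subgroup G} (hAM : A ≤ M)
    (hAcard : Nat.card A = p ^ 2) {x : G} (hxM : x ∈ M)
    (hxN : x ∈ Subgroup.normalizer (A : Set G))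
    (hmin : ∀ r : ℕ, r.Prime → r ∣ orderOf x → p ≤ r) : ∀ a ∈ A, x * a = a * x := by
  have hpp : p.Prime := Fact.out
  have hn0 : orderOf x ≠ 0 := (orderOf_pos x).ne'
  have hoddn : Odd (orderOf x) := Odd.of_dvd_nat hG.1 (orderOf_dvd_natCard x)
  have hpodd : Odd p := by
    have h1 : p ∣ Nat.card A := by rw [hAcard]; exact dvd_pow_self p two_ne_zero
    exact Odd.of_dvd_nat hG.1 (h1.trans (Subgroup.card_subgroup_dvd_card A))
  have hAp : IsPGroup p A := IsPGroup.of_card hAcard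
  have hm'd : ordCompl[p] (orderOf x) ∣ orderOf x := Nat.ordCompl_dvd _ p
  have hm'0 : ordCompl[p] (orderOf x) ≠ 0 := fun h0 => by
    rw [h0, zero_dvd_iff] at hm'd
    exact hn0 hm'd
  have hpm' : ¬ p ∣ ordCompl[p] (orderOf x) := Nat.not_dvd_ordCompl hpp hn0
  have hu : ∃ k : ℕ, orderOf (x ^ ordCompl[p] (orderOf x)) = p ^ k := by
    refine ⟨(orderOf x).factorization p, ?_⟩
    rw [orderOf_pow_of_dvd hm'0 hm'd]
    exact Nat.div_eq_of_eq_mul_left (Nat.pos_of_ne_zero hm'0)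
      (Nat.ordProj_mul_ordCompl_eq_self (orderOf x) p).symm
  have hucomm := comm_of_pElement_normalizing hG hM h17 hpσ hAM hAp
    (M.pow_mem hxM (ordCompl[p] (orderOf x))) hu
    ((Subgroup.normalizer (A : Set G)).pow_mem hxN (ordCompl[p] (orderOf x)))
  have hφd : orderOf (Cfsg.Agent.Lib.Helper15.BG103.cAut A x hxN) ∣ orderOf x :=
    Cfsg.Agent.Lib.Helper15.BG103.orderOf_cAut_dvd A x hxN
  have hφm : (Cfsg.Agent.Lib.Helper15.BG103.cAut A x hxN) ^ ordCompl[p] (orderOf x) = 1 := by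
    ext a
    rw [Cfsg.Agent.Lib.Helper15.BG103.cAut_pow, hucomm a.1 a.2]
    simp
  have hφ0 : orderOf (Cfsg.Agent.Lib.Helper15.BG103.cAut A x hxN) ≠ 0 := by
    intro h0
    rw [h0, zero_dvd_iff] at hφd
    exact hn0 hφd
  have hφ1 : Cfsg.Agent.Lib.Helper15.BG103.cAut A x hxN = 1 := by
    apply mulAut_sq_eq_one hpp hAcard _ hφ0
    intro r hr hrd
    have hrn : r ∣ orderOf x := hrd.trans hφd
    have hrm' : r ∣ ordCompl[p] (orderOf x) := hrd.trans (orderOf_dvd_of_pow_eq_one hφm)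
    have hrp : r ≠ p := by
      rintro rfl
      exact hpm' hrm'
    have hpr : p ≤ r := hmin r hr hrn
    have hrodd : Odd r := Odd.of_dvd_nat hoddn hrn
    exact not_dvd_of_lt_prime hpp hpodd hrodd (lt_of_le_of_ne hpr (Ne.symm hrp))
  intro a ha
  have h2 := Cfsg.Agent.Lib.Helper15.BG103.cAut_apply A x hxN ⟨a, ha⟩
  rw [hφ1] at h2
  have h3 : a = x * a * x⁻¹ := h2
  calc x * a = x * a * x⁻¹ * x := by group
    _ = a * x := by rw [← h3]

/-- a prime divisor `r` of `|U|` with a nontrivial `r`-element of `U` centralizing a nontrivial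
element of `M_σ` lies in `τ₂(M)` -/
theorem mem_tau2_of_centralizes (hG : IsMinSimpleOddOrder G) {M : Subgroup G} (hM : IsCoatom M)
    {K U : Subgroup G} (hKU : IsSigmaDecomposition M K U) {r : ℕ} (hr : r.Prime) {x y : G}
    (hxU : x ∈ U) (hx : orderOf x = r) (hy : y ∈ sigmaCore M) (hy1 : y ≠ 1)
    (hxy : x * y = y * x) : r ∈ tau2 M := by
  have : Fact r.Prime := ⟨hr⟩
  have hUM : U ≤ M := hKU.compl.1
  have hxM : x ∈ M := hUM hxU
  have hrU : r ∣ Nat.card U := by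
    have h1 : orderOf (⟨x, hxU⟩ : ↥U) = r := by rw [← hx]; exact Subgroup.orderOf_mk x hxU
    exact h1 ▸ orderOf_dvd_natCard _
  have hrσ : r ∉ sigma M :=
    Cfsg.Agent.Lib.Helper02.BG1358.not_mem_sigma_of_dvd_card hG hM hKU hr hrU
  have hr2 : PRankLE r 2 ↥M := by
    by_contra h
    exact hrσ (mem_sigma_of_not_pRankLE_two hG hM hr h)
  refine ⟨hr, hrσ, hr2, fun hr1 => ?_⟩
  have hrM : r ∣ Nat.card M := hrU.trans (Subgroup.card_dvd_of_le hUM)
  have hr2' : r ≠ 2 := by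
    rintro rfl
    have h2 : (2 : ℕ) ∣ Nat.card G := hrM.trans (Subgroup.card_subgroup_dvd_card M)
    exact (Nat.not_even_iff_odd.mpr hG.1) (even_iff_two_dvd.mpr h2)
  -- `r ∈ κ(M)`
  have hκ : r ∈ kappa M := by
    refine ⟨hr, hrM, hrσ, fun P => ⟨Cfsg.Agent.S2971.sylow_cyclic hr2' hr1 P, ?_⟩⟩
    have hZ : IsPGroup r (Subgroup.zpowers (⟨x, hxM⟩ : ↥M)) := by
      rw [IsPGroup.iff_card]
      refine ⟨1, ?_⟩
      rw [Nat.card_zpowers, Subgroup.orderOf_mk, hx, pow_one]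
    obtain ⟨Q, hQ⟩ := hZ.exists_le_sylow
    obtain ⟨m, hm⟩ := MulAction.exists_smul_eq ↥M Q P
    have hxQ : (⟨x, hxM⟩ : ↥M) ∈ Q := hQ (Subgroup.mem_zpowers _)
    refine ⟨m * ⟨x, hxM⟩ * m⁻¹, ?_, ?_, (m : G) * y * (m : G)⁻¹, ?_, ?_, ?_⟩
    · rw [← hm]
      show m * ⟨x, hxM⟩ * m⁻¹ ∈ ((m • Q : Sylow r ↥M) : Subgroup ↥M)
      rw [Sylow.coe_subgroup_smul, Subgroup.mem_pointwise_smul_iff_inv_smul_mem]
      have hxQ' : (⟨x, hxM⟩ : ↥M) ∈ (Q : Subgroup ↥M) := hxQ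
      simpa [MulAut.smul_def, mul_assoc] using hxQ'
    · intro h
      have h1 : (⟨x, hxM⟩ : ↥M) = 1 := by
        have := congrArg (fun t => m⁻¹ * t * m) h
        simpa [mul_assoc] using this
      have h2 : x = 1 := congrArg Subtype.val h1
      rw [h2, orderOf_one] at hx
      exact hr.one_lt.ne hx
    · exact (Subgroup.mem_normalizer_iff.mp (le_normalizer_sigmaCore M m.2) y).mp hy
    · intro h
      apply hy1
      have := congrArg (fun t => (m : G)⁻¹ * t * (m : G)) h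
      simpa [mul_assoc] using this
    · show (m : G) * x * (m : G)⁻¹ * ((m : G) * y * (m : G)⁻¹) =
        (m : G) * y * (m : G)⁻¹ * ((m : G) * x * (m : G)⁻¹)
      calc (m : G) * x * (m : G)⁻¹ * ((m : G) * y * (m : G)⁻¹)
          = (m : G) * (x * y) * (m : G)⁻¹ := by group
        _ = (m : G) * (y * x) * (m : G)⁻¹ := by rw [hxy]
        _ = (m : G) * y * (m : G)⁻¹ * ((m : G) * x * (m : G)⁻¹) := by group
  have h1 : (K ⊔ sigmaCore M).relIndex M = Nat.card U := relIndex_eq_card_of_complIn hKU.compl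
  have h2 : (K ⊔ sigmaCore M).relIndex M ∣ K.relIndex M :=
    Subgroup.relIndex_dvd_of_le_left M le_sup_left
  exact hKU.hall.2.2 r hr hκ (hrU.trans (h1 ▸ h2))

theorem s1361_of_hyps (hG : IsMinSimpleOddOrder G) (M : Subgroup G) (hM : IsCoatom M)
    (K U : Subgroup G) (hKU : IsSigmaDecomposition M K U) (h17 : Hyp17 M) (h18 : Hyp18 M)
    (X : Subgroup G) (hXU : X ≤ U) (hX : X ≠ ⊥)
    (hXc : sigmaCore M ⊓ Subgroup.centralizer (X : Set G) ≠ ⊥) :
    Subgroup.centralizer (X : Set G) ≤ M ∧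
      ∀ L : Subgroup G, IsCoatom L → Subgroup.centralizer (X : Set G) ≤ L → L = M := by
  have hHall : IsPiHallOf (sigma M) (sigmaCore M) M := (Cfsg.Agent.S1350.result hG M hM).1
  have hUM : U ≤ M := hKU.compl.1
  have hUσ : ∀ q : ℕ, q.Prime → q ∣ Nat.card U → q ∉ sigma M := fun q hq hqd =>
    Cfsg.Agent.Lib.Helper02.BG1358.not_mem_sigma_of_dvd_card hG hM hKU hq hqd
  obtain ⟨⟨y, hyS, hyC⟩, hy1⟩ := (Subgroup.ne_bot_iff_exists_ne_one).mp hXc
  have hy1' : y ≠ 1 := fun h => hy1 (Subtype.ext h)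
  have hcardX : Nat.card X ≠ 1 := fun h => hX (Subgroup.card_eq_one.mp h)
  have hpp : ((Nat.card X).minFac).Prime := Nat.minFac_prime hcardX
  obtain ⟨p, hpdef⟩ : ∃ p, p = (Nat.card X).minFac := ⟨_, rfl⟩
  rw [← hpdef] at hpp
  have : Fact p.Prime := ⟨hpp⟩
  have hpX : p ∣ Nat.card X := hpdef ▸ Nat.minFac_dvd _
  -- an element of order `p` of `X`
  obtain ⟨x₀, hx₀⟩ := exists_prime_orderOf_dvd_card' (G := ↥X) p hpX
  have hx₀' : orderOf (x₀ : G) = p := by rw [Subgroup.orderOf_coe, hx₀]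
  have hpτ : p ∈ tau2 M :=
    mem_tau2_of_centralizes hG hM hKU hpp (hXU x₀.2) hx₀' hyS hy1'
      ((Subgroup.mem_centralizer_iff.mp hyC (x₀ : G) x₀.2))
  obtain ⟨E₁, hE₁, hUE₁⟩ := exists_complIn_ge hG hM hHall hUM hUσ
  obtain ⟨A, hAE₁, hAel, hAcard⟩ := exists_elemAb_sq_le_compl hG hM hHall hpτ hE₁
  obtain ⟨⟨hnormA, -⟩, -, -⟩ := h18 E₁ hE₁ p hpτ A ⟨hAE₁, hAel, hAcard⟩
  have hAM : A ≤ M := hAE₁.trans hE₁.1
  have hAC : A ≤ Subgroup.centralizer (X : Set G) := by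
    intro a ha
    rw [Subgroup.mem_centralizer_iff]
    intro x hx
    have hxE₁ : x ∈ E₁ := hUE₁ (hXU hx)
    apply centralizes_of_min_prime hG hM h17 hpτ.2.1 hAM hAcard (hE₁.1 hxE₁) (hnormA hxE₁) _ a ha
    intro r hr hrd
    have h1 : orderOf x ∣ Nat.card X := by
      have := orderOf_dvd_natCard (⟨x, hx⟩ : ↥X)
      rwa [Subgroup.orderOf_mk] at this
    exact hpdef ▸ Nat.minFac_le_of_dvd hr.two_le (hrd.trans h1)
  have huniq : ∀ L : Subgroup G, IsCoatom L → Subgroup.centralizer (X : Set G) ≤ L → L = M := by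
    intro L hL hCL
    by_contra hLM
    have hAL : A ≤ L := hAC.trans hCL
    have hbot := (h17 p hpτ A ⟨hAM, hAel, hAcard⟩).2.2.2.2.1 L hL hLM hAL
    have : y ∈ sigmaCore M ⊓ L := ⟨hyS, hCL hyC⟩
    rw [hbot, Subgroup.mem_bot] at this
    exact hy1' this
  refine ⟨?_, huniq⟩
  have hx₀1 : (x₀ : G) ≠ 1 := by
    intro h
    rw [h, orderOf_one] at hx₀'
    exact hpp.one_lt.ne hx₀'
  have hCtop : Subgroup.centralizer (X : Set G) ≠ ⊤ := by
    intro h
    apply centralizer_singleton_ne_top hG hx₀1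
    rw [eq_top_iff, ← h]
    exact Subgroup.centralizer_le (Set.singleton_subset_iff.mpr x₀.2)
  obtain ⟨L, hL, hCL⟩ := ms_exists_coatom_ge hCtop
  exact (huniq L hL hCL) ▸ hCL

end Cfsg.Agent.Lib.Helper02.BG1361
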