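import Mathlib
import Cfsg.Agent.Lib.Helper02.BG1361
import Cfsg.Agent.Lib.Helper13.BG127
import Cfsg.Agent.Lib.Helper31.BenderFit
import Cfsg.Agent.Lib.Helper68.BGCentAb2

/-!
# S1359: the elements of `U` centralizing a non-identity element of `M_σ` commute

From the statements of S1416–S1418 and BG Lemma 12.8 (`H128`).
-/

set_option autoImplicit false

namespace Cfsg.Agent.Lib.Helper02.BG1359

open Cfsg Cfsg.Agent.Lib.Helper55 Cfsg.Agent.Lib.Helper13.BG12 Cfsg.Agent.Lib.Helper71.BG11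
open Cfsg.Agent.Lib.Helper13.BG127

variable {G : Type*} [Group G] [Finite G]

/-- the part of BG Lemma 12.8 that is used: an abelian Sylow `p`-subgroup of `G` over `A ≤ E` lies in
`E` and is normal in `E` -/
def H128 (M : Subgroup G) : Prop :=
  ∀ (E : Subgroup G), IsComplIn E (sigmaCore M) M → ∀ (p : ℕ) [Fact p.Prime], p ∈ tau2 M →
    ∀ A : Subgroup G, (A ≤ E ∧ IsElementaryAbelian p A ∧ Nat.card A = p ^ 2) →
    ∀ S : Sylow p G, A ≤ (S : Subgroup G) →
      (∀ x ∈ (S : Subgroup G), ∀ y ∈ (S : Subgroup G), x * y = y * x) →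
      (S : Subgroup G) ≤ E ∧ E ≤ Subgroup.normalizer (((S : Subgroup G)) : Set G)

/-- every prime divisor of the order of an element of `U ∩ M̂_σ` lies in `τ₂(M)` -/
theorem prime_mem_tau2 (hG : IsMinSimpleOddOrder G) {M : Subgroup G} (hM : IsCoatom M)
    {K U : Subgroup G} (hKU : IsSigmaDecomposition M K U) {x : G} (hxU : x ∈ U)
    (hxσ : x ∈ sigmaHat M) {p : ℕ} (hp : p.Prime) (hpd : p ∣ orderOf x) : p ∈ tau2 M := by
  obtain ⟨-, s, hs, hs1, hxs⟩ := hxσ
  have hn0 : orderOf x ≠ 0 := (orderOf_pos x).ne'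
  obtain ⟨m, hm⟩ := hpd
  have hm0 : m ≠ 0 := by
    rintro rfl
    rw [mul_zero] at hm
    exact hn0 hm
  have hmd : m ∣ orderOf x := ⟨p, by rw [hm, mul_comm]⟩
  have hord : orderOf (x ^ m) = p := by
    rw [orderOf_pow_of_dvd hm0 hmd]
    conv_lhs => rw [hm]
    exact Nat.mul_div_cancel _ (Nat.pos_of_ne_zero hm0)
  have hc : Commute x s := hxs
  exact Cfsg.Agent.Lib.Helper02.BG1361.mem_tau2_of_centralizes hG hM hKU hp (U.pow_mem hxU m) hord
    hs hs1 (hc.pow_left m).eq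

/-- **Abelian case.** If all Sylow `p`-subgroups of `G`, `p ∈ τ₂(M)`, are abelian, every
`τ₂(M)`-element of a complement `E` of `M_σ` lies in `F(E)`. -/
theorem mem_fittingOf_of_tau2 (hG : IsMinSimpleOddOrder G) {M : Subgroup G} (hM : IsCoatom M)
    {E : Subgroup G} (hE : IsComplIn E (sigmaCore M) M) (h128 : H128 M)
    (hab : ∀ p ∈ tau2 M, ∀ S : Sylow p G, ∀ a ∈ (S : Subgroup G), ∀ b ∈ (S : Subgroup G),
      a * b = b * a)
    {x : G} (hx : x ∈ E) (hxτ : ∀ p : ℕ, p.Prime → p ∣ orderOf x → p ∈ tau2 M) :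
    x ∈ fittingOf E := by
  have hHall : IsPiHallOf (sigma M) (sigmaCore M) M := (Cfsg.Agent.S1350.result hG M hM).1
  have hFE : fittingOf E ≤ E := Cfsg.Agent.Lib.Helper31.BenderFit.fittingOf_le' E
  have hnorm : ((fittingOf E).subgroupOf E).Normal :=
    (Subgroup.normal_subgroupOf_iff_le_normalizer hFE).mpr
      (Cfsg.Agent.Lib.Helper31.BenderFit.le_normalizer_fittingOf E)
  have hpow : x ^ (fittingOf E).relIndex E ∈ fittingOf E := by
    have := Subgroup.pow_index_mem ((fittingOf E).subgroupOf E) (⟨x, hx⟩ : ↥E)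
    rw [Subgroup.mem_subgroupOf] at this
    have h2 : ((⟨x, hx⟩ : ↥E) ^ ((fittingOf E).subgroupOf E).index : ↥E).1 =
        x ^ (fittingOf E).relIndex E := by
      rw [Subgroup.coe_pow]; rfl
    rw [← h2]
    exact this
  have hcop : ((fittingOf E).relIndex E).Coprime (orderOf x) := by
    apply Nat.Coprime.symm
    apply Nat.coprime_of_dvd
    intro p hp hpx hpk
    have : Fact p.Prime := ⟨hp⟩
    have hpτ := hxτ p hp hpx
    obtain ⟨A, hAE, hAel, hAcard⟩ := exists_elemAb_sq_le_compl hG hM hHall hpτ hE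
    have hAp : IsPGroup p A := IsPGroup.of_card hAcard
    obtain ⟨S, hAS⟩ := hAp.exists_le_sylow
    obtain ⟨hSE, hES⟩ := h128 E hE p hpτ A ⟨hAE, hAel, hAcard⟩ S hAS (hab p hpτ S)
    have hSnil : Group.IsNilpotent ↥(S : Subgroup G) := S.isPGroup'.isNilpotent
    have hSF : (S : Subgroup G) ≤ fittingOf E := le_fittingOf_of_nilpotent hSE hES hSnil
    have h1 : (fittingOf E).relIndex E ∣ (S : Subgroup G).relIndex E :=
      Subgroup.relIndex_dvd_of_le_left E hSF
    have h2 : (S : Subgroup G).relIndex E ∣ (S : Subgroup G).index :=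
      ⟨E.index, (Subgroup.relIndex_mul_index hSE).symm⟩
    exact S.not_dvd_index (hpk.trans (h1.trans h2))
  obtain ⟨j, hj⟩ := exists_pow_eq_self_of_coprime hcop
  rw [← hj]
  exact (fittingOf E).pow_mem hpow j

/-- **Nonabelian case.** In the configuration of BG 12.7 every non-identity `p`-element of `E`
centralizing a non-identity element of `M_σ` lies in `A₀ = C_A(M_σ)`. -/
theorem mem_A0_of_ctx {M E A S : Subgroup G} {p : ℕ} [hp : Fact p.Prime] {P : Sylow p G} {x₀ : G}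
    (c : Ctx M E A S p P x₀) {u : G} (huE : u ∈ E) (hu1 : u ≠ 1)
    (huτ : ∀ q : ℕ, q.Prime → q ∣ orderOf u → q = p)
    {s : G} (hs : s ∈ sigmaCore M) (hs1 : s ≠ 1) (hus : u * s = s * u) :
    u ∈ A ⊓ Subgroup.centralizer (sigmaCore M : Set G) := by
  have hpp : p.Prime := hp.out
  have hG := c.hG
  obtain ⟨hA₀c, -, hA₀Z, hoth⟩ := c.main_c
  have hn0 : orderOf u ≠ 0 := (orderOf_pos u).ne'
  have hk : orderOf u = p ^ (orderOf u).primeFactorsList.length :=
    Nat.eq_prime_pow_of_unique_prime_dvd hn0 (fun {d} hd hdn => huτ d hd hdn)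
  obtain ⟨k, hkdef⟩ : ∃ k, k = (orderOf u).primeFactorsList.length := ⟨_, rfl⟩
  rw [← hkdef] at hk
  have hk0 : k ≠ 0 := by
    rintro rfl
    rw [pow_zero] at hk
    exact hu1 (orderOf_eq_one_iff.mp hk)
  -- elements of order `p` of `E` commuting with `s` generate `A₀`
  have key : ∀ w : G, w ∈ E → orderOf w = p → w * s = s * w →
      Subgroup.zpowers w = A ⊓ Subgroup.centralizer (sigmaCore M : Set G) := by
    intro w hwE hwo hws
    have hXc : Nat.card (Subgroup.zpowers w) = p := by rw [Nat.card_zpowers, hwo]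
    have hXE : Subgroup.zpowers w ≤ E := Subgroup.zpowers_le.mpr hwE
    have hXA : Subgroup.zpowers w ≤ A := c.hXA _ hXE hXc
    by_contra hne
    have h0 := (hoth _ hXA hXc hne).1
    have hsC : s ∈ Subgroup.centralizer ((Subgroup.zpowers w : Subgroup G) : Set G) := by
      rw [Subgroup.mem_centralizer_iff]
      intro g hg
      obtain ⟨i, rfl⟩ := Subgroup.mem_zpowers_iff.mp hg
      have hc : Commute w s := hws
      exact (hc.zpow_left i).eq
    have : s ∈ sigmaCore M ⊓ Subgroup.centralizer ((Subgroup.zpowers w : Subgroup G) : Set G) :=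
      ⟨hs, hsC⟩
    rw [h0, Subgroup.mem_bot] at this
    exact hs1 this
  have hk1 : k = 1 := by
    by_contra hk1
    have hk2 : 2 ≤ k := by omega
    -- `v` of order `p ^ 2`
    have hdv : p ^ (k - 2) ∣ orderOf u := by
      rw [hk]; exact pow_dvd_pow p (Nat.sub_le k 2)
    have hv : orderOf (u ^ p ^ (k - 2)) = p ^ 2 := by
      rw [orderOf_pow_of_dvd (pow_ne_zero _ hpp.ne_zero) hdv, hk]
      rw [Nat.pow_div (Nat.sub_le k 2) hpp.pos]
      congr 1; omega
    set v := u ^ p ^ (k - 2) with hvdef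
    have hvE : v ∈ E := E.pow_mem huE _
    have hvs : Commute v s := (show Commute u s from hus).pow_left _
    have hw : orderOf (v ^ p) = p := by
      rw [orderOf_pow_of_dvd hpp.ne_zero (by rw [hv]; exact dvd_pow_self p two_ne_zero), hv,
        pow_two, Nat.mul_div_cancel _ hpp.pos]
    have hwA₀ := key (v ^ p) (E.pow_mem hvE p) hw (hvs.pow_left p).eq
    have hw1 : v ^ p ≠ 1 := by
      intro h
      rw [h, orderOf_one] at hw
      exact hpp.one_lt.ne hw
    -- conjugate `v` into `S`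
    have hVp : IsPGroup p (Subgroup.zpowers v) := by
      rw [IsPGroup.iff_card]
      exact ⟨2, by rw [Nat.card_zpowers, hv]⟩
    have hVM : Subgroup.zpowers v ≤ M := Subgroup.zpowers_le.mpr (c.hEM hvE)
    obtain ⟨m, hmM, hmS⟩ := c.hS.exists_conj_le hVM hVp
    have hv'S : m * v * m⁻¹ ∈ S := hmS (conj_mem_cj (Subgroup.mem_zpowers v))
    have hv'P : m * v * m⁻¹ ∈ (P : Subgroup G) := c.hSP hv'S
    have hv'C : m * v * m⁻¹ ∈ Subgroup.centralizer (A : Set G) := by
      rw [Subgroup.mem_centralizer_iff]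
      intro a ha
      exact c.hScomm a (c.hAS ha) _ hv'S
    have hv'pp : (m * v * m⁻¹) ^ (p * p) = 1 := by
      rw [conj_pow, ← pow_two, ← hv, pow_orderOf_eq_one, mul_one, mul_inv_cancel]
    have hcen := (Cfsg.Agent.Lib.Helper68.BGCentAb.comm_of_sylow hG p P A c.hAP c.hAe c.hAc
      (fun B _ hBe hAB => c.hAmax B hBe hAB)).2 (m * v * m⁻¹) ⟨hv'P, hv'C⟩ hv'pp
    have hzeq : (m * v * m⁻¹) ^ p = m * v ^ p * m⁻¹ := conj_pow
    have hzZ : m * v ^ p * m⁻¹ ∈ omz p (P : Subgroup G) := by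
      rw [← hzeq, mem_omz]
      refine ⟨(P : Subgroup G).pow_mem hv'P p, fun y hy => (hcen y hy).symm, ?_⟩
      rw [← pow_mul]; exact hv'pp
    have hzA₀ : m * v ^ p * m⁻¹ ∈ A ⊓ Subgroup.centralizer (sigmaCore M : Set G) := by
      have hwin : v ^ p ∈ A ⊓ Subgroup.centralizer (sigmaCore M : Set G) := by
        rw [← hwA₀]; exact Subgroup.mem_zpowers _
      exact (Subgroup.mem_normalizer_iff.mp (c.le_normalizer_A0 hmM) _).mp hwin
    have hz1 : m * v ^ p * m⁻¹ ≠ 1 := by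
      intro h
      apply hw1
      have := congrArg (fun t => m⁻¹ * t * m) h
      simpa [mul_assoc] using this
    exact hA₀Z (eq_of_card_prime_of_mem hA₀c c.hZc hzA₀ hzZ hz1)
  subst hk1
  rw [pow_one] at hk
  rw [← key u huE hk hus]
  exact Subgroup.mem_zpowers u

/-- all Sylow `p`-subgroups are noncommutative as soon as one of them is -/
theorem sylow_not_comm_of_exists {p : ℕ} [Fact p.Prime] {S : Sylow p G} {a b : G}
    (ha : a ∈ (S : Subgroup G)) (hb : b ∈ (S : Subgroup G)) (hab : a * b ≠ b * a)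
    (S' : Sylow p G) : ¬ IsMulCommutative (S' : Subgroup G) := by
  intro hc
  obtain ⟨g, hg⟩ := MulAction.exists_smul_eq G S' S
  have hmem : ∀ t : G, t ∈ (S : Subgroup G) → g⁻¹ * t * g ∈ (S' : Subgroup G) := by
    intro t ht
    rw [← hg] at ht
    have ht' : t ∈ ((g • S' : Sylow p G) : Subgroup G) := ht
    rw [Sylow.coe_subgroup_smul, Subgroup.mem_pointwise_smul_iff_inv_smul_mem] at ht'
    simpa [MulAut.smul_def, mul_assoc] using ht'
  have h1 := hc.is_comm.comm (⟨g⁻¹ * a * g, hmem a ha⟩ : ↥(S' : Subgroup G))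
    ⟨g⁻¹ * b * g, hmem b hb⟩
  have h2 : g⁻¹ * a * g * (g⁻¹ * b * g) = g⁻¹ * b * g * (g⁻¹ * a * g) := congrArg Subtype.val h1
  apply hab
  have h3 := congrArg (fun t => g * t * g⁻¹) h2
  simpa [mul_assoc] using h3

theorem s1359_of_hyps (hG : IsMinSimpleOddOrder G) (M : Subgroup G) (hM : IsCoatom M)
    (K U : Subgroup G) (hKU : IsSigmaDecomposition M K U) (h16 : Hyp16 M)
    (h17 : ∀ M' : Subgroup G, IsCoatom M' → Hyp17 M') (h18 : Hyp18 M) (h128 : H128 M) :
    IsMulCommutative (Subgroup.closure ((U : Set G) ∩ sigmaHat M)) := by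
  apply Subgroup.isMulCommutative_closure
  intro x hx y hy
  have hHall : IsPiHallOf (sigma M) (sigmaCore M) M := (Cfsg.Agent.S1350.result hG M hM).1
  have hUM : U ≤ M := hKU.compl.1
  have hUσ : ∀ q : ℕ, q.Prime → q ∣ Nat.card U → q ∉ sigma M := fun q hq hqd =>
    Cfsg.Agent.Lib.Helper02.BG1358.not_mem_sigma_of_dvd_card hG hM hKU hq hqd
  obtain ⟨E₁, hE₁, hUE₁⟩ := exists_complIn_ge hG hM hHall hUM hUσ
  have hxτ : ∀ p : ℕ, p.Prime → p ∣ orderOf x → p ∈ tau2 M := fun p hp hpd =>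
    prime_mem_tau2 hG hM hKU hx.1 hx.2 hp hpd
  have hyτ : ∀ p : ℕ, p.Prime → p ∣ orderOf y → p ∈ tau2 M := fun p hp hpd =>
    prime_mem_tau2 hG hM hKU hy.1 hy.2 hp hpd
  by_cases hab : ∀ p ∈ tau2 M, ∀ S : Sylow p G, ∀ a ∈ (S : Subgroup G), ∀ b ∈ (S : Subgroup G),
      a * b = b * a
  · -- abelian case
    have hxF := mem_fittingOf_of_tau2 hG hM hE₁ h128 hab (hUE₁ hx.1) hxτ
    have hyF := mem_fittingOf_of_tau2 hG hM hE₁ h128 hab (hUE₁ hy.1) hyτ
    have hFE : fittingOf E₁ ≤ E₁ := Cfsg.Agent.Lib.Helper31.BenderFit.fittingOf_le' E₁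
    have hnil : Group.IsNilpotent ↥(fittingOf E₁) :=
      Cfsg.Agent.Lib.Helper31.BenderFit.fittingOf_isNilpotent E₁
    have hσ : ∀ q : ℕ, q.Prime → q ∣ Nat.card (fittingOf E₁) → q ∉ sigma M := fun q hq hqd =>
      complIn_prime_not_mem_sigma hHall hE₁ q hq (hqd.trans (Subgroup.card_dvd_of_le hFE))
    have hc := nilpotent_sigma'_comm hG hM (h17 M hM) (hFE.trans hE₁.1) hnil hσ
    have := hc.is_comm.comm (⟨x, hxF⟩ : ↥(fittingOf E₁)) ⟨y, hyF⟩
    exact congrArg Subtype.val this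
  · -- nonabelian case
    push_neg at hab
    obtain ⟨p, hpτ, S₀, a, ha, b, hb, hne⟩ := hab
    have : Fact p.Prime := ⟨hpτ.1⟩
    have hSyl : ∀ S : Sylow p G, ¬ IsMulCommutative (S : Subgroup G) :=
      sylow_not_comm_of_exists ha hb hne
    obtain ⟨A, hAE, hAel, hAcard⟩ := exists_elemAb_sq_le_compl hG hM hHall hpτ hE₁
    obtain ⟨S, P, x₀, c⟩ := exists_ctx hG hM hE₁ hpτ hSyl ⟨hAE, hAel, hAcard⟩ (h17 M hM) h18
    have hτ : tau2 M = {p} := c.tau2_eq hpτ h16 h17 h18
    have hmem : ∀ u : G, u ∈ (U : Set G) ∩ sigmaHat M → u = 1 ∨ u ∈ A := by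
      intro u hu
      by_cases hu1 : u = 1
      · exact Or.inl hu1
      · right
        obtain ⟨-, s, hs, hs1, hus⟩ := hu.2
        have huτ : ∀ q : ℕ, q.Prime → q ∣ orderOf u → q = p := by
          intro q hq hqd
          have := prime_mem_tau2 hG hM hKU hu.1 hu.2 hq hqd
          rw [hτ] at this
          exact this
        exact (mem_A0_of_ctx c (hUE₁ hu.1) hu1 huτ hs hs1 hus).1
    rcases hmem x hx with rfl | hxA
    · rw [one_mul, mul_one]
    · rcases hmem y hy with rfl | hyA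
      · rw [one_mul, mul_one]
      · exact c.hAcomm x hxA y hyA

end Cfsg.Agent.Lib.Helper02.BG1359
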