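import Mathlib
import Cfsg.Agent.Lib.Helper83.BG11e
import Cfsg.Agent.Lib.Helper15.BG11Z
import Cfsg.Agent.Lib.Helper13.BG12A
import Cfsg.Agent.Lib.Helper06.NormalRankTwo
import Cfsg.Agent.Lib.Helper55.Uniq2
import Cfsg.Agent.Lib.Helper55.Uniq3

/-!
# Normal `r`-subgroups of a maximal subgroup `M`, for `r ∉ σ(M)`

`G` a minimal simple group of odd order, `M` maximal, `r ∉ σ(M)`, `R ≠ 1` a normal `r`-subgroup of `M`.
Then `r ∈ τ₂(M)` and `R` is cyclic.
-/

set_option autoImplicit false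

namespace Cfsg.Agent.Lib.Helper02.BG1439

open Cfsg Cfsg.Agent.Lib.Helper55 Cfsg.Agent.Lib.Helper71.BG11 Cfsg.Agent.Lib.Helper83.BG11

variable {G : Type*} [Group G] [Finite G]

/-- a normal subgroup of `M` whose order is prime to `σ(M)` is centralized by `M_σ` -/
theorem sigmaCore_le_centralizer (hG : IsMinSimpleOddOrder G) {M : Subgroup G} (hM : IsCoatom M)
    {R : Subgroup G} (hRM : R ≤ M) (hRn : M ≤ Subgroup.normalizer (R : Set G))
    (hcop : ∀ p : ℕ, p.Prime → p ∣ Nat.card R → p ∉ sigma M) :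
    sigmaCore M ≤ Subgroup.centralizer (R : Set G) := by
  have hinf : sigmaCore M ⊓ R = ⊥ := by
    by_contra hne
    have hcard : Nat.card ↥(sigmaCore M ⊓ R) ≠ 1 := fun h => hne (Subgroup.card_eq_one.mp h)
    obtain ⟨p, hp, hpd⟩ := Nat.exists_prime_and_dvd hcard
    have h1 : p ∣ Nat.card (sigmaCore M) := hpd.trans (Subgroup.card_dvd_of_le inf_le_left)
    have h2 : p ∣ Nat.card R := hpd.trans (Subgroup.card_dvd_of_le inf_le_right)
    exact hcop p hp h2 ((Cfsg.Agent.S1350.result hG M hM).1.2.1 p hp h1)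
  intro x hx
  rw [Subgroup.mem_centralizer_iff]
  intro y hy
  have hxM : x ∈ M := sigmaCore_le M hx
  have hyM : y ∈ M := hRM hy
  have h1 : y * x * y⁻¹ * x⁻¹ ∈ sigmaCore M := by
    have := (Subgroup.mem_normalizer_iff.mp (le_normalizer_sigmaCore M hyM) x).mp hx
    exact (sigmaCore M).mul_mem this ((sigmaCore M).inv_mem hx)
  have h2 : y * x * y⁻¹ * x⁻¹ ∈ R := by
    have := (Subgroup.mem_normalizer_iff.mp (hRn hxM) y⁻¹).mp (R.inv_mem hy)
    have h3 : y * x * y⁻¹ * x⁻¹ = y * (x * y⁻¹ * x⁻¹) := by group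
    rw [h3]
    exact R.mul_mem hy this
  have h3 : y * x * y⁻¹ * x⁻¹ ∈ sigmaCore M ⊓ R := ⟨h1, h2⟩
  rw [hinf, Subgroup.mem_bot] at h3
  calc y * x = (y * x * y⁻¹ * x⁻¹) * (x * y) := by group
    _ = x * y := by rw [h3, one_mul]

/-- **Key lemma.** A nontrivial normal `r`-subgroup of `M`, `r ∉ σ(M)`, is cyclic and `r ∈ τ₂(M)`. -/
theorem tau2_and_cyclic (hG : IsMinSimpleOddOrder G) {M : Subgroup G} (hM : IsCoatom M) (r : ℕ)
    [hrp : Fact r.Prime] (hr : r ∉ sigma M) {R : Subgroup G} (hRM : R ≤ M)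
    (hRn : M ≤ Subgroup.normalizer (R : Set G)) (hRr : IsPGroup r R) (hR1 : R ≠ ⊥) :
    r ∈ tau2 M ∧ IsCyclic ↥R := by
  have hrP : r.Prime := hrp.out
  have hM1 : M ≠ ⊥ := by
    rintro rfl
    exact hR1 (le_bot_iff.mp hRM)
  have hσ1 : sigmaCore M ≠ ⊥ := Cfsg.Agent.Lib.Helper83.BG11.sigmaCore_ne_bot hG hM hM1
  have hσR : sigmaCore M ≤ Subgroup.centralizer (R : Set G) := by
    apply sigmaCore_le_centralizer hG hM hRM hRn
    intro p hp hpd hpσ
    obtain ⟨n, hn⟩ := IsPGroup.iff_card.mp hRr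
    rw [hn] at hpd
    have : p = r := (Nat.prime_dvd_prime_iff_eq hp hrP).mp (hp.dvd_of_dvd_pow hpd)
    exact hr (this ▸ hpσ)
  -- `Z = Ω₁(Z(R))`
  set Z := omegaCenter r R with hZdef
  have hZ1 : Z ≠ ⊥ := omegaCenter_ne_bot hRr hR1
  have hZR : Z ≤ R := omegaCenter_le r R
  have hZM : Z ≤ M := hZR.trans hRM
  have hMZ : M ≤ Subgroup.normalizer (Z : Set G) :=
    hRn.trans (normalizer_le_normalizer_omegaCenter r R)
  have hNZ : Subgroup.normalizer (Z : Set G) = M := ms_normalizer_eq hG hM hZ1 hZM hMZ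
  have hZc : ∀ a ∈ Z, ∀ b ∈ Z, a * b = b * a := fun a ha b hb =>
    (mem_omegaCenter.mp ha).2.1 b (hZR hb)
  have hZe : ∀ a ∈ Z, a ^ r = 1 := fun a ha => (mem_omegaCenter.mp ha).2.2
  have hZel : IsElementaryAbelian r Z :=
    ⟨⟨⟨fun a b => Subtype.ext (hZc a.1 a.2 b.1 b.2)⟩⟩, hZe⟩
  have hCZ : Subgroup.centralizer (Z : Set G) ≤ M := by
    rw [← hNZ]
    exact Subgroup.centralizer_le_normalizer _
  have hσZ : sigmaCore M ≤ Subgroup.centralizer (Z : Set G) :=
    hσR.trans (Subgroup.centralizer_le (SetLike.coe_subset_coe.mpr hZR))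
  have hr2 : PRankLE r 2 ↥M := by
    by_contra h
    exact hr (Cfsg.Agent.Lib.Helper13.BG12.mem_sigma_of_not_pRankLE_two hG hM hrP h)
  have hZle : Nat.card Z ≤ r ^ 2 := pRankLE_sub_iff.mp hr2 Z hZM hZc hZe
  have hZp : IsPGroup r Z := hRr.to_le hZR
  obtain ⟨k, hk⟩ := IsPGroup.iff_card.mp hZp
  have hk0 : k ≠ 0 := by
    rintro rfl
    rw [pow_zero] at hk
    exact hZ1 (Subgroup.card_eq_one.mp hk)
  have hk2 : k ≤ 2 := by
    rw [hk] at hZle
    exact (Nat.pow_le_pow_iff_right hrP.one_lt).mp hZle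
  have hk12 : k = 1 ∨ k = 2 := by omega
  rcases hk12 with rfl | rfl
  · -- `|Z| = r`
    rw [pow_one] at hk
    obtain ⟨hrank, -, A, hAel, hAcard, hZA⟩ :=
      Cfsg.Agent.S1409.result hG M hM r hr Z hk hNZ.le
    have hAc : ∀ a ∈ A, ∀ b ∈ A, a * b = b * a := fun a ha b hb => by
      have := hAel.1.is_comm.comm (⟨a, ha⟩ : ↥A) ⟨b, hb⟩
      exact congrArg Subtype.val this
    have hAM : A ≤ M := by
      intro a ha
      apply hCZ
      rw [Subgroup.mem_centralizer_iff]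
      intro z hz
      exact hAc z (hZA hz) a ha
    have hE : Exc M r A Z := ⟨hM, hr, hAM, hAel, hAcard, hZA, hk, hNZ.le⟩
    have hAp : IsPGroup r A := Cfsg.Agent.Lib.Helper15.BG11Z.isPGroup_of_elemAb hAel
    obtain ⟨P, hP, hAP⟩ := exists_isSylowIn_ge (p := r) hAM hAp
    have hRP : R ≤ P := hP.normal_le hRM hRr hRn
    have hPc := sylow_comm hG hE hP hAP
    have hΩ := mem_iff_pow hG hE hP hAP
    have hfpf := sigmaCore_inf_cent_A hG hE
    have hAR : ¬ A ≤ R := by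
      intro hAR
      have : sigmaCore M ≤ sigmaCore M ⊓ Subgroup.centralizer (A : Set G) :=
        le_inf le_rfl (hσR.trans (Subgroup.centralizer_le (SetLike.coe_subset_coe.mpr hAR)))
      rw [hfpf] at this
      exact hσ1 (le_bot_iff.mp this)
    refine ⟨⟨hrP, hr, hrank.1, hrank.2⟩, ?_⟩
    -- `R` is abelian with `Ω₁(R) = R ∩ A` of order at most `r`
    have hRA : Nat.card ↥(R ⊓ A) ≤ r := by
      have hdvd : Nat.card ↥(R ⊓ A) ∣ r ^ 2 := hAcard ▸ Subgroup.card_dvd_of_le inf_le_right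
      obtain ⟨m, hm2, hm⟩ := (Nat.dvd_prime_pow hrP).mp hdvd
      have hm2' : m ≠ 2 := by
        rintro rfl
        apply hAR
        have : R ⊓ A = A :=
          Subgroup.eq_of_le_of_card_ge inf_le_right (by rw [hm, hAcard])
        exact this ▸ inf_le_left
      have hm1 : m ≤ 1 := by omega
      rw [hm]
      calc r ^ m ≤ r ^ 1 := Nat.pow_le_pow_right hrP.pos hm1
        _ = r := pow_one r
    let _ : CommGroup ↥R :=
      { (inferInstance : Group ↥R) with
        mul_comm := fun a b => Subtype.ext (hPc a.1 (hRP a.2) b.1 (hRP b.2)) }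
    apply Cfsg.Agent.Lib.Helper06.isCyclic_of_card_omega_le (p := r) hRr
    refine le_trans ?_ hRA
    apply Nat.card_le_card_of_injective
      (fun w : {w : ↥R // w ^ r = 1} => (⟨(w.1 : G), ⟨w.1.2, ?_⟩⟩ : ↥(R ⊓ A)))
    · intro a b hab
      have := congrArg Subtype.val hab
      exact Subtype.ext (Subtype.ext this)
    · apply (hΩ _ (hRP w.1.2)).mp
      have := congrArg Subtype.val w.2
      simpa using this
  · -- `|Z| = r ^ 2`: impossible by Lemma Z
    exfalso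
    have h0 := Cfsg.Agent.Lib.Helper15.BG11Z.sigmaCore_inf_centralizer_eq_bot hG hM r hr Z hZM hZel
      hk hCZ
    have : sigmaCore M ≤ sigmaCore M ⊓ Subgroup.centralizer (Z : Set G) := le_inf le_rfl hσZ
    rw [h0] at this
    exact hσ1 (le_bot_iff.mp this)

end Cfsg.Agent.Lib.Helper02.BG1439
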