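import Mathlib
import Cfsg.Agent.Lib.Helper78.BG128
import Cfsg.Agent.Lib.Helper13.BG12B
import Cfsg.Agent.S1350

/-!
# S1421 (BG 12.11), leaf (A): the abelian normal subgroup `A₀` in the abelian Sylow case

`A₀` is generated by the elements of `E` of `τ₂(M)`-prime-power order.  For `p ∈ τ₂(M)` an abelian
Sylow `p`-subgroup of `G` over `A ≤ E` is a normal subgroup of `E` (BG 12.8), so `A₀` is abelian;
`C_E(x)`, `x ∈ M_σ#`, is a `τ₂(M)`-group by the hypothesis.
-/

set_option autoImplicit false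

namespace Cfsg.Agent.Lib.Helper02.BG1211

open Cfsg Cfsg.Agent.Lib.Helper13.BG12 Cfsg.Agent.Lib.Helper78.BG128

variable {G : Type*} [Group G] [Finite G]

/-- the generators of `A₀` -/
def genA0 (M E : Subgroup G) : Set G :=
  {g | g ∈ E ∧ ∃ p ∈ tau2 M, ∃ k : ℕ, orderOf g = p ^ k}

/-- BG 12.8: for `p ∈ τ₂(M)` with abelian Sylow `p`-subgroups, some Sylow `p`-subgroup of `G` is a
normal subgroup of `E` -/
theorem exists_normal_sylow (hG : IsMinSimpleOddOrder G) {M : Subgroup G} (hM : IsCoatom M)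
    {E : Subgroup G} (hE : IsComplIn E (sigmaCore M) M) {p : ℕ} [Fact p.Prime] (hp : p ∈ tau2 M)
    (hab : ∀ S : Sylow p G, ∀ a ∈ (S : Subgroup G), ∀ b ∈ (S : Subgroup G), a * b = b * a) :
    ∃ S : Sylow p G, (S : Subgroup G) ≤ E ∧ E ≤ Subgroup.normalizer ((S : Subgroup G) : Set G) := by
  have hHall : IsPiHallOf (sigma M) (sigmaCore M) M := (Cfsg.Agent.S1350.result hG M hM).1
  obtain ⟨A, hAE, hAel, hAcard⟩ := exists_elemAb_sq_le_compl hG hM hHall hp hE
  have hAp : IsPGroup p A := IsPGroup.of_card hAcard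
  obtain ⟨S, hAS⟩ := hAp.exists_le_sylow
  obtain ⟨h1, h2, -⟩ := sylow_abelian_structure hG hM hE hp ⟨hAE, hAel, hAcard⟩ S hAS (hab S)
  exact ⟨S, h1, h2⟩

/-- a generator of `A₀` lies in a normal Sylow subgroup of `E` -/
theorem mem_sylow_of_gen {E : Subgroup G} {p : ℕ} [Fact p.Prime] (S : Sylow p G)
    (hES : E ≤ Subgroup.normalizer ((S : Subgroup G) : Set G)) {g : G} (hg : g ∈ E) {k : ℕ}
    (hk : orderOf g = p ^ k) : g ∈ (S : Subgroup G) := by
  apply mem_sylow_of_mem_normalizer S (hES hg) (a := k)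
  rw [← hk]
  exact pow_orderOf_eq_one g

/-- the generators of `A₀` commute -/
theorem genA0_comm (hG : IsMinSimpleOddOrder G) {M : Subgroup G} (hM : IsCoatom M)
    {E : Subgroup G} (hE : IsComplIn E (sigmaCore M) M)
    (hab : ∀ p ∈ tau2 M, ∀ S : Sylow p G, ∀ a ∈ (S : Subgroup G), ∀ b ∈ (S : Subgroup G),
      a * b = b * a) {g h : G} (hg : g ∈ genA0 M E) (hh : h ∈ genA0 M E) : g * h = h * g := by
  obtain ⟨hgE, p, hp, k, hk⟩ := hg
  obtain ⟨hhE, q, hq, l, hl⟩ := hh
  have : Fact p.Prime := ⟨hp.1⟩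
  have : Fact q.Prime := ⟨hq.1⟩
  obtain ⟨S, hSE, hES⟩ := exists_normal_sylow hG hM hE hp (hab p hp)
  obtain ⟨T, hTE, hET⟩ := exists_normal_sylow hG hM hE hq (hab q hq)
  have hgS : g ∈ (S : Subgroup G) := mem_sylow_of_gen S hES hgE hk
  have hhT : h ∈ (T : Subgroup G) := mem_sylow_of_gen T hET hhE hl
  by_cases hpq : p = q
  · subst hpq
    exact hab p hp T g (mem_sylow_of_gen T hET hgE hk) h hhT
  · have hdisj : Disjoint (S : Subgroup G) (T : Subgroup G) :=
      IsPGroup.disjoint_of_ne p q hpq _ _ S.isPGroup' T.isPGroup'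
    have h1 : g * h * g⁻¹ * h⁻¹ ∈ (S : Subgroup G) := by
      have : h * g⁻¹ * h⁻¹ ∈ (S : Subgroup G) :=
        (Subgroup.mem_normalizer_iff.mp (hES hhE) g⁻¹).mp ((S : Subgroup G).inv_mem hgS)
      have h2 := (S : Subgroup G).mul_mem hgS this
      have e : g * (h * g⁻¹ * h⁻¹) = g * h * g⁻¹ * h⁻¹ := by group
      rwa [e] at h2
    have h2 : g * h * g⁻¹ * h⁻¹ ∈ (T : Subgroup G) := by
      have : g * h * g⁻¹ ∈ (T : Subgroup G) :=
        (Subgroup.mem_normalizer_iff.mp (hET hgE) h).mp hhT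
      exact (T : Subgroup G).mul_mem this ((T : Subgroup G).inv_mem hhT)
    have h3 : g * h * g⁻¹ * h⁻¹ = 1 := by
      have := Subgroup.disjoint_def.mp hdisj h1 h2
      exact this
    calc g * h = (g * h * g⁻¹ * h⁻¹) * (h * g) := by group
      _ = h * g := by rw [h3, one_mul]

/-- an element of `E` all of whose prime divisors lie in `τ₂(M)` is in `A₀` -/
theorem mem_closure_genA0 {M E : Subgroup G} :
    ∀ (n : ℕ) (c : G), orderOf c = n → c ∈ E →
      (∀ r : ℕ, r.Prime → r ∣ orderOf c → r ∈ tau2 M) → c ∈ Subgroup.closure (genA0 M E) := by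
  intro n
  induction n using Nat.strong_induction_on with
  | _ n ih =>
    intro c hcn hcE hcτ
    by_cases hc1 : orderOf c = 1
    · rw [orderOf_eq_one_iff] at hc1
      rw [hc1]
      exact Subgroup.one_mem _
    · obtain ⟨p, hp, hpd⟩ := Nat.exists_prime_and_dvd hc1
      have : Fact p.Prime := ⟨hp⟩
      have hpτ : p ∈ tau2 M := hcτ p hp hpd
      have ho : orderOf (c ^ p) = orderOf c / p := orderOf_pow_of_dvd hp.ne_zero hpd
      have hlt : orderOf (c ^ p) < n := by
        rw [ho, ← hcn]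
        exact Nat.div_lt_self (orderOf_pos c) hp.one_lt
      have h1 : c ^ p ∈ Subgroup.closure (genA0 M E) := by
        apply ih _ hlt (c ^ p) rfl (E.pow_mem hcE p)
        intro r hr hrd
        exact hcτ r hr (hrd.trans (orderOf_pow_dvd p))
      have h1' : c ^ (p ^ 1) ∈ Subgroup.closure (genA0 M E) := by rwa [pow_one]
      apply mem_of_pow_mem_of_pElements h1'
      intro m a hma
      apply Subgroup.subset_closure
      refine ⟨E.pow_mem hcE m, p, hpτ, ?_⟩
      have hdvd : orderOf (c ^ m) ∣ p ^ a := orderOf_dvd_of_pow_eq_one hma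
      obtain ⟨j, -, hj⟩ := (Nat.dvd_prime_pow hp).mp hdvd
      exact ⟨j, hj⟩

/-- **(A)** all Sylow `p`-subgroups, `p ∈ τ₂(M)`, abelian: the abelian normal subgroup `A₀`. -/
theorem abelian_case_A0 (hG : IsMinSimpleOddOrder G) {M : Subgroup G} (hM : IsCoatom M)
    {E : Subgroup G} (hE : IsComplIn E (sigmaCore M) M)
    (h : ∀ e ∈ E, e ≠ 1 → (∀ p : ℕ, p.Prime → p ∣ orderOf e → p ∈ tau1 M ∪ tau3 M) →
      sigmaCore M ⊓ Subgroup.centralizer ({e} : Set G) = ⊥)
    (hab : ∀ p ∈ tau2 M, ∀ S : Sylow p G, ∀ a ∈ (S : Subgroup G), ∀ b ∈ (S : Subgroup G),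
      a * b = b * a) :
    ∃ A₀ : Subgroup G, A₀ ≤ E ∧ E ≤ Subgroup.normalizer (A₀ : Set G) ∧ IsMulCommutative A₀ ∧
      ∀ x ∈ sigmaCore M, x ≠ 1 → E ⊓ Subgroup.centralizer ({x} : Set G) ≤ A₀ := by
  have hHall : IsPiHallOf (sigma M) (sigmaCore M) M := (Cfsg.Agent.S1350.result hG M hM).1
  refine ⟨Subgroup.closure (genA0 M E), ?_, ?_, ?_, ?_⟩
  · rw [Subgroup.closure_le]
    intro g hg
    exact hg.1
  · apply le_normalizer_of_conj_mem
    intro e he a ha
    induction ha using Subgroup.closure_induction with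
    | mem g hg =>
      apply Subgroup.subset_closure
      obtain ⟨hgE, p, hp, k, hk⟩ := hg
      refine ⟨E.mul_mem (E.mul_mem he hgE) (E.inv_mem he), p, hp, k, ?_⟩
      rw [← hk]
      have := orderOf_injective (MulAut.conj e).toMonoidHom (MulAut.conj e).injective g
      simpa [MulAut.conj_apply] using this
    | one =>
      have : e * 1 * e⁻¹ = 1 := by group
      rw [this]
      exact Subgroup.one_mem _
    | mul x y _ _ hx hy =>
      have : e * (x * y) * e⁻¹ = (e * x * e⁻¹) * (e * y * e⁻¹) := by group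
      rw [this]
      exact Subgroup.mul_mem _ hx hy
    | inv x _ hx =>
      have : e * x⁻¹ * e⁻¹ = (e * x * e⁻¹)⁻¹ := by group
      rw [this]
      exact Subgroup.inv_mem _ hx
  · apply Subgroup.isMulCommutative_closure
    intro g hg k hk
    exact genA0_comm hG hM hE hab hg hk
  · intro x hx hx1 g hg
    obtain ⟨hgE, hgx⟩ := Subgroup.mem_inf.mp hg
    have hgx' : x * g = g * x := by
      have := Subgroup.mem_centralizer_iff.mp hgx x (Set.mem_singleton x)
      exact this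
    apply mem_closure_genA0 (orderOf g) g rfl hgE
    intro r hr hrd
    have : Fact r.Prime := ⟨hr⟩
    -- the power of `g` of order `r`
    obtain ⟨m, hm⟩ := hrd
    have hn0 : orderOf g ≠ 0 := (orderOf_pos g).ne'
    have hm0 : m ≠ 0 := by
      rintro rfl
      rw [mul_zero] at hm
      exact hn0 hm
    have hmd : m ∣ orderOf g := ⟨r, by rw [hm, mul_comm]⟩
    have hord : orderOf (g ^ m) = r := by
      rw [orderOf_pow_of_dvd hm0 hmd]
      conv_lhs => rw [hm]
      exact Nat.mul_div_cancel _ (Nat.pos_of_ne_zero hm0)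
    have heE : g ^ m ∈ E := E.pow_mem hgE m
    have he1 : g ^ m ≠ 1 := by
      intro h1
      rw [h1, orderOf_one] at hord
      exact hr.one_lt.ne hord
    have hrE : r ∣ Nat.card E := by
      have := Subgroup.orderOf_dvd_natCard E heE
      rwa [hord] at this
    have hrσ : r ∉ sigma M := complIn_prime_not_mem_sigma hHall hE r hr hrE
    have hr2 : PRankLE r 2 ↥M := by
      by_contra hc
      exact hrσ (mem_sigma_of_not_pRankLE_two hG hM hr hc)
    refine ⟨hr, hrσ, hr2, fun hr1 => ?_⟩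
    have hrM : r ∣ Nat.card M := hrE.trans (Subgroup.card_dvd_of_le hE.1)
    have hτ : ∀ q : ℕ, q.Prime → q ∣ orderOf (g ^ m) → q ∈ tau1 M ∪ tau3 M := by
      intro q hq hqd
      rw [hord] at hqd
      have hqr : q = r := (Nat.prime_dvd_prime_iff_eq hq hr).mp hqd
      subst hqr
      by_cases hd : q ∣ Nat.card ↥⁅M, M⁆
      · exact Or.inr ⟨hq, hrσ, hd, hr1⟩
      · exact Or.inl ⟨hq, hrσ, hrM, hd, hr1⟩
    have hbot := h (g ^ m) heE he1 hτ
    have hxmem : x ∈ sigmaCore M ⊓ Subgroup.centralizer ({g ^ m} : Set G) := by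
      refine Subgroup.mem_inf.mpr ⟨hx, ?_⟩
      rw [Subgroup.mem_centralizer_iff]
      intro y hy
      rw [Set.mem_singleton_iff] at hy
      subst hy
      have hc : Commute g x := hgx'.symm
      exact (hc.pow_left m).eq
    rw [hbot, Subgroup.mem_bot] at hxmem
    exact hx1 hxmem

end Cfsg.Agent.Lib.Helper02.BG1211
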