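import Mathlib
import Cfsg.Agent.S1350
import Cfsg.Agent.S1414
import Cfsg.Agent.Lib.Helper58.KChar1
import Cfsg.Agent.Lib.Helper71.BG10Sub
import Cfsg.Agent.Lib.Helper71.BG11a

/-!
# S1421 (BG 12.11), sub-leaf (I1): `r ∈ σ(L)`

`e ∈ L_σ`, which has a normal `p`-complement (S1414, `p ∉ β(L)`); a `p'`-element of `L_σ`
normalizing the `p`-subgroup `A` of `L_σ` centralizes it.
-/

set_option autoImplicit false

namespace Cfsg.Agent.Lib.Helper02.BG1211

open Cfsg Cfsg.Agent.Lib.Helper71.BG10 Cfsg.Agent.Lib.Helper71.BG11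

variable {G : Type*} [Group G] [Finite G]

/-- **(I1)** `r ∈ σ(L)`: an `r`-element `e` of `L` normalizing the `p`-subgroup `A` of `L_σ`
(`p ∉ β(L)`, `r ≠ p`) centralizes `A`. -/
theorem centralizes_of_mem_sigma (hG : IsMinSimpleOddOrder G) {L : Subgroup G} (hL : IsCoatom L)
    {p : ℕ} [Fact p.Prime] (hpβ : p ∉ beta L) {A : Subgroup G} (hAp : IsPGroup p A)
    (hAσ : A ≤ sigmaCore L) (hA1 : A ≠ ⊥)
    {r : ℕ} (hr : r.Prime) (hrp : r ≠ p) (hrσ : r ∈ sigma L) {e : G} (heL : e ∈ L) {k : ℕ}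
    (hek : orderOf e = r ^ k) (heA : e ∈ Subgroup.normalizer (A : Set G)) :
    e ∈ Subgroup.centralizer (A : Set G) := by
  have hpp : p.Prime := Fact.out
  have hHall : IsPiHallOf (sigma L) (sigmaCore L) L := (Cfsg.Agent.S1350.result hG L hL).1
  -- `e ∈ L_σ`
  have heσ : e ∈ sigmaCore L := by
    have hZL : Subgroup.zpowers e ≤ L := by
      rw [Subgroup.zpowers_le]; exact heL
    have hZ : Subgroup.zpowers e ≤ sigmaCore L := by
      refine le_of_isPiHallOf_normal hHall (le_normalizer_sigmaCore L) hZL ?_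
      intro q hq hqd
      rw [Nat.card_zpowers, hek] at hqd
      have : q = r := (Nat.prime_dvd_prime_iff_eq hq hr).mp (hq.dvd_of_dvd_pow hqd)
      rw [this]; exact hrσ
    exact hZ (Subgroup.mem_zpowers e)
  -- `p ∣ #L`
  have hpL : p ∣ Nat.card L := by
    have hA1' : Nat.card A ≠ 1 := fun h => hA1 (Subgroup.card_eq_one.mp h)
    obtain ⟨n, hn⟩ := IsPGroup.iff_card.mp hAp
    have hn0 : n ≠ 0 := by
      rintro rfl
      rw [pow_zero] at hn
      exact hA1' hn
    have h1 : p ∣ Nat.card A := by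
      rw [hn]; exact dvd_pow_self p hn0
    exact h1.trans (Subgroup.card_dvd_of_le (hAσ.trans (sigmaCore_le L)))
  have hnpc : HasNormalPComplement p ↥(sigmaCore L) :=
    ((Cfsg.Agent.S1414.result hG L hL).2.2.2.2 p hpp hpL hpβ).2.1
  -- apply the normal `p`-complement lemma inside `L_σ`
  have hXp : IsPGroup p (A.subgroupOf (sigmaCore L)) :=
    hAp.comap_of_injective (sigmaCore L).subtype (sigmaCore L).subtype_injective
  have hgN : (⟨e, heσ⟩ : ↥(sigmaCore L)) ∈
      Subgroup.normalizer ((A.subgroupOf (sigmaCore L) : Subgroup ↥(sigmaCore L)) : Set ↥(sigmaCore L)) := by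
    rw [Subgroup.mem_normalizer_iff]
    intro x
    rw [Subgroup.mem_subgroupOf, Subgroup.mem_subgroupOf]
    exact Subgroup.mem_normalizer_iff.mp heA x.1
  have hgo : (orderOf (⟨e, heσ⟩ : ↥(sigmaCore L))).Coprime p := by
    rw [Subgroup.orderOf_mk, hek]
    exact Nat.Coprime.pow_left k ((Nat.coprime_primes hr hpp).mpr hrp)
  have hc := Cfsg.Agent.Lib.Helper58.KChar.centralizes_of_npc hnpc
    (A.subgroupOf (sigmaCore L)) hXp ⟨e, heσ⟩ hgN hgo
  rw [Subgroup.mem_centralizer_iff] at hc ⊢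
  intro a ha
  have := hc ⟨a, hAσ ha⟩ (by rw [SetLike.mem_coe, Subgroup.mem_subgroupOf]; exact ha)
  exact congrArg Subtype.val this

end Cfsg.Agent.Lib.Helper02.BG1211
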