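import Mathlib
import Cfsg.Agent.Lib.Helper13.BG12A

/-!
# S1421 (BG 12.11), sub-leaf (I2): `r`-rank of `L` one

A Sylow `r`-subgroup `R ∋ e` of the complement `E₂` is cyclic; the statement of S1427 for
`(L, E₂, R)` gives `A ≤ L_σ ∩ C(e^j) = L_σ ∩ C(R)`.
-/

set_option autoImplicit false

namespace Cfsg.Agent.Lib.Helper02.BG1211

open Cfsg Cfsg.Agent.Lib.Helper13.BG12

variable {G : Type*} [Group G] [Finite G]

/-- **(I2)** `r`-rank of `L` is one: an `r`-element `e` of the complement `E₂` some non-identity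
power of which centralizes `A ≤ L_σ` centralizes `A`. -/
theorem centralizes_of_rank_one (hG : IsMinSimpleOddOrder G)
    (h1427 : ∀ (L : Subgroup G), IsCoatom L → ∀ (E' : Subgroup G), IsComplIn E' (sigmaCore L) L →
      ∀ (r : ℕ) [Fact r.Prime] (R : Sylow r E'), (R : Subgroup E') ≠ ⊥ →
        IsCyclic (R : Subgroup E') →
        ∀ x ∈ (R : Subgroup E').map E'.subtype, x ≠ 1 →
          sigmaCore L ⊓ Subgroup.centralizer ({x} : Set G) =
            sigmaCore L ⊓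
              Subgroup.centralizer (((R : Subgroup E').map E'.subtype : Subgroup G) : Set G))
    {L : Subgroup G}
    (hL : IsCoatom L) {E₂ : Subgroup G} (hE₂ : IsComplIn E₂ (sigmaCore L) L) {A : Subgroup G}
    (hAσ : A ≤ sigmaCore L) {r : ℕ} (hr : r.Prime) (hr1 : PRankLE r 1 ↥L) {e : G} (heE₂ : e ∈ E₂)
    {k : ℕ} (hek : orderOf e = r ^ k)
    (h0 : ∃ j : ℕ, e ^ j ≠ 1 ∧ e ^ j ∈ Subgroup.centralizer (A : Set G)) :
    e ∈ Subgroup.centralizer (A : Set G) := by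
  have : Fact r.Prime := ⟨hr⟩
  obtain ⟨j, hj1, hjA⟩ := h0
  have he1 : e ≠ 1 := by
    rintro rfl
    exact hj1 (one_pow j)
  have hk0 : k ≠ 0 := by
    rintro rfl
    rw [pow_zero, orderOf_eq_one_iff] at hek
    exact he1 hek
  -- `r` is odd
  have hr2 : r ≠ 2 := by
    rintro rfl
    have h1 : (2 : ℕ) ∣ orderOf e := by
      rw [hek]
      exact dvd_pow_self 2 hk0
    have h2 : (2 : ℕ) ∣ Nat.card G := h1.trans (orderOf_dvd_natCard e)
    exact (Nat.not_even_iff_odd.mpr hG.1) (even_iff_two_dvd.mpr h2)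
  -- a Sylow `r`-subgroup of `E₂` containing `e`
  have hZ : IsPGroup r (Subgroup.zpowers (⟨e, heE₂⟩ : ↥E₂)) := by
    rw [IsPGroup.iff_card]
    refine ⟨k, ?_⟩
    rw [Nat.card_zpowers, Subgroup.orderOf_mk, hek]
  obtain ⟨R, hR⟩ := hZ.exists_le_sylow
  have heR : (⟨e, heE₂⟩ : ↥E₂) ∈ (R : Subgroup ↥E₂) := hR (Subgroup.mem_zpowers _)
  have hR1 : (R : Subgroup ↥E₂) ≠ ⊥ := by
    intro h
    rw [h, Subgroup.mem_bot] at heR
    exact he1 (congrArg Subtype.val heR)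
  -- `R` is cyclic
  have hQL : (R : Subgroup ↥E₂).map E₂.subtype ≤ L := by
    rintro x ⟨y, -, rfl⟩
    exact hE₂.1 y.2
  have hQp : IsPGroup r ((R : Subgroup ↥E₂).map E₂.subtype) := R.isPGroup'.map _
  have hQc : IsCyclic ↥((R : Subgroup ↥E₂).map E₂.subtype) :=
    isCyclic_of_pRankLE_one hr2 hr1 hQL hQp
  have hRc : IsCyclic ↥(R : Subgroup ↥E₂) := by
    let f : ↥(R : Subgroup ↥E₂) →* ↥((R : Subgroup ↥E₂).map E₂.subtype) :=
      ((R : Subgroup ↥E₂).equivMapOfInjective E₂.subtype E₂.subtype_injective).toMonoidHom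
    exact isCyclic_of_injective f
      ((R : Subgroup ↥E₂).equivMapOfInjective E₂.subtype E₂.subtype_injective).injective
  -- S1427 for `(L, E₂, R)` at `x = e ^ j`
  have heQ : e ∈ (R : Subgroup ↥E₂).map E₂.subtype := ⟨⟨e, heE₂⟩, heR, rfl⟩
  have hxQ : e ^ j ∈ (R : Subgroup ↥E₂).map E₂.subtype := Subgroup.pow_mem _ heQ j
  have hEq := h1427 L hL E₂ hE₂ r R hR1 hRc (e ^ j) hxQ hj1
  rw [Subgroup.mem_centralizer_iff]
  intro a ha
  have ha1 : a ∈ sigmaCore L ⊓ Subgroup.centralizer ({e ^ j} : Set G) := by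
    refine Subgroup.mem_inf.mpr ⟨hAσ ha, ?_⟩
    rw [Subgroup.mem_centralizer_iff]
    intro y hy
    rw [Set.mem_singleton_iff] at hy
    subst hy
    exact ((Subgroup.mem_centralizer_iff.mp hjA) a ha).symm
  rw [hEq] at ha1
  have ha2 := (Subgroup.mem_inf.mp ha1).2
  exact ((Subgroup.mem_centralizer_iff.mp ha2) e heQ).symm

end Cfsg.Agent.Lib.Helper02.BG1211
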