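import Mathlib
import Cfsg.Agent.S1350
import Cfsg.Agent.S1414
import Cfsg.Agent.Lib.Helper11.BG134P2
import Cfsg.Agent.Lib.Helper31.Transitivity
import Cfsg.Agent.Lib.Helper71.BG11a

/-!
# S1428 (BG 13.4), keystone 142818 (D5a), core

`p ∈ τ₁(M)` not ideal, `Y ≤ M` a non-identity `q`-group with `q ∈ σ(M)`, `N_G(Y) ≤ Ms`:
`p ∤ |Ms'|`, given the factorisations of `Ms` (keystones G7, G8) as hypotheses.
-/

set_option autoImplicit false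

namespace Cfsg.Agent.Lib.Helper02.BG134

open Cfsg Cfsg.Agent.Lib.Helper31 Cfsg.Agent.Lib.Helper71.BG11

variable {G : Type*} [Group G] [Finite G]

/-- core of D5a: the two factorisations `Ms = Ms_β (M ∩ Ms)` (`q ∈ σ(Ms)`) and
`Ms = Ms_σ (M ∩ Ms)` (`q ∉ σ(Ms)`) are hypotheses -/
theorem not_dvd_card_commutator_core (hG : IsMinSimpleOddOrder G) {M Ms : Subgroup G}
    (hMs : IsCoatom Ms) {p : ℕ} (hp : p ∈ tau1 M) (hid : ¬ IsIdealPrime p G) {q : ℕ}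
    (h7 : Ms ≠ M → q ∈ sigma Ms →
      ∀ l ∈ Ms, ∃ b ∈ piCoreOf (beta Ms) Ms, ∃ m ∈ M ⊓ Ms, l = b * m)
    (h8 : Ms ≠ M → q ∉ sigma Ms → IsComplIn (M ⊓ Ms) (sigmaCore Ms) Ms)
    (hcase : q ∈ sigma Ms ∨ p ∉ sigma Ms) : ¬ p ∣ Nat.card ↥⁅Ms, Ms⁆ := by
  have hpp : p.Prime := hp.1
  by_cases hne : Ms = M
  · subst hne
    exact hp.2.2.2.1
  · -- `D = M ∩ Ms`, `D' ≤ M'`
    have hD : ¬ p ∣ Nat.card ↥⁅M ⊓ Ms, M ⊓ Ms⁆ := by
      intro hd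
      have hle : ⁅M ⊓ Ms, M ⊓ Ms⁆ ≤ ⁅M, M⁆ :=
        Subgroup.commutator_mono inf_le_left inf_le_left
      exact hp.2.2.2.1 (hd.trans (Subgroup.card_dvd_of_le hle))
    by_cases hq : q ∈ sigma Ms
    · -- `Ms = Ms_β (M ∩ Ms)`
      have hfac := h7 hne hq
      have hN : ¬ p ∣ Nat.card (piCoreOf (beta Ms) Ms) := by
        intro hd
        have hβ : p ∈ beta Ms := piCoreOf_pi (beta Ms) Ms p hpp hd
        exact hid hβ.2
      exact Cfsg.Agent.Lib.Helper11.BG134.not_dvd_card_commutator_of_factor Ms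
        (piCoreOf (beta Ms) Ms) (M ⊓ Ms) (piCoreOf_le _ _) inf_le_right
        (le_normalizer_piCoreOf _ _) hfac hpp hN hD
    · -- `Ms = Ms_σ (M ∩ Ms)`
      have hpσ : p ∉ sigma Ms := hcase.resolve_left hq
      have hc := h8 hne hq
      have hfac : ∀ l ∈ Ms, ∃ b ∈ sigmaCore Ms, ∃ d ∈ M ⊓ Ms, l = b * d := by
        intro l hl
        obtain ⟨a, ha, b, hb, hab⟩ := hc.2.2.2 l⁻¹ (Ms.inv_mem hl)
        refine ⟨b⁻¹, (sigmaCore Ms).inv_mem hb, a⁻¹, (M ⊓ Ms).inv_mem ha, ?_⟩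
        have : l = (l⁻¹)⁻¹ := (inv_inv l).symm
        rw [this, hab, mul_inv_rev]
      have hN : ¬ p ∣ Nat.card (sigmaCore Ms) := fun hd => hpσ (sigmaCore_pi hG hMs hpp hd)
      exact Cfsg.Agent.Lib.Helper11.BG134.not_dvd_card_commutator_of_factor Ms
        (sigmaCore Ms) (M ⊓ Ms) (sigmaCore_le Ms) inf_le_right
        (le_normalizer_sigmaCore Ms) hfac hpp hN hD

end Cfsg.Agent.Lib.Helper02.BG134
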