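import Mathlib
import Cfsg.Agent.Lib.Helper02.BG1361
import Cfsg.Agent.Lib.Helper31.BenderFit
import Cfsg.Agent.Lib.Helper55.Uniq2
import Cfsg.Agent.Lib.Helper55.Uniq3
import Cfsg.Agent.Lib.Helper83.BG11e
import Cfsg.Agent.Lib.Helper71.BG10Sub

/-!
# S1362 from the statements of S1417 and S1418

`A(M) - M_σ` is a TI-subset: the `σ(M)'`-part of an element `x ∈ A(M) - M_σ` generates a subgroup `Z`
with `M` the only maximal subgroup over `C_G(Z)`.
-/

set_option autoImplicit false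

namespace Cfsg.Agent.Lib.Helper02.BG1362

open Cfsg Cfsg.Agent.Lib.Helper55 Cfsg.Agent.Lib.Helper13.BG12 Cfsg.Agent.Lib.Helper71.BG11

variable {G : Type*} [Group G] [Finite G]

/-- variant of `BG1361.mem_tau2_of_centralizes` for an element of `M` of prime order `r ∣ #U` -/
theorem mem_tau2_of_centralizes' (hG : IsMinSimpleOddOrder G) {M : Subgroup G} (hM : IsCoatom M)
    {K U : Subgroup G} (hKU : IsSigmaDecomposition M K U) {r : ℕ} (hr : r.Prime)
    (hrU : r ∣ Nat.card U) {x y : G}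
    (hxM : x ∈ M) (hx : orderOf x = r) (hy : y ∈ sigmaCore M) (hy1 : y ≠ 1)
    (hxy : x * y = y * x) : r ∈ tau2 M := by
  have : Fact r.Prime := ⟨hr⟩
  have hUM : U ≤ M := hKU.compl.1
  have hrσ : r ∉ sigma M :=
    Cfsg.Agent.Lib.Helper02.BG1358.not_mem_sigma_of_dvd_card hG hM hKU hr hrU
  have hr2 : PRankLE r 2 ↥M := by
    by_contra h
    exact hrσ (mem_sigma_of_not_pRankLE_two hG hM hr h)
  refine ⟨hr, hrσ, hr2, fun hr1 => ?_⟩
  have hrM : r ∣ Nat.card M := hrU.trans (Subgroup.card_dvd_of_le hUM)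
  have hr2' : r ≠ 2 := by
    rintro rfl
    have h2 : (2 : ℕ) ∣ Nat.card G := hrM.trans (Subgroup.card_subgroup_dvd_card M)
    exact (Nat.not_even_iff_odd.mpr hG.1) (even_iff_two_dvd.mpr h2)
  have hκ : r ∈ kappa M := by
    refine ⟨hr, hrM, hrσ, fun P => ⟨Cfsg.Agent.S2971.sylow_cyclic hr2' hr1 P, ?_⟩⟩
    have hZ : IsPGroup r (Subgroup.zpowers (⟨x, hxM⟩ : ↥M)) := by
      rw [IsPGroup.iff_card]
      refine ⟨1, ?_⟩
      rw [Nat.card_zpowers, Subgroup.orderOf_mk, hx, pow_one]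
    obtain ⟨Q, hQ⟩ := hZ.exists_le_sylow
    obtain ⟨m, hm⟩ := MulAction.exists_smul_eq ↥M Q P
    have hxQ : (⟨x, hxM⟩ : ↥M) ∈ Q := hQ (Subgroup.mem_zpowers _)
    refine ⟨m * ⟨x, hxM⟩ * m⁻¹, ?_, ?_, (m : G) * y * (m : G)⁻¹, ?_, ?_, ?_⟩
    · rw [← hm]
      show m * ⟨x, hxM⟩ * m⁻¹ ∈ ((m • Q : Sylow r ↥M) : Subgroup ↥M)
      rw [Sylow.coe_subgroup_smul, Subgroup.mem_pointwise_smul_iff_inv_smul_mem]
      have hxQ' : (⟨x, hxM⟩ : ↥M) ∈ (Q : Subgroup ↥M) := hxQ
      simpa [MulAut.smul_def, mul_assoc] using hxQ'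
    · intro h
      have h1 : (⟨x, hxM⟩ : ↥M) = 1 := by
        have := congrArg (fun t => m⁻¹ * t * m) h
        simpa [mul_assoc] using this
      have h2 : x = 1 := congrArg Subtype.val h1
      rw [h2, orderOf_one] at hx
      exact hr.one_lt.ne hx
    · exact (Subgroup.mem_normalizer_iff.mp (le_normalizer_sigmaCore M m.2) y).mp hy
    · intro h
      apply hy1
      have := congrArg (fun t => (m : G)⁻¹ * t * (m : G)) h
      simpa [mul_assoc] using this
    · show (m : G) * x * (m : G)⁻¹ * ((m : G) * y * (m : G)⁻¹) =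
        (m : G) * y * (m : G)⁻¹ * ((m : G) * x * (m : G)⁻¹)
      calc (m : G) * x * (m : G)⁻¹ * ((m : G) * y * (m : G)⁻¹)
          = (m : G) * (x * y) * (m : G)⁻¹ := by group
        _ = (m : G) * (y * x) * (m : G)⁻¹ := by rw [hxy]
        _ = (m : G) * y * (m : G)⁻¹ * ((m : G) * x * (m : G)⁻¹) := by group
  have h1 : (K ⊔ sigmaCore M).relIndex M = Nat.card U := relIndex_eq_card_of_complIn hKU.compl
  have h2 : (K ⊔ sigmaCore M).relIndex M ∣ K.relIndex M :=
    Subgroup.relIndex_dvd_of_le_left M le_sup_left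
  exact hKU.hall.2.2 r hr hκ (hrU.trans (h1 ▸ h2))

/-- variant of `BG1361.s1361_of_hyps` for a subgroup `X` of `M` whose prime divisors divide `#U` -/
theorem uniq_of_dvd (hG : IsMinSimpleOddOrder G) (M : Subgroup G) (hM : IsCoatom M)
    (K U : Subgroup G) (hKU : IsSigmaDecomposition M K U) (h17 : Hyp17 M) (h18 : Hyp18 M)
    (X : Subgroup G) (hXM : X ≤ M)
    (hXd : ∀ r : ℕ, r.Prime → r ∣ Nat.card X → r ∣ Nat.card U) (hX : X ≠ ⊥)
    (hXc : sigmaCore M ⊓ Subgroup.centralizer (X : Set G) ≠ ⊥) :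
    Subgroup.centralizer (X : Set G) ≤ M ∧
      ∀ L : Subgroup G, IsCoatom L → Subgroup.centralizer (X : Set G) ≤ L → L = M := by
  have hHall : IsPiHallOf (sigma M) (sigmaCore M) M := (Cfsg.Agent.S1350.result hG M hM).1
  have hXσ : ∀ q : ℕ, q.Prime → q ∣ Nat.card X → q ∉ sigma M := fun q hq hqd =>
    Cfsg.Agent.Lib.Helper02.BG1358.not_mem_sigma_of_dvd_card hG hM hKU hq (hXd q hq hqd)
  obtain ⟨⟨y, hyS, hyC⟩, hy1⟩ := (Subgroup.ne_bot_iff_exists_ne_one).mp hXc
  have hy1' : y ≠ 1 := fun h => hy1 (Subtype.ext h)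
  have hcardX : Nat.card X ≠ 1 := fun h => hX (Subgroup.card_eq_one.mp h)
  have hpp : ((Nat.card X).minFac).Prime := Nat.minFac_prime hcardX
  obtain ⟨p, hpdef⟩ : ∃ p, p = (Nat.card X).minFac := ⟨_, rfl⟩
  rw [← hpdef] at hpp
  have : Fact p.Prime := ⟨hpp⟩
  have hpX : p ∣ Nat.card X := hpdef ▸ Nat.minFac_dvd _
  obtain ⟨x₀, hx₀⟩ := exists_prime_orderOf_dvd_card' (G := ↥X) p hpX
  have hx₀' : orderOf (x₀ : G) = p := by rw [Subgroup.orderOf_coe, hx₀]
  have hpτ : p ∈ tau2 M :=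
    mem_tau2_of_centralizes' hG hM hKU hpp (hXd p hpp hpX) (hXM x₀.2) hx₀' hyS hy1'
      ((Subgroup.mem_centralizer_iff.mp hyC (x₀ : G) x₀.2))
  obtain ⟨E₁, hE₁, hXE₁⟩ := exists_complIn_ge hG hM hHall hXM hXσ
  obtain ⟨A, hAE₁, hAel, hAcard⟩ := exists_elemAb_sq_le_compl hG hM hHall hpτ hE₁
  obtain ⟨⟨hnormA, -⟩, -, -⟩ := h18 E₁ hE₁ p hpτ A ⟨hAE₁, hAel, hAcard⟩
  have hAM : A ≤ M := hAE₁.trans hE₁.1
  have hAC : A ≤ Subgroup.centralizer (X : Set G) := by
    intro a ha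
    rw [Subgroup.mem_centralizer_iff]
    intro x hx
    have hxE₁ : x ∈ E₁ := hXE₁ hx
    apply Cfsg.Agent.Lib.Helper02.BG1361.centralizes_of_min_prime hG hM h17 hpτ.2.1 hAM hAcard
      (hE₁.1 hxE₁) (hnormA hxE₁) _ a ha
    intro r hr hrd
    have h1 : orderOf x ∣ Nat.card X := by
      have := orderOf_dvd_natCard (⟨x, hx⟩ : ↥X)
      rwa [Subgroup.orderOf_mk] at this
    exact hpdef ▸ Nat.minFac_le_of_dvd hr.two_le (hrd.trans h1)
  have huniq : ∀ L : Subgroup G, IsCoatom L → Subgroup.centralizer (X : Set G) ≤ L → L = M := by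
    intro L hL hCL
    by_contra hLM
    have hAL : A ≤ L := hAC.trans hCL
    have hbot := (h17 p hpτ A ⟨hAM, hAel, hAcard⟩).2.2.2.2.1 L hL hLM hAL
    have : y ∈ sigmaCore M ⊓ L := ⟨hyS, hCL hyC⟩
    rw [hbot, Subgroup.mem_bot] at this
    exact hy1' this
  refine ⟨?_, huniq⟩
  have hx₀1 : (x₀ : G) ≠ 1 := by
    intro h
    rw [h, orderOf_one] at hx₀'
    exact hpp.one_lt.ne hx₀'
  have hCtop : Subgroup.centralizer (X : Set G) ≠ ⊤ := by
    intro h
    apply centralizer_singleton_ne_top hG hx₀1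
    rw [eq_top_iff, ← h]
    exact Subgroup.centralizer_le (Set.singleton_subset_iff.mpr x₀.2)
  obtain ⟨L, hL, hCL⟩ := ms_exists_coatom_ge hCtop
  exact (huniq L hL hCL) ▸ hCL

/-- powers of a product `u * s` with `u` normalizing `N ∋ s` -/
theorem pow_mul_mem {N : Subgroup G} {u s : G} (hu : u ∈ Subgroup.normalizer (N : Set G))
    (hs : s ∈ N) (k : ℕ) : ∃ s' ∈ N, (u * s) ^ k = u ^ k * s' := by
  induction k with
  | zero => exact ⟨1, N.one_mem, by simp⟩
  | succ k ih =>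
    obtain ⟨s', hs', h⟩ := ih
    refine ⟨u⁻¹ * s' * u * s, N.mul_mem ?_ hs, ?_⟩
    · have := (Subgroup.mem_normalizer_iff.mp (Subgroup.inv_mem _ hu) s').mp hs'
      simpa using this
    · rw [pow_succ, h, pow_succ]; group

/-- for `x ∈ A(M) - M_σ` the subgroup generated by `x ^ #M_σ` has `M` as the only maximal subgroup
over its centralizer -/
theorem uniq_of_mem (hG : IsMinSimpleOddOrder G) (M : Subgroup G) (hM : IsCoatom M)
    (K U : Subgroup G) (hKU : IsSigmaDecomposition M K U) (h17 : Hyp17 M) (h18 : Hyp18 M)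
    {x : G} (hx : x ∈ sigmaA M U \ (sigmaCore M : Set G)) :
    Subgroup.centralizer ((Subgroup.zpowers (x ^ Nat.card (sigmaCore M)) : Subgroup G) : Set G) ≤ M ∧
      ∀ L : Subgroup G, IsCoatom L →
        Subgroup.centralizer ((Subgroup.zpowers (x ^ Nat.card (sigmaCore M)) : Subgroup G) : Set G) ≤ L →
        L = M := by
  have hHall : IsPiHallOf (sigma M) (sigmaCore M) M := (Cfsg.Agent.S1350.result hG M hM).1
  obtain ⟨⟨⟨hxM, y, hyS, hy1, hxy⟩, hxUS⟩, hxS⟩ := hx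
  have hUM : U ≤ M := hKU.compl.1
  have hUN : U ≤ Subgroup.normalizer (sigmaCore M : Set G) := hUM.trans (le_normalizer_sigmaCore M)
  obtain ⟨u, hu, s, hs, hxus⟩ := Cfsg.Agent.Lib.Helper01.exists_mul_of_mem_sup hUN hxUS
  -- `z ^ #U = 1`
  have hzU : (x ^ Nat.card (sigmaCore M)) ^ Nat.card U = 1 := by
    obtain ⟨s', hs', h⟩ := pow_mul_mem (hUN hu) hs (Nat.card U)
    have hu1 : u ^ Nat.card U = 1 := by
      have := pow_card_eq_one' (G := ↥U) (x := ⟨u, hu⟩)
      exact congrArg Subtype.val this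
    have hs1 : s' ^ Nat.card (sigmaCore M) = 1 := by
      have := pow_card_eq_one' (G := ↥(sigmaCore M)) (x := ⟨s', hs'⟩)
      exact congrArg Subtype.val this
    rw [← pow_mul, mul_comm, pow_mul, hxus, h, hu1, one_mul, hs1]
  -- `z ≠ 1`
  have hz1 : x ^ Nat.card (sigmaCore M) ≠ 1 := by
    intro h
    apply hxS
    have hd : orderOf x ∣ Nat.card (sigmaCore M) := orderOf_dvd_of_pow_eq_one h
    have hle : Subgroup.zpowers x ≤ sigmaCore M := by
      apply Cfsg.Agent.Lib.Helper71.BG10.le_of_isPiHallOf_normal hHall (le_normalizer_sigmaCore M)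
        (Subgroup.zpowers_le.mpr hxM)
      intro p hp hpd
      rw [Nat.card_zpowers] at hpd
      exact hHall.2.1 p hp (hpd.trans hd)
    exact hle (Subgroup.mem_zpowers x)
  apply uniq_of_dvd hG M hM K U hKU h17 h18
  · exact Subgroup.zpowers_le.mpr (M.pow_mem hxM _)
  · intro r _ hrd
    rw [Nat.card_zpowers] at hrd
    exact hrd.trans (orderOf_dvd_of_pow_eq_one hzU)
  · intro h
    exact hz1 (Subgroup.zpowers_eq_bot.mp h)
  · intro h
    have hc : Commute x y := hxy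
    have hyC : y ∈ Subgroup.centralizer
        ((Subgroup.zpowers (x ^ Nat.card (sigmaCore M)) : Subgroup G) : Set G) := by
      apply Cfsg.Agent.Lib.Helper83.BG11.centralizer_singleton_le_zpowers
      rw [Subgroup.mem_centralizer_singleton_iff]
      exact ((hc.pow_left _).eq).symm
    have : y ∈ sigmaCore M ⊓ Subgroup.centralizer
        ((Subgroup.zpowers (x ^ Nat.card (sigmaCore M)) : Subgroup G) : Set G) := ⟨hyS, hyC⟩
    rw [h, Subgroup.mem_bot] at this
    exact hy1 this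

/-- `M` normalizes the set `A(M) - M_σ` -/
theorem le_normalizer_sigmaA {M K U : Subgroup G} (hKU : IsSigmaDecomposition M K U) :
    M ≤ Subgroup.normalizer (sigmaA M U \ (sigmaCore M : Set G)) := by
  have hUM : U ≤ M := hKU.compl.1
  have hKM : K ≤ M := le_sup_left.trans hKU.compl.2.1
  have hNσ := le_normalizer_sigmaCore M
  -- `M` normalizes `U ⊔ M_σ`
  have hUS : U ⊔ sigmaCore M ≤ Subgroup.normalizer ((U ⊔ sigmaCore M : Subgroup G) : Set G) :=
    Subgroup.le_normalizer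
  have hK : K ≤ Subgroup.normalizer ((U ⊔ sigmaCore M : Subgroup G) : Set G) :=
    Cfsg.Agent.Lib.Helper31.BenderFit.le_normalizer_sup hKU.normal (hKM.trans hNσ)
  have hMN : M ≤ Subgroup.normalizer ((U ⊔ sigmaCore M : Subgroup G) : Set G) := by
    intro m hm
    obtain ⟨a, ha, b, hb, rfl⟩ := hKU.compl.2.2.2 m hm
    apply Subgroup.mul_mem _ (hUS (le_sup_left (a := U) ha))
    have : K ⊔ sigmaCore M ≤ Subgroup.normalizer ((U ⊔ sigmaCore M : Subgroup G) : Set G) :=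
      sup_le hK ((le_sup_right (a := U)).trans hUS)
    exact this hb
  rw [Subgroup.le_set_normalizer_iff]
  rintro m hm n ⟨⟨⟨hnM, y, hyS, hy1, hny⟩, hnUS⟩, hnS⟩
  refine ⟨⟨⟨M.mul_mem (M.mul_mem hm hnM) (M.inv_mem hm), m * y * m⁻¹, ?_, ?_, ?_⟩, ?_⟩, ?_⟩
  · exact (Subgroup.mem_normalizer_iff.mp (hNσ hm) y).mp hyS
  · intro h
    apply hy1
    have := congrArg (fun t => m⁻¹ * t * m) h
    simpa [mul_assoc] using this
  · calc m * n * m⁻¹ * (m * y * m⁻¹) = m * (n * y) * m⁻¹ := by group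
      _ = m * (y * n) * m⁻¹ := by rw [hny]
      _ = m * y * m⁻¹ * (m * n * m⁻¹) := by group
  · exact (Subgroup.mem_normalizer_iff.mp (hMN hm) n).mp hnUS
  · intro h
    apply hnS
    have := (Subgroup.mem_normalizer_iff.mp (hNσ (M.inv_mem hm)) (m * n * m⁻¹)).mp h
    simpa [mul_assoc] using this

theorem s1362_of_hyps (hG : IsMinSimpleOddOrder G) (M : Subgroup G) (hM : IsCoatom M)
    (K U : Subgroup G) (hKU : IsSigmaDecomposition M K U) (h17 : Hyp17 M) (h18 : Hyp18 M) :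
    IsTISubset (sigmaA M U \ (sigmaCore M : Set G)) := by
  intro g hg x hx hgx
  exfalso
  apply hg
  apply le_normalizer_sigmaA hKU
  obtain ⟨h1, -⟩ := uniq_of_mem hG M hM K U hKU h17 h18 hx
  obtain ⟨-, h4⟩ := uniq_of_mem hG M hM K U hKU h17 h18 hgx
  have hxM : x ∈ M := hx.1.1.1
  have hM1 : M ≠ ⊥ := by
    rintro rfl
    apply hx.2
    rw [Subgroup.mem_bot] at hxM
    rw [hxM]
    exact (sigmaCore ⊥).one_mem
  have hcj : cj g M = M := by
    apply h4 (cj g M) (isCoatom_cj g hM)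
    intro c hc
    rw [mem_cj]
    apply h1
    apply Cfsg.Agent.Lib.Helper83.BG11.centralizer_singleton_le_zpowers
    rw [Subgroup.mem_centralizer_singleton_iff]
    have h5 := Subgroup.mem_centralizer_iff.mp hc _
      (Subgroup.mem_zpowers ((g * x * g⁻¹) ^ Nat.card (sigmaCore M)))
    rw [conj_pow] at h5
    have h6 := congrArg (fun t => g⁻¹ * t * g) h5
    simp only [mul_assoc, inv_mul_cancel_left, inv_mul_cancel, mul_one] at h6
    simp only [mul_assoc]
    exact h6.symm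
  have hgN : g ∈ Subgroup.normalizer (M : Set G) := by
    rw [Subgroup.mem_normalizer_iff]
    intro h
    constructor
    · intro hh
      rw [← hcj]
      exact conj_mem_cj hh
    · intro hh
      rw [← hcj, mem_cj] at hh
      simpa [mul_assoc] using hh
  rw [ms_normalizer_eq hG hM hM1 le_rfl Subgroup.le_normalizer] at hgN
  exact hgN

end Cfsg.Agent.Lib.Helper02.BG1362
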