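import Mathlib
import Cfsg.Agent.S1350
import Cfsg.Agent.S1351
import Cfsg.Agent.S1352
import Cfsg.Agent.S1364
import Cfsg.Agent.S1372
import Cfsg.Agent.S1431
import Cfsg.Agent.Lib.Helper16.BG1376Defs
import Cfsg.Agent.Lib.Helper71.BG1381E1
import Cfsg.Agent.Lib.Helper71.BG10Sub
import Cfsg.Agent.Lib.Helper33.CNFrob
import Cfsg.Agent.Lib.Helper01.PCore
import Cfsg.Agent.Lib.Helper13.BG127
import Cfsg.Agent.Lib.Helper58.BG139I

/-!
# S1376, leaf L-Q of notes/S1376_tau2_short_helper12.md (helper2)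

In the configuration `Conf M N Ns K U x` (`Ns = N*` the partner of the type-`P₂` group `N`):
`Qk := O_k(N*)`, `k = |K|`, is a normal Sylow `k`-subgroup of `N*`, lies in `(N*)_σ`, contains `K`,
and is NOT contained in `M` (S1431 clause 3: `N*` is the only maximal subgroup over a Sylow
`k`-subgroup of `(N*)_σ`).
-/

set_option autoImplicit false

namespace Cfsg.Agent.Lib.Helper02.BG1376

open Cfsg Subgroup Cfsg.Agent.Lib.Helper16.BG1376

variable {G : Type*} [Group G] [Finite G]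

/-- A `k`-subgroup of the nilpotent normal subgroup `T_F` of `T` lies in `O_k(T)`. -/
theorem le_pCoreOf_of_le_fittingHallOf {T X : Subgroup G} {k : ℕ} [Fact k.Prime]
    (hXF : X ≤ fittingHallOf T) (hX : IsPGroup k X) : X ≤ pCoreOf k T := by
  classical
  have hFT : fittingHallOf T ≤ T := Cfsg.Agent.Lib.Helper31.fittingHallOf_le T
  have hXT : X ≤ T := hXF.trans hFT
  haveI : Group.IsNilpotent ↥(fittingHall ↥T) := Cfsg.Agent.Lib.Helper33.fittingHall_isNilpotent ↥T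
  -- `X' = X` inside the type `T`
  have hX'F : X.subgroupOf T ≤ fittingHall ↥T := by
    intro y hy
    have hy' : (y : G) ∈ fittingHallOf T := hXF (Subgroup.mem_subgroupOf.mp hy)
    obtain ⟨z, hz, hzy⟩ := hy'
    have : z = y := Subtype.ext hzy
    exact this ▸ hz
  have hX'p : IsPGroup k ↥(X.subgroupOf T) := by
    have e : X.subgroupOf T ≃* X := Subgroup.subgroupOfEquivOfLe hXT
    exact hX.of_equiv e.symm
  -- the Sylow `k`-subgroup of the nilpotent group `T_F`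
  let Pf : Sylow k ↥(fittingHall ↥T) := default
  have hX''p : IsPGroup k ↥((X.subgroupOf T).subgroupOf (fittingHall ↥T)) := by
    have e : (X.subgroupOf T).subgroupOf (fittingHall ↥T) ≃* (X.subgroupOf T) :=
      Subgroup.subgroupOfEquivOfLe hX'F
    exact hX'p.of_equiv e.symm
  have hle : (X.subgroupOf T).subgroupOf (fittingHall ↥T) ≤ (Pf : Subgroup ↥(fittingHall ↥T)) :=
    Cfsg.Agent.Lib.Helper33.le_sylow_of_isNilpotent Pf _ hX''p
  haveI hchar : (Pf : Subgroup ↥(fittingHall ↥T)).Characteristic :=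
    Sylow.characteristic_of_normal Pf inferInstance
  haveI hnorm : ((Pf : Subgroup ↥(fittingHall ↥T)).map (fittingHall ↥T).subtype).Normal :=
    ConjAct.normal_of_characteristic_of_normal
  have hQp : IsPGroup k ↥((Pf : Subgroup ↥(fittingHall ↥T)).map (fittingHall ↥T).subtype) :=
    Pf.isPGroup'.map _
  have hQle : (Pf : Subgroup ↥(fittingHall ↥T)).map (fittingHall ↥T).subtype ≤ pCore k ↥T :=
    Cfsg.Agent.Lib.Helper01.le_pCore hnorm hQp
  have hX'Q : X.subgroupOf T ≤ (Pf : Subgroup ↥(fittingHall ↥T)).map (fittingHall ↥T).subtype := by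
    intro y hy
    refine ⟨⟨y, hX'F hy⟩, ?_, rfl⟩
    apply hle
    exact Subgroup.mem_subgroupOf.mpr hy
  intro g hg
  refine ⟨⟨g, hXT hg⟩, ?_, rfl⟩
  apply hQle
  apply hX'Q
  exact Subgroup.mem_subgroupOf.mpr hg

theorem pCoreOf_le (k : ℕ) (T : Subgroup G) : pCoreOf k T ≤ T := Subgroup.map_subtype_le _

theorem isPGroup_pCoreOf (k : ℕ) (T : Subgroup G) : IsPGroup k ↥(pCoreOf k T) :=
  (Cfsg.Agent.Lib.Helper01.pCore_isPGroup k).map _

theorem le_normalizer_pCoreOf (k : ℕ) (T : Subgroup G) : T ≤ normalizer (pCoreOf k T : Set G) := by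
  rw [Subgroup.le_normalizer_iff]
  intro m hm y hy
  obtain ⟨y', hy', rfl⟩ := hy
  refine ⟨(⟨m, hm⟩ : T) * y' * (⟨m, hm⟩ : T)⁻¹, ?_, rfl⟩
  exact (Cfsg.Agent.Lib.Helper01.pCore_normal k).conj_mem y' hy' _

/-- **L-Q** -/
theorem Conf.exists_normal_sylow (hG : IsMinSimpleOddOrder G) {M N Ns K U : Subgroup G} {x : G}
    (h : Conf M N Ns K U x) :
    ∃ Qk : Subgroup G, Ns ≤ normalizer (Qk : Set G) ∧ IsPGroup (Nat.card K) Qk ∧ K ≤ Qk ∧
      Qk ≤ sigmaCore Ns ∧ ¬ Qk ≤ M := by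
  classical
  have hkp : (Nat.card K).Prime := (Cfsg.Agent.S1372.result hG N h.hN K U h.hKU h.hK1 h.hU1).1
  haveI : Fact (Nat.card K).Prime := ⟨hkp⟩
  set Ks : Subgroup G := sigmaCore N ⊓ centralizer (K : Set G) with hKsdef
  -- `K* ≠ 1`, cyclic; decomposition of `N*`
  have hKs1 : Ks ≠ ⊥ := (Cfsg.Agent.S1364.result hG N h.hN K U h.hKU h.hK1).2.1
  have hKsc : IsCyclic Ks := (Cfsg.Agent.S1351.result hG Ns h.hNs).2 Ks h.hKstH
  obtain ⟨UT, hdec⟩ := (Cfsg.Agent.S1352.result hG Ns h.hNs Ks hKsc h.hKstH).1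
  have h64 := Cfsg.Agent.S1364.result hG Ns h.hNs Ks UT hdec hKs1
  have hKF : K ≤ fittingHallOf Ns := by
    have := h64.2.2.1
    rw [← h.hKst] at this
    exact this
  have hKp : IsPGroup (Nat.card K) K := IsPGroup.of_card (n := 1) (by simp)
  have hKσ : K ≤ sigmaCore Ns := by
    have := h.hKst
    rw [this]; exact inf_le_left
  have hkσ : Nat.card K ∈ sigma Ns :=
    Cfsg.Agent.Lib.Helper58.BG139.mem_sigma_of_le_sigmaCore hG h.hNs hKp h.hK1 hKσ
  refine ⟨pCoreOf (Nat.card K) Ns, le_normalizer_pCoreOf _ _, isPGroup_pCoreOf _ _,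
    le_pCoreOf_of_le_fittingHallOf hKF hKp, ?_, ?_⟩
  · exact Cfsg.Agent.Lib.Helper13.BG127.pgroup_le_sigmaCore hG h.hNs hkσ (pCoreOf_le _ _)
      (isPGroup_pCoreOf _ _)
  · intro hQM
    -- a Sylow `k`-subgroup of `(N*)_σ`
    let S : Sylow (Nat.card K) ↥(sigmaCore Ns) := default
    have hdvd : Nat.card K ∣ Nat.card ↥(sigmaCore Ns ⊓ centralizer (Ks : Set G)) := by
      rw [← h.hKst]
    obtain ⟨huniq, hSNs, -⟩ :=
      (Cfsg.Agent.S1431.result hG Ns h.hNs Ks h.hKstH hKs1).2.2.1 (Nat.card K) hkp hdvd S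
    set S' : Subgroup G := (S : Subgroup ↥(sigmaCore Ns)).map (sigmaCore Ns).subtype with hS'
    have hS'p : IsPGroup (Nat.card K) S' := S.isPGroup'.map _
    -- `S' ≤ (N*)_F` since `(N*)_F` is a normal Hall subgroup whose order is divisible by `k`
    have hHall : IsPiHallOf {p | p.Prime ∧ p ∣ Nat.card (fittingHallOf Ns)} (fittingHallOf Ns) Ns := by
      refine ⟨Cfsg.Agent.Lib.Helper31.fittingHallOf_le Ns, fun p hp hpd => ⟨hp, hpd⟩, ?_⟩
      rintro p hp ⟨-, hpd⟩ hpi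
      have hco := Cfsg.Agent.Lib.Helper71.BG1381.coprime_fittingHallOf Ns
      exact Nat.not_coprime_of_dvd_of_dvd hp.one_lt hpd hpi hco
    have hS'F : S' ≤ fittingHallOf Ns := by
      refine Cfsg.Agent.Lib.Helper71.BG10.le_of_isPiHallOf_normal hHall
        (Cfsg.Agent.Lib.Helper31.le_normalizer_fittingHallOf Ns) hSNs ?_
      intro p hp hpd
      obtain ⟨n, hn⟩ := IsPGroup.iff_card.mp hS'p
      rw [hn] at hpd
      have hpk : p = Nat.card K := (Nat.prime_dvd_prime_iff_eq hp hkp).mp (hp.dvd_of_dvd_pow hpd)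
      refine ⟨hp, ?_⟩
      rw [hpk]
      exact (Subgroup.card_dvd_of_le hKF)
    have hS'Q : S' ≤ pCoreOf (Nat.card K) Ns := le_pCoreOf_of_le_fittingHallOf hS'F hS'p
    have hS'M : S' ≤ M := hS'Q.trans hQM
    obtain ⟨L, -, hLuniq⟩ := huniq
    have h1 : M = L := hLuniq M ⟨h.hM, hS'M⟩
    have h2 : Ns = L := hLuniq Ns ⟨h.hNs, hSNs⟩
    have hMNs : M = Ns := h1.trans h2.symm
    -- contradiction with `hE`: `M ∩ N*` is a complement of `M_σ ≠ 1`
    obtain ⟨-, hσM, hdisj, -⟩ := h.hE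
    have hσbot : sigmaCore M = ⊥ := by
      have : sigmaCore M ≤ M ⊓ Ns ⊓ sigmaCore M := by
        rw [← hMNs, inf_idem]
        exact le_inf hσM le_rfl
      rw [hdisj] at this
      exact le_bot_iff.mp this
    have hU : U = ⊥ := le_bot_iff.mp (hσbot ▸ h.hUM)
    exact h.hU1 hU

end Cfsg.Agent.Lib.Helper02.BG1376
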