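import Mathlib
import Cfsg.Agent.S1350
import Cfsg.Agent.S1355
import Cfsg.Agent.Lib.Helper12.BG151Glue
import Cfsg.Agent.Lib.Helper31.FittingHall
import Cfsg.Agent.Lib.Helper32.CoprimeHall
import Cfsg.Agent.Lib.Helper55.Uniq2
import Cfsg.Agent.Lib.Helper01.Coprime

set_option autoImplicit false

namespace Cfsg.Agent.Lib.Helper02.BG1382

open Cfsg

/-- K-1382-A -/
theorem exists_invariant_compl {G : Type*} [Group G] [Finite G] (hG : IsMinSimpleOddOrder G)
    {M : Subgroup G} (hM : IsCoatom M) {K : Subgroup G} (hK : IsPiHallOf (kappa M) K M) :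
    ∃ U' : Subgroup G, K ≤ Subgroup.normalizer (U' : Set G) ∧
      IsComplIn (fittingHallOf M) U' (sigmaCore M) ∧
      (Nat.card U').Coprime (U'.relIndex (sigmaCore M)) := by
  have hHall := (Cfsg.Agent.S1350.result hG M hM).1
  have hσM : sigmaCore M ≤ M := Cfsg.Agent.Lib.Helper12.BG151.sigmaCore_le' M
  have hHσ : fittingHallOf M ≤ sigmaCore M := (Cfsg.Agent.S1355.result hG M hM).2.1
  have hKM : K ≤ M := hK.1
  have hnK : K ≤ Subgroup.normalizer (sigmaCore M : Set G) :=
    hKM.trans (Cfsg.Agent.Lib.Helper31.le_normalizer_piCoreOf (sigma M) M)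
  have hMtop : M ≠ ⊤ := hM.1
  have hσtop : sigmaCore M ≠ ⊤ := fun h => hMtop (top_le_iff.mp (h ▸ hσM))
  have hsolv : Group.IsSolvable ↥(sigmaCore M) := Cfsg.Agent.Lib.Helper55.ms_solvable hG hσtop
  have hcopK : (Nat.card K).Coprime (Nat.card (sigmaCore M)) :=
    Cfsg.Agent.Lib.Helper13.BG12.coprime_of_primes_disjoint (π := sigma M)
      (fun p hp hpd => (hK.2.1 p hp hpd).2.2.1) hHall.2.1
  -- `|M_σ| = |M_σ : M_F| * |M_F|`
  have hcard : Nat.card (sigmaCore M) =
      (fittingHallOf M).relIndex (sigmaCore M) * Nat.card (fittingHallOf M) := by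
    have h1 := Subgroup.relIndex_mul_relIndex (⊥ : Subgroup G) (fittingHallOf M) (sigmaCore M)
      bot_le hHσ
    rw [Subgroup.relIndex_bot_left, Subgroup.relIndex_bot_left] at h1
    rw [← h1, mul_comm]
  have hmk : ((fittingHallOf M).relIndex (sigmaCore M)).Coprime (Nat.card (fittingHallOf M)) := by
    have h1 := Cfsg.Agent.Lib.Helper31.fittingHall_coprime ↥M
    rw [← Cfsg.Agent.Lib.Helper31.card_fittingHallOf] at h1
    have h2 : (fittingHallOf M).relIndex (sigmaCore M) ∣ (fittingHall ↥M).index := by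
      have h3 := Subgroup.relIndex_mul_relIndex (fittingHallOf M) (sigmaCore M) M hHσ hσM
      have h4 : (fittingHallOf M).relIndex M = (fittingHall ↥M).index := by
        unfold Subgroup.relIndex
        rw [Cfsg.Agent.Lib.Helper12.BG151.fittingHallOf_subgroupOf]
      rw [← h4, ← h3]
      exact Dvd.intro _ rfl
    exact (Nat.Coprime.coprime_dvd_right h2 h1).symm
  obtain ⟨U', hU'σ, hU'c, hKU'⟩ := Cfsg.Agent.Lib.Helper32.exists_invariant_hall
    (A := K) (G := sigmaCore M) hnK hcopK hsolv _ _ hcard hmk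
  have hU'H : U' ≤ Subgroup.normalizer (fittingHallOf M : Set G) :=
    (hU'σ.trans hσM).trans (Cfsg.Agent.Lib.Helper31.le_normalizer_fittingHallOf M)
  have hinf : fittingHallOf M ⊓ U' = ⊥ :=
    (Subgroup.disjoint_of_coprime_natCard (by rw [hU'c]; exact hmk.symm)).eq_bot
  have hsup : U' ⊔ fittingHallOf M = sigmaCore M := by
    apply Subgroup.eq_of_le_of_card_ge (sup_le hU'σ hHσ)
    have h1 := Cfsg.Agent.Lib.Helper01.card_sup_mul_card_inf_of_le_normalizer (fittingHallOf M) U'
      hU'H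
    rw [hinf, Subgroup.card_bot, mul_one] at h1
    rw [h1, hcard, hU'c, mul_comm]
  refine ⟨U', hKU', ⟨hHσ, hU'σ, hinf, ?_⟩, ?_⟩
  · intro x hx
    rw [← hsup] at hx
    obtain ⟨u, hu, h, hh, rfl⟩ := Cfsg.Agent.Lib.Helper01.exists_mul_of_mem_sup hU'H hx
    refine ⟨u * h * u⁻¹, ?_, u, hu, by group⟩
    exact ((Subgroup.mem_normalizer_iff.mp (hU'H hu)) h).mp hh
  · have h1 := Subgroup.relIndex_mul_relIndex (⊥ : Subgroup G) U' (sigmaCore M) bot_le hU'σ
    rw [Subgroup.relIndex_bot_left, Subgroup.relIndex_bot_left, hU'c, hcard] at h1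
    have hpos : 0 < (fittingHallOf M).relIndex (sigmaCore M) := by
      rcases Nat.eq_zero_or_pos ((fittingHallOf M).relIndex (sigmaCore M)) with h0 | h0
      · exfalso
        rw [h0, zero_mul] at hcard
        exact (Nat.card_pos (α := ↥(sigmaCore M))).ne' hcard
      · exact h0
    have h2 : U'.relIndex (sigmaCore M) = Nat.card (fittingHallOf M) :=
      Nat.eq_of_mul_eq_mul_left hpos h1
    rw [hU'c, h2]
    exact hmk

end Cfsg.Agent.Lib.Helper02.BG1382
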