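import Mathlib
import Cfsg.Agent.S1355
import Cfsg.Agent.Lib.Helper30.BG151F2

set_option autoImplicit false

namespace Cfsg.Agent.Lib.Helper02.BG1382

open Cfsg

/-- K-1382-B -/
theorem isNilpotent_of_inf_eq_bot {G : Type*} [Group G] [Finite G] (hG : IsMinSimpleOddOrder G)
    {M : Subgroup G} (hM : IsCoatom M) {U' : Subgroup G} (hU' : U' ≤ ⁅M, M⁆)
    (hdisj : fittingHallOf M ⊓ U' = ⊥) : Group.IsNilpotent U' := by
  have h5 := (Cfsg.Agent.S1355.result hG M hM).2.2.2.2
  have hM'M : ⁅M, M⁆ ≤ M := Subgroup.commutator_le_self M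
  have hU'M : U' ≤ M := hU'.trans hM'M
  let f : U' →* (↥M ⧸ fittingHall ↥M) :=
    (QuotientGroup.mk' (fittingHall ↥M)).comp (Subgroup.inclusion hU'M)
  have hinj : Function.Injective f := by
    rw [injective_iff_map_eq_one]
    intro u hu
    have h1 : Subgroup.inclusion hU'M u ∈ fittingHall ↥M := (QuotientGroup.eq_one_iff _).mp hu
    have h2 : (u : G) ∈ fittingHallOf M := ⟨_, h1, rfl⟩
    have h3 : (u : G) ∈ fittingHallOf M ⊓ U' := ⟨h2, u.2⟩
    rw [hdisj, Subgroup.mem_bot] at h3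
    exact Subtype.ext h3
  have hrange : f.range ≤ (commutator ↥M).map (QuotientGroup.mk' (fittingHall ↥M)) := by
    rintro _ ⟨u, rfl⟩
    have hu : (u : G) ∈ ⁅M, M⁆ := hU' u.2
    rw [← Subgroup.map_subtype_commutator] at hu
    obtain ⟨c, hc, hcu⟩ := hu
    refine ⟨c, hc, ?_⟩
    have : c = Subgroup.inclusion hU'M u := Subtype.ext hcu
    rw [this]; rfl
  have h6 : Group.IsNilpotent f.range := Cfsg.Agent.Lib.Helper30.BG151.isNilpotent_of_le h5 hrange
  exact (Group.isNilpotent_congr (MonoidHom.ofInjective hinj)).mpr h6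

end Cfsg.Agent.Lib.Helper02.BG1382
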