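import Mathlib
import Cfsg.Agent.S1350
import Cfsg.Agent.S1355
import Cfsg.Agent.S1365
import Cfsg.Agent.Lib.Helper12.BG151Glue
import Cfsg.Agent.Lib.Helper13.BG16P
import Cfsg.Agent.Lib.Helper31.FittingHall
import Cfsg.Agent.Lib.Helper32.CoprimeHall
import Cfsg.Agent.Lib.Helper55.Uniq2
import Cfsg.Agent.Lib.Helper78.BG15KPrime

set_option autoImplicit false

namespace Cfsg.Agent.Lib.Helper02.BG1382

open Cfsg
open scoped Pointwise

/-- K-1382-D -/
theorem not_normalizer_le_of_complIn {G : Type*} [Group G] [Finite G]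
    (hG : IsMinSimpleOddOrder G) {M : Subgroup G} (hM : IsCoatom M) {K U : Subgroup G}
    (hKU : IsSigmaDecomposition M K U) (hK1 : K ≠ ⊥) (hU1 : U ≠ ⊥)
    (h63 : ¬ Subgroup.normalizer (U : Set G) ≤ M) {U' : Subgroup G}
    (hc : IsComplIn (fittingHallOf M) U' ⁅M, M⁆) :
    ¬ Subgroup.normalizer (U' : Set G) ≤ M := by
  have hσM : sigmaCore M ≤ M := Cfsg.Agent.Lib.Helper12.BG151.sigmaCore_le' M
  have hnil : Group.IsNilpotent (sigmaCore M) :=
    (Cfsg.Agent.Lib.Helper78.BG15.card_prime_of_sigmaDecomposition hG hM hKU hK1 hU1).2.2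
  have hF : fittingHallOf M = sigmaCore M :=
    le_antisymm (Cfsg.Agent.S1355.result hG M hM).2.1
      (Cfsg.Agent.Lib.Helper12.BG151.le_fittingHallOf hσM
        (Cfsg.Agent.Lib.Helper31.le_normalizer_piCoreOf (sigma M) M) hnil
        (Cfsg.Agent.Lib.Helper12.BG151.sigmaCore_coprime hG hM))
  obtain ⟨hder, -, -, hσU, hcardM'⟩ :=
    Cfsg.Agent.Lib.Helper13.BG16.derived_card_of_decomp hG hM hKU hK1
  rw [hF] at hc
  have hM'M : ⁅M, M⁆ ≤ M := Subgroup.commutator_le_self M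
  have hUM' : U ≤ ⁅M, M⁆ := hder ▸ le_sup_left
  have hU'M' : U' ≤ ⁅M, M⁆ := hc.2.1
  have hσpos : 0 < Nat.card (sigmaCore M) := Nat.card_pos
  have hU'card : Nat.card U' = Nat.card U := by
    have h1 := Cfsg.Agent.Lib.Helper31.IsComplIn.card_mul hc
    rw [hcardM'] at h1
    exact Nat.eq_of_mul_eq_mul_left hσpos h1
  -- `|U|` is prime to `|M_σ|`
  have hcop : (Nat.card U).Coprime (Nat.card (sigmaCore M)) := by
    have h1 := Cfsg.Agent.Lib.Helper12.BG151.sigmaCore_coprime hG hM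
    have h2 : Nat.card U ∣ (sigmaCore M).relIndex M := by
      have h3 := Subgroup.relIndex_mul_relIndex (⊥ : Subgroup G) (sigmaCore M) M bot_le hσM
      rw [Subgroup.relIndex_bot_left, Subgroup.relIndex_bot_left] at h3
      have h4 : Nat.card ↥⁅M, M⁆ ∣ Nat.card M := Subgroup.card_dvd_of_le hM'M
      rw [hcardM', ← h3] at h4
      exact Nat.dvd_of_mul_dvd_mul_left hσpos h4
    exact (Nat.Coprime.coprime_dvd_right h2 h1).symm
  have hMtop : M ≠ ⊤ := hM.1
  have hM'top : ⁅M, M⁆ ≠ ⊤ := fun h => hMtop (top_le_iff.mp (h ▸ hM'M))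
  have hsolv : Group.IsSolvable ↥⁅M, M⁆ := Cfsg.Agent.Lib.Helper55.ms_solvable hG hM'top
  obtain ⟨g, hg, hgU⟩ := Cfsg.Agent.Lib.Helper32.hall_conj_in ⁅M, M⁆ hsolv (Nat.card U)
    (Nat.card (sigmaCore M)) (by rw [hcardM', mul_comm]) hcop hUM' hU'M' rfl hU'card
  have hgM : g ∈ M := hM'M hg
  intro hN
  apply h63
  intro n hn
  have h1 : g * n * g⁻¹ ∈ Subgroup.normalizer (U' : Set G) := by
    have h2 : (Subgroup.normalizer (U : Set G)).map (MulAut.conj g).toMonoidHom =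
        Subgroup.normalizer ((U.map (MulAut.conj g).toMonoidHom : Subgroup G) : Set G) :=
      Subgroup.map_equiv_normalizer_eq U (MulAut.conj g)
    have h3 : U.map (MulAut.conj g).toMonoidHom = U' := by
      rw [← hgU]; rfl
    rw [h3] at h2
    rw [← h2]
    exact ⟨n, hn, rfl⟩
  have h4 : g * n * g⁻¹ ∈ M := hN h1
  have h5 : n = g⁻¹ * (g * n * g⁻¹) * g := by group
  rw [h5]
  exact M.mul_mem (M.mul_mem (M.inv_mem hgM) h4) hgM

end Cfsg.Agent.Lib.Helper02.BG1382
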