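import Mathlib
import Cfsg.Agent.Lib.Helper03.FrobSub

/-!
# K-152-P1: `derived_le_centralizer`

A Frobenius-like group `D ⋊ K` (`D` nilpotent, `K` acting without fixed points on `D`) acting
coprimely on a normal `q`-subgroup `Q` with `C_Q(K)` cyclic: `⁅D, D⁆` centralizes `Q`.

The abstract-action theorem `comm_trivial_solvable_fix` is the variant of
`Helper03.FrobAct.comm_trivial_solvable` without the hypothesis `C_H(U) = 1`: on every
characteristic elementary abelian section `V` the fixed points of `E` form a cyclic group of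
exponent `p`, so `|C_V(E)| ≤ p` and `commute_elem_fix` applies.
-/

set_option autoImplicit false

namespace Cfsg.Agent.Lib.Helper02.BG152

open Cfsg.Agent.Lib.Helper03.FrobAct Cfsg.Agent.Lib.Helper03.FrobSub

open scoped commutatorElement

universe u w

section abstract

variable {Γ : Type w} [Group Γ]

/-- Frobenius-like `Γ ⊇ U ⋊ E` acting coprimely on a solvable group `H` with `C_H(E)` cyclic:
`U'` acts trivially on `H`. -/
theorem comm_trivial_solvable_fix [Finite Γ] (U E : Subgroup Γ) [U.Normal]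
    (hfpf : ∀ e ∈ E, e ≠ 1 → ∀ u ∈ U, e * u = u * e → u = 1) (hnil : Group.IsNilpotent U) :
    ∀ (n : ℕ) (H : Type u) [Group H] [Finite H], Nat.card H = n → Group.IsSolvable H →
      (Nat.card H).Coprime (Nat.card Γ) → ∀ c : Γ →* MulAut H,
      IsCyclic (fixedPts c E) →
      ∀ g ∈ U, ∀ h ∈ U, ∀ x : H, c ⁅g, h⁆ x = x := by
  intro n
  induction n using Nat.strong_induction_on with
  | _ n ih =>
  intro H _ _ hn hs hcop c hcyc g hg h hh x
  by_cases hH : Nontrivial H
  swap
  · have hsub : Subsingleton H := not_nontrivial_iff_subsingleton.mp hH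
    exact Subsingleton.elim _ _
  obtain ⟨N, p, hNchar, hp, hNne, hNc, hNexp⟩ := exists_char_elem_abelian hs
  have : Fact p.Prime := ⟨hp⟩
  have hNn : N.Normal := inferInstance
  have hcardH : Nat.card (H ⧸ N) * Nat.card N = Nat.card H :=
    (Subgroup.card_eq_card_quotient_mul_card_subgroup N).symm
  have hN1 : 1 < Nat.card N := by
    rw [Finite.one_lt_card_iff_nontrivial]
    exact (Subgroup.nontrivial_iff_ne_bot N).mpr hNne
  have hNdvd : Nat.card N ∣ Nat.card H := Subgroup.card_subgroup_dvd_card N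
  have hQdvd : Nat.card (H ⧸ N) ∣ Nat.card H := ⟨Nat.card N, hcardH.symm⟩
  have hpN : p ∣ Nat.card N := by
    obtain ⟨a, ha1⟩ := (Subgroup.ne_bot_iff_exists_ne_one).mp hNne
    have h1 : a ^ p = 1 := Subtype.ext (by rw [Subgroup.coe_pow]; exact hNexp a a.2)
    have h2 : orderOf a ∣ p := orderOf_dvd_of_pow_eq_one h1
    rcases (Nat.dvd_prime hp).mp h2 with h3 | h3
    · exact absurd (orderOf_eq_one_iff.mp h3) ha1
    · rw [← h3]; exact orderOf_dvd_natCard a
  have hpΓ : ¬ p ∣ Nat.card Γ := by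
    intro h
    have h1 : p ∣ Nat.gcd (Nat.card H) (Nat.card Γ) := Nat.dvd_gcd (hpN.trans hNdvd) h
    rw [hcop] at h1
    exact hp.one_lt.ne' (Nat.dvd_one.mp h1)
  have hcopN : (Nat.card N).Coprime (Nat.card Γ) := Nat.Coprime.coprime_dvd_left hNdvd hcop
  have hcopY : ∀ Y : Subgroup Γ, (Nat.card N).Coprime (Nat.card Y) := fun Y =>
    Nat.Coprime.coprime_dvd_right (Subgroup.card_subgroup_dvd_card Y) hcopN
  -- `C_N(E)` is cyclic of exponent `p`
  have hFcyc : IsCyclic (fixedPts (subAct c N) E) := by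
    let f : fixedPts (subAct c N) E →* fixedPts c E :=
      { toFun := fun v => ⟨(v.1 : H), fun e he => congrArg Subtype.val (v.2 e he)⟩
        map_one' := rfl
        map_mul' := fun a b => rfl }
    have hf : Function.Injective f := by
      intro a b hab
      have : ((a.1 : N) : H) = ((b.1 : N) : H) := congrArg (fun t => (t.1 : H)) hab
      exact Subtype.ext (Subtype.ext this)
    exact isCyclic_of_injective f hf
  have hFcard : Nat.card (fixedPts (subAct c N) E) ≤ p := by
    obtain ⟨γ, hγ⟩ := hFcyc.exists_generator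
    have h1 : γ ^ p = 1 := by
      apply Subtype.ext
      apply Subtype.ext
      show ((γ.1 : N) : H) ^ p = 1
      exact hNexp _ γ.1.2
    have h2 : Nat.card (fixedPts (subAct c N) E) = orderOf γ :=
      (orderOf_eq_card_of_forall_mem_zpowers hγ).symm
    have h3 : orderOf γ ∣ p := orderOf_dvd_of_pow_eq_one h1
    rw [h2]
    exact Nat.le_of_dvd hp.pos h3
  -- `U` acts on `N` through an abelian group
  have hcommN : ∀ g ∈ U, ∀ h ∈ U, ∀ v : N, subAct c N g (subAct c N h v) =
      subAct c N h (subAct c N g v) := by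
    letI instN : CommGroup N :=
      { (inferInstance : Group N) with
        mul_comm := fun a b => Subtype.ext (hNc a a.2 b b.2) }
    exact commute_elem_fix (V := ↥N) p (fun v => Subtype.ext (by
      rw [Subgroup.coe_pow]; exact hNexp v v.2)) hpΓ (subAct c N) U E hfpf hnil hFcard
  have hcommN' : ∀ g ∈ U, ∀ h ∈ U, ∀ v ∈ N, c g (c h v) = c h (c g v) := by
    intro g hg h hh v hv
    exact congrArg Subtype.val (hcommN g hg h hh ⟨v, hv⟩)
  have hNtriv : ∀ v ∈ N, c ⁅g, h⁆ v = v := by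
    intro v hv
    have hmem : ∀ (a : Γ) (w : H), w ∈ N → c a w ∈ N := fun a w hw =>
      (char_mem_iff N (c a) w).mpr hw
    rw [commutatorElement_def, map_mul, map_mul, map_mul, MulAut.mul_apply, MulAut.mul_apply,
      MulAut.mul_apply]
    rw [hcommN' h hh g⁻¹ (U.inv_mem hg) _ (hmem _ _ hv), ← MulAut.mul_apply, ← map_mul,
      mul_inv_cancel, map_one, MulAut.one_apply, ← MulAut.mul_apply, ← map_mul, mul_inv_cancel,
      map_one, MulAut.one_apply]
  -- the quotient
  have hQcyc : IsCyclic (fixedPts (quotAct c N) E) := by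
    let f : fixedPts c E →* fixedPts (quotAct c N) E :=
      { toFun := fun v => ⟨((v.1 : H) : H ⧸ N), fun e he => by
          rw [quotAct_mk, v.2 e he]⟩
        map_one' := rfl
        map_mul' := fun a b => rfl }
    have hf : Function.Surjective f := by
      rintro ⟨xb, hxb⟩
      obtain ⟨x, hx, hxe⟩ := exists_fixed_lift c N hNc E (hcopY E) xb hxb
      exact ⟨⟨x, hx⟩, Subtype.ext hxe⟩
    exact isCyclic_of_surjective f hf
  have hqpos : 0 < Nat.card (H ⧸ N) := Nat.card_pos
  have hlt : Nat.card (H ⧸ N) < n := by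
    rw [← hn, ← hcardH]
    exact lt_mul_of_one_lt_right hqpos hN1
  have hQ := ih (Nat.card (H ⧸ N)) hlt (H ⧸ N) rfl inferInstance
    (Nat.Coprime.coprime_dvd_left hQdvd hcop) (quotAct c N) hQcyc g hg h hh
  exact trivial_of_trivial_sub_quot c N ⁅g, h⁆ hcopN hNtriv hQ x

end abstract

section sub

variable {X : Type*} [Group X]

/-- subgroup form of `comm_trivial_solvable_fix` -/
theorem comm_le_centralizer_fix [Finite X] (U E H : Subgroup X)
    (hUn : ∀ e ∈ E, ∀ u ∈ U, e * u * e⁻¹ ∈ U)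
    (hfpf : ∀ e ∈ E, e ≠ 1 → ∀ u ∈ U, e * u = u * e → u = 1)
    (hnil : Group.IsNilpotent U)
    (hHn : ∀ x ∈ U ⊔ E, ∀ h ∈ H, x * h * x⁻¹ ∈ H)
    (hsolv : Group.IsSolvable H) (hcop : Nat.Coprime (Nat.card H) (Nat.card ↥(U ⊔ E)))
    (hcyc : IsCyclic ↥(H ⊓ Subgroup.centralizer (E : Set X))) :
    ⁅U, U⁆ ≤ Subgroup.centralizer (H : Set X) := by
  set L : Subgroup X := U ⊔ E with hL
  have hUL : U ≤ L := le_sup_left
  have hEL : E ≤ L := le_sup_right
  have hLN : L ≤ Subgroup.normalizer (U : Set X) := by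
    apply sup_le Subgroup.le_normalizer
    intro e he
    rw [Subgroup.mem_normalizer_iff]
    intro u
    constructor
    · exact hUn e he u
    · intro h
      have := hUn e⁻¹ (E.inv_mem he) _ h
      simpa [mul_assoc] using this
  have hUnorm : (U.subgroupOf L).Normal :=
    (Subgroup.normal_subgroupOf_iff_le_normalizer hUL).mpr hLN
  have hnil' : Group.IsNilpotent (U.subgroupOf L) :=
    (Group.isNilpotent_congr (Subgroup.subgroupOfEquivOfLe hUL)).mpr hnil
  have hfpf' : ∀ e ∈ E.subgroupOf L, e ≠ 1 → ∀ u ∈ U.subgroupOf L, e * u = u * e → u = 1 := by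
    intro e he he1 u hu huc
    rw [Subgroup.mem_subgroupOf] at he hu
    have he1' : (e : X) ≠ 1 := fun h => he1 (Subtype.ext h)
    exact Subtype.ext (hfpf _ he he1' _ hu (congrArg Subtype.val huc))
  have hcyc' : IsCyclic (fixedPts (conjAct L H hHn) (E.subgroupOf L)) :=
    (MulEquiv.isCyclic (fixedPtsEquiv L H hHn E hEL)).mpr hcyc
  have key := comm_trivial_solvable_fix (Γ := L) (U.subgroupOf L) (E.subgroupOf L) hfpf' hnil'
    (Nat.card H) H rfl hsolv hcop (conjAct L H hHn) hcyc'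
  rw [Subgroup.commutator_le]
  intro g hg h hh
  rw [Subgroup.mem_centralizer_iff]
  intro x hx
  have h1 := key ⟨g, hUL hg⟩ (Subgroup.mem_subgroupOf.mpr hg) ⟨h, hUL hh⟩
    (Subgroup.mem_subgroupOf.mpr hh) ⟨x, hx⟩
  have h2 : ⁅g, h⁆ * x * ⁅g, h⁆⁻¹ = x := by
    have := congrArg Subtype.val h1
    rw [conjAct_apply] at this
    simpa [commutatorElement_def] using this
  calc x * ⁅g, h⁆ = ⁅g, h⁆ * x * ⁅g, h⁆⁻¹ * ⁅g, h⁆ := by rw [h2]
    _ = ⁅g, h⁆ * x := by group

end sub

/-- `|H ⊔ K|` divides `|K| |H|` when `H` normalizes `K` -/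
theorem card_sup_dvd_p1 {Γ : Type*} [Group Γ] (H K : Subgroup Γ)
    (h : H ≤ Subgroup.normalizer (K : Set Γ)) :
    Nat.card (H ⊔ K : Subgroup Γ) ∣ Nat.card K * Nat.card H := by
  set N := Subgroup.normalizer (K : Set Γ) with hN
  have hKN : K ≤ N := Subgroup.le_normalizer
  have hnorm : (K.subgroupOf N).Normal := Subgroup.normal_in_normalizer
  have h1 : (⊥ : Subgroup N).relIndex (K.subgroupOf N) *
      (K.subgroupOf N).relIndex (H.subgroupOf N ⊔ K.subgroupOf N) =
      (⊥ : Subgroup N).relIndex (H.subgroupOf N ⊔ K.subgroupOf N) :=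
    Subgroup.relIndex_mul_relIndex _ _ _ bot_le le_sup_right
  rw [Subgroup.relIndex_bot_left, Subgroup.relIndex_bot_left, Subgroup.relIndex_sup_right] at h1
  have h2 : Nat.card (H.subgroupOf N ⊔ K.subgroupOf N : Subgroup N) =
      Nat.card (H ⊔ K : Subgroup Γ) := by
    rw [← Subgroup.subgroupOf_sup h hKN]
    exact Nat.card_congr (Subgroup.subgroupOfEquivOfLe (sup_le h hKN)).toEquiv
  have h3 : Nat.card (K.subgroupOf N) = Nat.card K :=
    Nat.card_congr (Subgroup.subgroupOfEquivOfLe hKN).toEquiv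
  have h4 : Nat.card (H.subgroupOf N) = Nat.card H :=
    Nat.card_congr (Subgroup.subgroupOfEquivOfLe h).toEquiv
  rw [← h2, ← h1, h3]
  apply Nat.mul_dvd_mul_left
  rw [← h4]
  exact Subgroup.relIndex_dvd_card _ _

/-- **K-152-P1** -/
theorem derived_le_centralizer {X : Type*} [Group X] [Finite X] [Group.IsSolvable X]
    (hodd : Odd (Nat.card X)) (q : ℕ) [Fact q.Prime] (Q D K : Subgroup X) [Q.Normal]
    (hQ : IsPGroup q Q) (hD : Group.IsNilpotent D) (hDq : (Nat.card D).Coprime q)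
    (hK1 : K ≠ ⊥) (hKD : K ≤ Subgroup.normalizer (D : Set X))
    (hcop : (Nat.card K).Coprime (q * Nat.card D))
    (hfpf : ∀ k ∈ K, k ≠ 1 → D ⊓ Subgroup.centralizer ({k} : Set X) = ⊥)
    (hprime : ∀ k ∈ K, k ≠ 1 →
      Q ⊓ Subgroup.centralizer ({k} : Set X) = Q ⊓ Subgroup.centralizer (K : Set X))
    (hcyc : IsCyclic ↥(Q ⊓ Subgroup.centralizer (K : Set X))) :
    ⁅D, D⁆ ≤ Subgroup.centralizer (Q : Set X) := by
  have hUn : ∀ e ∈ K, ∀ u ∈ D, e * u * e⁻¹ ∈ D := fun e he u hu =>
    ((Subgroup.mem_normalizer_iff.mp (hKD he)) u).mp hu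
  have hfpf' : ∀ e ∈ K, e ≠ 1 → ∀ u ∈ D, e * u = u * e → u = 1 := by
    intro e he he1 u hu huc
    have h1 : u ∈ D ⊓ Subgroup.centralizer ({e} : Set X) := by
      refine Subgroup.mem_inf.mpr ⟨hu, ?_⟩
      rw [Subgroup.mem_centralizer_iff]
      intro y hy
      rw [Set.mem_singleton_iff] at hy
      rw [hy]; exact huc
    rw [hfpf e he he1, Subgroup.mem_bot] at h1
    exact h1
  have hHn : ∀ x ∈ D ⊔ K, ∀ h ∈ Q, x * h * x⁻¹ ∈ Q := fun x _ h hh =>
    (inferInstance : Q.Normal).conj_mem h hh x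
  have hsolv : Group.IsSolvable Q := inferInstance
  -- coprimality
  have hcard : (Nat.card Q).Coprime (Nat.card ↥(D ⊔ K)) := by
    obtain ⟨n, hn⟩ := IsPGroup.iff_card.mp hQ
    rw [hn]
    apply Nat.Coprime.pow_left
    have hqp : q.Prime := Fact.out
    rw [Nat.Prime.coprime_iff_not_dvd hqp]
    intro hdvd
    have hDK : Nat.card ↥(D ⊔ K) ∣ Nat.card D * Nat.card K := by
      rw [sup_comm]
      exact card_sup_dvd_p1 K D hKD
    have h2 : q ∣ Nat.card D * Nat.card K := hdvd.trans hDK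
    rcases hqp.dvd_mul.mp h2 with h3 | h3
    · have := Nat.Coprime.eq_one_of_dvd hDq.symm h3
      exact hqp.one_lt.ne' this
    · have h4 : (Nat.card K).Coprime q := Nat.Coprime.coprime_mul_right_right hcop
      have := Nat.Coprime.eq_one_of_dvd h4.symm h3
      exact hqp.one_lt.ne' this
  exact comm_le_centralizer_fix D K Q hUn hfpf' hD hHn hsolv hcard hcyc

end Cfsg.Agent.Lib.Helper02.BG152
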