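import Mathlib
import Cfsg.Agent.S1355
import Cfsg.Agent.S1356
import Cfsg.Agent.S1357
import Cfsg.Agent.S1364
import Cfsg.Agent.S1365
import Cfsg.Agent.S1430
import Cfsg.Agent.Lib.Helper12.BG151Glue

/-!
# Glue for S1382: `(type III ∨ type IV) ⇔ K ≠ ⊥ ∧ U = ⊥ ∧ M_F ≠ M_σ`

Hypothesis form over the leaves of pack K-1382 and the type-`P` lemmas of helper13.
-/

set_option autoImplicit false
set_option linter.unusedVariables false

namespace Cfsg.Agent.Lib.Helper02.BG1382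

open Cfsg

variable {G : Type*} [Group G] [Finite G]

/-- swap the two factors of `IsComplIn K (sigmaCore M) M` -/
theorem isComplIn_swap_of_le_normalizer {A B M : Subgroup G} (h : IsComplIn A B M)
    (hn : A ≤ Subgroup.normalizer (B : Set G)) : IsComplIn B A M := by
  obtain ⟨hA, hB, hinf, hprod⟩ := h
  refine ⟨hB, hA, by rw [inf_comm]; exact hinf, ?_⟩
  intro m hm
  obtain ⟨a, ha, b, hb, rfl⟩ := hprod m hm
  refine ⟨a * b * a⁻¹, ?_, a, ha, by group⟩
  exact ((Subgroup.mem_normalizer_iff.mp (hn ha)) b).mp hb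

theorem s1382_of (hG : IsMinSimpleOddOrder G) (M : Subgroup G) (hM : IsCoatom M)
    (K U : Subgroup G) (hKU : IsSigmaDecomposition M K U)
    (hSN : K ≠ ⊥ → IsSelfNormalizingCyclic K (sigmaCore M ⊓ Subgroup.centralizer (K : Set G)))
    (hκ : ∀ W₁ U' W₂ : Subgroup G, IsTypePWith M W₁ U' W₂ → K ≠ ⊥)
    (h63 : K ≠ ⊥ → U ≠ ⊥ → ¬ Subgroup.normalizer (U : Set G) ≤ M)
    (hA : ∃ U' : Subgroup G, K ≤ Subgroup.normalizer (U' : Set G) ∧
      IsComplIn (fittingHallOf M) U' (sigmaCore M) ∧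
      (Nat.card U').Coprime (U'.relIndex (sigmaCore M)))
    (hB : ∀ U' : Subgroup G, U' ≤ ⁅M, M⁆ → fittingHallOf M ⊓ U' = ⊥ → Group.IsNilpotent U')
    (hC : ∀ U' : Subgroup G, U' ≤ sigmaCore M → U' ≠ ⊥ → Group.IsNilpotent U' →
      (Nat.card U').Coprime (U'.relIndex (sigmaCore M)) → Subgroup.normalizer (U' : Set G) ≤ M)
    (hD : K ≠ ⊥ → U ≠ ⊥ → ¬ Subgroup.normalizer (U : Set G) ≤ M → ∀ U' : Subgroup G,
      IsComplIn (fittingHallOf M) U' ⁅M, M⁆ → ¬ Subgroup.normalizer (U' : Set G) ≤ M) :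
    (IsOfTypeIII M ∨ IsOfTypeIV M) ↔ (K ≠ ⊥ ∧ U = ⊥ ∧ fittingHallOf M ≠ sigmaCore M) := by
  constructor
  · -- `⇒`
    intro h
    have key : ∃ W₁ U' W₂ : Subgroup G, IsTypePWith M W₁ U' W₂ ∧ U' ≠ ⊥ ∧
        Subgroup.normalizer (U' : Set G) ≤ M := by
      rcases h with ⟨W₁, U', W₂, hP, hU'1, -, -, -, hN⟩ | ⟨W₁, U', W₂, hP, hU'1, -, -, -, hN⟩
      · exact ⟨W₁, U', W₂, hP, hU'1, hN⟩
      · exact ⟨W₁, U', W₂, hP, hU'1, hN⟩
    obtain ⟨W₁, U', W₂, hP, hU'1, hN⟩ := key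
    have hK1 : K ≠ ⊥ := hκ W₁ U' W₂ hP
    have hU : U = ⊥ := by
      by_contra hU1
      exact hD hK1 hU1 (h63 hK1 hU1) U' hP.U_compl hN
    refine ⟨hK1, hU, ?_⟩
    intro heq
    subst hU
    have hM'σ : ⁅M, M⁆ = sigmaCore M := by
      have := (Cfsg.Agent.S1365.result hG M hM K ⊥ hKU hK1).1
      rwa [bot_sup_eq] at this
    obtain ⟨-, hU'M', hinf, -⟩ := hP.U_compl
    apply hU'1
    rw [eq_bot_iff, ← hinf]
    exact le_inf (by rw [heq, ← hM'σ]; exact hU'M') le_rfl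
  · -- `⇐`
    rintro ⟨hK1, hU, hne⟩
    subst hU
    obtain ⟨-, hTI, hKpr⟩ := Cfsg.Agent.S1357.result hG M hM K ⊥ hKU hne
    obtain ⟨h65a, h65b⟩ := Cfsg.Agent.S1365.result hG M hM K ⊥ hKU hK1
    have hM'σ : ⁅M, M⁆ = sigmaCore M := by rwa [bot_sup_eq] at h65a
    obtain ⟨hF1, hFσ, hσM', hM'lt, -⟩ := Cfsg.Agent.S1355.result hG M hM
    obtain ⟨hKscyc, hKs1, hKsF, hFnc⟩ := Cfsg.Agent.S1364.result hG M hM K ⊥ hKU hK1
    obtain ⟨h56a, h56b, h56c⟩ := Cfsg.Agent.S1356.result hG M hM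
    have hκne : (kappa M).Nonempty := by
      have hcard : Nat.card K ≠ 1 := fun h => hK1 (Subgroup.card_eq_one.mp h)
      obtain ⟨p, hp, hpd⟩ := Nat.exists_prime_and_dvd hcard
      exact ⟨p, hKU.hall.2.1 p hp hpd⟩
    obtain ⟨U', hKU', hc, hhall⟩ := hA
    have hU'σ : U' ≤ sigmaCore M := hc.2.1
    have hdisj : fittingHallOf M ⊓ U' = ⊥ := hc.2.2.1
    have hU'nil : Group.IsNilpotent U' := hB U' (by rw [hM'σ]; exact hU'σ) hdisj
    have hU'1 : U' ≠ ⊥ := by
      intro hbot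
      apply hne
      apply le_antisymm hFσ
      intro m hm
      obtain ⟨a, ha, b, hb, rfl⟩ := hc.2.2.2 m hm
      rw [hbot, Subgroup.mem_bot] at hb
      rw [hb, mul_one]
      exact ha
    have hNU' : Subgroup.normalizer (U' : Set G) ≤ M := hC U' hU'σ hU'1 hU'nil hhall
    have hKM : K ≤ M := hKU.hall.1
    have hcomplK : IsComplIn K (sigmaCore M) M :=
      Cfsg.Agent.Lib.Helper12.BG151.isComplIn_of_decomp_bot hG hM hKU
    have hnK : K ≤ Subgroup.normalizer (sigmaCore M : Set G) :=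
      hKM.trans (Cfsg.Agent.Lib.Helper31.le_normalizer_piCoreOf (sigma M) M)
    have hP : IsTypePWith M K U' (sigmaCore M ⊓ Subgroup.centralizer (K : Set G)) :=
      { W₁_ne := hK1
        W₁_cyclic := hKU.cyclic
        W₁_hall := by
          by_contra hcon
          obtain ⟨p, hp, hpK, hpi⟩ := Nat.Prime.not_coprime_iff_dvd.mp hcon
          exact hKU.hall.2.2 p hp (hKU.hall.2.1 p hp hpK) hpi
        W₁_compl := by
          rw [hM'σ]
          exact isComplIn_swap_of_le_normalizer hcomplK hnK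
        U_nilpotent := hU'nil
        U_normal := hKU'
        U_compl := by rw [hM'σ]; exact hc
        H_not_cyclic := hFnc
        derived_two_le := by
          rw [sup_comm, ← h56b]; exact h56a
        fitting_eq := by
          rw [sup_comm]; exact h56b.symm
        fitting_le := h56c hκne
        W₂_le := le_inf hKsF h65b
        W₂_centralizer := by
          intro x hx hx1
          rw [hM'σ]
          exact (Cfsg.Agent.S1430.result hG M hM K hKU.hall hK1).1 x hx hx1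
        selfNormalizing := hSN hK1 }
    by_cases hab : IsMulCommutative U'
    · exact Or.inl ⟨K, U', _, hP, hU'1, hKpr, hTI, hab, hNU'⟩
    · exact Or.inr ⟨K, U', _, hP, hU'1, hKpr, hTI, hab, hNU'⟩

end Cfsg.Agent.Lib.Helper02.BG1382
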