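import Mathlib
import Cfsg.Agent.S1351
import Cfsg.Agent.S1352
import Cfsg.Agent.S1357
import Cfsg.Agent.S1365
import Cfsg.Agent.S1382
import Cfsg.Agent.Lib.Helper13.BG16R

/-! Pack K-1537 (S1537): leaves L-A (`typeCore_eq_sigmaCore`) and L-E (`mem_of_conj_typeA0`), typed by the architect. -/

set_option autoImplicit false
set_option linter.unusedSectionVars false

namespace Cfsg.Agent.Lib.Helper02.BG1537

open Cfsg Subgroup

variable {G : Type*} [Group G] [Finite G]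


/-- **L-A** `M_s = M_σ` always. -/
theorem typeCore_eq_sigmaCore (hG : IsMinSimpleOddOrder G) {M : Subgroup G} (hM : IsCoatom M) :
    typeCore M = sigmaCore M := by
  obtain ⟨⟨K, hK⟩, hcyc⟩ := Cfsg.Agent.S1351.result hG M hM
  obtain ⟨⟨U, hKU⟩, -⟩ := Cfsg.Agent.S1352.result hG M hM K (hcyc K hK) hK
  have h82 := Cfsg.Agent.S1382.result hG M hM K U hKU
  unfold typeCore
  by_cases h : IsOfTypeIII M ∨ IsOfTypeIV M
  · rw [if_pos h]
    obtain ⟨hK1, hU1, -⟩ := h82.mp h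
    rw [(Cfsg.Agent.S1365.result hG M hM K U hKU hK1).1, hU1, bot_sup_eq]
  · rw [if_neg h]
    by_contra hne
    obtain ⟨hU1, -, hpr⟩ := Cfsg.Agent.S1357.result hG M hM K U hKU hne
    apply h
    refine h82.mpr ⟨?_, hU1, hne⟩
    rintro rfl
    rw [Subgroup.card_bot] at hpr
    exact Nat.not_prime_one hpr



/-- the `Ẑ`-part of `A₀(M)` lies in `M` -/
theorem zhat_conj_mem {M W₁ U' W₂ : Subgroup G} (hP : IsTypePWith M W₁ U' W₂) {m w : G} (hm : m ∈ M)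
    (hw : w ∈ W₁ ⊔ W₂) : m * w * m⁻¹ ∈ M := by
  have h1 : W₁ ≤ M := hP.W₁_compl.2.1
  have h2 : W₂ ≤ M := by
    refine (hP.W₂_le.trans inf_le_left).trans ?_
    intro x hx
    obtain ⟨y, -, rfl⟩ := hx
    exact y.2
  exact M.mul_mem (M.mul_mem hm ((sup_le h1 h2) hw)) (M.inv_mem hm)

/-- **L-E** -/
theorem mem_of_conj_typeA0 (hG : IsMinSimpleOddOrder G) {M K U : Subgroup G} (hM : IsCoatom M)
    (hKU : IsSigmaDecomposition M K U) (hB2 : typeA M ⊆ sigmaA M U \ {1})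
    (hD : ∀ a g : G, a ∈ sigmaA M U → a ∉ sigmaCore M → g * a * g⁻¹ ∈ sigmaA M U → g ∈ M)
    {v g : G} (hv : v ∈ typeA0 M) (hvσ : v ∉ sigmaCore M) (hb : g * v * g⁻¹ ∈ typeA0 M) : g ∈ M := by
  have hAM : ∀ {a : G}, a ∈ typeA M → a ∈ M := fun {a} ha => (hB2 ha).1.1.1
  have h0M : ∀ {a : G}, a ∈ typeA0 M → a ∈ M := by
    intro a ha
    rcases ha with ha | ⟨-, W₁, U', W₂, hP, m, hm, w, hw, -, -, rfl⟩
    · exact hAM ha
    · exact zhat_conj_mem hP hm hw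
  rcases hv with hv | ⟨-, W₁, U', W₂, hP, m, hm, w, hw, hw1, hw2, rfl⟩
  · rcases hb with hb | ⟨-, W₁, U', W₂, hP, m, hm, w, hw, hw1, hw2, he⟩
    · exact hD v g (hB2 hv).1 hvσ (hB2 hb).1
    · have hK1 := Cfsg.Agent.Lib.Helper13.BG16.kappaHall_ne_bot_of_typeP hG hM hP hKU.hall
      have h1 : g⁻¹ * (m * w * m⁻¹) * g⁻¹⁻¹ ∈ M := by
        rw [← he]
        have : g⁻¹ * (g * v * g⁻¹) * g⁻¹⁻¹ = v := by group
        rw [this]
        exact hAM hv
      have := Cfsg.Agent.Lib.Helper13.BG16.mem_of_conj_zhat_mem hG hM hP hKU hK1 hm hw hw1 hw2 h1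
      have h2 := M.inv_mem this
      rwa [inv_inv] at h2
  · have hK1 := Cfsg.Agent.Lib.Helper13.BG16.kappaHall_ne_bot_of_typeP hG hM hP hKU.hall
    exact Cfsg.Agent.Lib.Helper13.BG16.mem_of_conj_zhat_mem hG hM hP hKU hK1 hm hw hw1 hw2 (h0M hb)

end Cfsg.Agent.Lib.Helper02.BG1537
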