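import Mathlib
import Cfsg.Agent.Lib.Helper74.CR2Defs

/-!
# S4284, keystone C: the final contradiction in the case "all noncentral `p`-elements are big"

Class sizes `{1, p, p n}`, every noncentral `p`-element has class size `p n`, the Sylow `p`-subgroups
have index `p ^ 2` over their intersection with the centre, and the big centralizers are abelian:
impossible.
-/

set_option autoImplicit false

namespace Cfsg.Agent.Lib.Helper02.CR2

open Subgroup Cfsg.Agent.Lib.Helper74.CR2

section basic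

variable {G : Type*} [Group G]

/-- the centralizer of an element -/
abbrev cen (x : G) : Subgroup G := centralizer ({x} : Set G)

theorem mem_cen {x g : G} : g ∈ cen x ↔ g * x = x * g := mem_centralizer_singleton_iff

theorem mem_cen_comm {x g : G} : g ∈ cen x ↔ x ∈ cen g := by
  rw [mem_cen, mem_cen]; exact eq_comm

theorem self_mem_cen (x : G) : x ∈ cen x := mem_cen.mpr rfl

theorem center_le_cen (x : G) : center G ≤ cen x := fun z hz =>
  mem_cen.mpr ((mem_center_iff.mp hz x).symm)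

theorem cen_eq_top_iff {x : G} : cen x = ⊤ ↔ x ∈ center G := by
  constructor
  · intro h
    rw [mem_center_iff]
    intro g
    have : g ∈ cen x := by rw [h]; trivial
    exact mem_cen.mp this
  · intro h
    rw [eq_top_iff]
    intro g _
    exact mem_cen.mpr (mem_center_iff.mp h g)

theorem cen_le_of_mem_zpowers {x y : G} (h : y ∈ zpowers x) : cen x ≤ cen y := by
  intro g hg
  obtain ⟨k, rfl⟩ := mem_zpowers_iff.mp h
  rw [mem_cen] at hg ⊢
  exact ((Commute.zpow_right (show Commute g x from hg) k)).eq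

theorem cen_eq_of_le_of_idx_eq [Finite G] {x g : G} (h : cen g ≤ cen x)
    (he : (cen x).index = (cen g).index) : cen g = cen x := by
  apply le_antisymm h
  rw [← relIndex_eq_one]
  have h1 := relIndex_mul_index h
  rw [he] at h1
  have h2 : (cen g).index ≠ 0 := index_ne_zero_of_finite
  exact Nat.eq_of_mul_eq_mul_right (Nat.pos_of_ne_zero h2) (by rw [h1, one_mul])

/-- commuting elements of coprime orders: the first is a power of the product -/
theorem exists_pow_mul_eq {x h : G} (hc : Commute x h) (hx : 0 < orderOf x)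
    (hcop : (orderOf x).Coprime (orderOf h)) : ∃ k : ℕ, (x * h) ^ k = x := by
  obtain ⟨k, hk1, hk0⟩ := Nat.chineseRemainder hcop 1 0
  refine ⟨k, ?_⟩
  rw [hc.mul_pow]
  have h1 : x ^ k = x := by
    have := (pow_eq_pow_iff_modEq (x := x)).mpr hk1
    rwa [pow_one] at this
  have h2 : h ^ k = 1 := by
    rw [← orderOf_dvd_iff_pow_eq_one]
    exact (Nat.modEq_zero_iff_dvd).mp hk0
  rw [h1, h2, mul_one]

theorem cen_mul_of_coprime [Finite G] {x h : G} (hc : x * h = h * x)
    (hcop : (orderOf x).Coprime (orderOf h)) : cen (x * h) = cen x ⊓ cen h := by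
  apply le_antisymm
  · have hc' : Commute x h := hc
    obtain ⟨k, hk⟩ := exists_pow_mul_eq hc' (orderOf_pos x) hcop
    obtain ⟨l, hl⟩ := exists_pow_mul_eq hc'.symm (orderOf_pos h) hcop.symm
    apply le_inf
    · apply cen_le_of_mem_zpowers
      have := npow_mem_zpowers (x * h) k
      rwa [hk] at this
    · apply cen_le_of_mem_zpowers
      have hl' : (x * h) ^ l = h := by rw [hc'.eq]; exact hl
      have := npow_mem_zpowers (x * h) l
      rwa [hl'] at this
  · intro g hg
    have h1 := mem_cen.mp hg.1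
    have h2 := mem_cen.mp hg.2
    rw [mem_cen, ← mul_assoc, h1, mul_assoc, h2, mul_assoc]

/-- the `p`-part and the `p'`-part of an element -/
theorem exists_parts [Finite G] (p : ℕ) [hp : Fact p.Prime] (y : G) :
    ∃ a b : G, a ∈ zpowers y ∧ b ∈ zpowers y ∧ y = a * b ∧ (∃ k : ℕ, orderOf a = p ^ k) ∧
      (orderOf b).Coprime p := by
  obtain ⟨e, r, hr, ho⟩ := Nat.exists_eq_pow_mul_and_not_dvd (orderOf_pos y).ne' p hp.out.ne_one
  have hcop : (p ^ e).Coprime r :=
    Nat.Coprime.pow_left e ((Nat.Prime.coprime_iff_not_dvd hp.out).mpr hr)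
  obtain ⟨s, hs1, hs0⟩ := Nat.chineseRemainder hcop 1 0
  obtain ⟨t, ht0, ht1⟩ := Nat.chineseRemainder hcop 0 1
  refine ⟨y ^ s, y ^ t, pow_mem (mem_zpowers y) s, pow_mem (mem_zpowers y) t, ?_, ?_, ?_⟩
  · rw [← pow_add]
    have h1 : s + t ≡ 1 [MOD p ^ e] := by
      have := Nat.ModEq.add hs1 ht0
      simpa using this
    have h2 : s + t ≡ 1 [MOD r] := by
      have := Nat.ModEq.add hs0 ht1
      simpa using this
    have h3 : s + t ≡ 1 [MOD orderOf y] := by
      rw [ho]
      exact (Nat.modEq_and_modEq_iff_modEq_mul hcop).mp ⟨h1, h2⟩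
    have := (pow_eq_pow_iff_modEq (x := y)).mpr h3
    rw [pow_one] at this
    exact this.symm
  · have h1 : (y ^ s) ^ (p ^ e) = 1 := by
      rw [← pow_mul, ← orderOf_dvd_iff_pow_eq_one, ho]
      obtain ⟨c, hc⟩ := (Nat.modEq_zero_iff_dvd).mp hs0
      rw [hc]
      exact ⟨c, by ring⟩
    have h2 := orderOf_dvd_of_pow_eq_one h1
    obtain ⟨k, _, hk⟩ := (Nat.dvd_prime_pow hp.out).mp h2
    exact ⟨k, hk⟩
  · have h1 : (y ^ t) ^ r = 1 := by
      rw [← pow_mul, ← orderOf_dvd_iff_pow_eq_one, ho]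
      obtain ⟨c, hc⟩ := (Nat.modEq_zero_iff_dvd).mp ht0
      rw [hc]
      exact ⟨c, by ring⟩
    have h2 := orderOf_dvd_of_pow_eq_one h1
    exact Nat.Coprime.coprime_dvd_left h2 ((Nat.Prime.coprime_iff_not_dvd hp.out).mpr hr).symm

/-- `H ≤ K` finite: `|H| * |K : H| = |K|` -/
theorem card_mul_relIndex' {H K : Subgroup G} (h : H ≤ K) :
    Nat.card H * H.relIndex K = Nat.card K := by
  have := relIndex_mul_relIndex (⊥ : Subgroup G) H K bot_le h
  rwa [relIndex_bot_left, relIndex_bot_left] at this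

end basic

section config

variable {G : Type*} [Group G] [Finite G] {p n : ℕ} [hp : Fact p.Prime]

/-- the hypotheses of the keystone, with `m = p` -/
structure Cfg (G : Type*) [Group G] (p n : ℕ) : Prop where
  H : Hyp G p n
  hbig : ∀ u : G, (∃ k : ℕ, orderOf u = p ^ k) → u ∉ center G → (cen u).index = p * n
  hsq : ∀ P : Sylow p G, Nat.card (P : Subgroup G) =
    p ^ 2 * Nat.card ((P : Subgroup G) ⊓ center G : Subgroup G)
  hab : ∀ g : G, (cen g).index = p * n → ∀ a ∈ cen g, ∀ b ∈ cen g, a * b = b * a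

namespace Cfg

theorem idx_cases (c : Cfg G p n) (x : G) :
    (cen x).index = 1 ∨ (cen x).index = p ∨ (cen x).index = p * n := by
  have : (cen x).index ∈ Set.range (fun x : G => (centralizer ({x} : Set G)).index) := ⟨x, rfl⟩
  rw [c.H.h] at this
  simpa using this

theorem exists_small (c : Cfg G p n) : ∃ y : G, (cen y).index = p := by
  have : p ∈ ({1, p, p * n} : Set ℕ) := by simp
  rw [← c.H.h] at this
  obtain ⟨y, hy⟩ := this
  exact ⟨y, hy⟩

theorem not_dvd_n (c : Cfg G p n) : ¬ p ∣ n :=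
  (Nat.Prime.coprime_iff_not_dvd hp.out).mp c.H.hcop

theorem one_lt_n (c : Cfg G p n) : 1 < n := c.H.hn

theorem pn_ne_p (c : Cfg G p n) : p * n ≠ p := by
  intro h
  have h1 : p * n = p * 1 := by rw [h, mul_one]
  have := Nat.eq_of_mul_eq_mul_left hp.out.pos h1
  have := c.H.hn
  omega

theorem pn_ne_one (c : Cfg G p n) : p * n ≠ 1 := by
  intro h
  have := Nat.eq_one_of_mul_eq_one_right h
  exact hp.out.ne_one this

theorem mem_center_of_idx_one {x : G} (h : (cen x).index = 1) : x ∈ center G :=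
  cen_eq_top_iff.mp (index_eq_one.mp h)

theorem idx_ne_one_of_not_mem_center {x : G} (h : x ∉ center G) : (cen x).index ≠ 1 :=
  fun h1 => h (mem_center_of_idx_one h1)

theorem idx_of_mem_center {x : G} (h : x ∈ center G) : (cen x).index = 1 :=
  index_eq_one.mpr (cen_eq_top_iff.mpr h)

theorem mem_center_of_sylow_le (c : Cfg G p n) (P : Sylow p G) {x : G}
    (h : (P : Subgroup G) ≤ cen x) : x ∈ center G := by
  have h1 : (cen x).index ∣ (P : Subgroup G).index := index_dvd_of_le h
  have h2 : ¬ p ∣ (P : Subgroup G).index := P.not_dvd_index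
  rcases c.idx_cases x with h3 | h3 | h3
  · exact mem_center_of_idx_one h3
  · rw [h3] at h1
    exact absurd h1 h2
  · rw [h3] at h1
    exact absurd (dvd_trans (dvd_mul_right p n) h1) h2

theorem pelt_of_mem_sylow (P : Sylow p G) {x : G} (hx : x ∈ (P : Subgroup G)) :
    ∃ k : ℕ, orderOf x = p ^ k := by
  obtain ⟨k, hk⟩ := IsPGroup.iff_orderOf.mp P.2 ⟨x, hx⟩
  refine ⟨k, ?_⟩
  rw [← hk]
  exact (Subgroup.orderOf_mk x hx).symm

theorem exists_sylow_of_pelt {x : G} (hx : ∃ k : ℕ, orderOf x = p ^ k) :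
    ∃ P : Sylow p G, x ∈ (P : Subgroup G) := by
  obtain ⟨k, hk⟩ := hx
  have h1 : IsPGroup p (zpowers x) := by
    apply IsPGroup.of_card (n := k)
    rw [Nat.card_zpowers, hk]
  obtain ⟨P, hP⟩ := h1.exists_le_sylow
  exact ⟨P, hP (mem_zpowers x)⟩

/-- every centralizer contains a noncentral `p`-element -/
theorem exists_pelt (c : Cfg G p n) (g : G) :
    ∃ u ∈ cen g, (∃ k : ℕ, orderOf u = p ^ k) ∧ u ∉ center G := by
  by_contra hcon
  push_neg at hcon
  obtain ⟨Q⟩ : Nonempty (Sylow p ↥(cen g)) := inferInstance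
  set Q' : Subgroup G := (Q : Subgroup ↥(cen g)).map (cen g).subtype with hQ'
  have hQp : IsPGroup p Q' := Q.2.map _
  have hQZ : Q' ≤ center G := by
    intro u hu
    have hug : u ∈ cen g := by
      obtain ⟨v, _, rfl⟩ := hu
      exact v.2
    obtain ⟨k, hk⟩ := IsPGroup.iff_orderOf.mp hQp ⟨u, hu⟩
    apply hcon u hug ⟨k, ?_⟩
    rw [← hk]
    exact (Subgroup.orderOf_mk u hu).symm
  obtain ⟨P, hP⟩ := hQp.exists_le_sylow
  have h1 : Nat.card Q' ≤ Nat.card ((P : Subgroup G) ⊓ center G : Subgroup G) :=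
    card_le_of_le (le_inf hP hQZ)
  have h2 : Nat.card Q' = Nat.card (Q : Subgroup ↥(cen g)) :=
    card_map_of_injective (subtype_injective _)
  -- `|P|` divides `p * |Q|`
  have h3 : Nat.card (P : Subgroup G) ∣ Nat.card G := card_subgroup_dvd_card _
  have h4 : Nat.card G = Nat.card (cen g) * (cen g).index := (card_mul_index _).symm
  have h5 : Nat.card (cen g) =
      Nat.card (Q : Subgroup ↥(cen g)) * (Q : Subgroup ↥(cen g)).index := (card_mul_index _).symm
  have h6 : (cen g).index ∣ p * n := by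
    rcases c.idx_cases g with h | h | h <;> rw [h]
    · exact one_dvd _
    · exact dvd_mul_right p n
  obtain ⟨a, ha⟩ := IsPGroup.iff_card.mp P.2
  have hc1 : (Nat.card (P : Subgroup G)).Coprime (Q : Subgroup ↥(cen g)).index := by
    rw [ha]
    exact Nat.Coprime.pow_left a ((Nat.Prime.coprime_iff_not_dvd hp.out).mpr Q.not_dvd_index)
  have hc2 : (Nat.card (P : Subgroup G)).Coprime n := by
    rw [ha]
    exact Nat.Coprime.pow_left a c.H.hcop
  have h7 : Nat.card (P : Subgroup G) ∣ Nat.card (Q : Subgroup ↥(cen g)) * p := by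
    have h8 : Nat.card (P : Subgroup G) ∣
        (Nat.card (Q : Subgroup ↥(cen g)) * p) * ((Q : Subgroup ↥(cen g)).index * n) := by
      refine dvd_trans h3 ?_
      rw [h4, h5]
      obtain ⟨d, hd⟩ := h6
      refine ⟨d, ?_⟩
      calc Nat.card (Q : Subgroup ↥(cen g)) * p * ((Q : Subgroup ↥(cen g)).index * n)
          = Nat.card (Q : Subgroup ↥(cen g)) * (Q : Subgroup ↥(cen g)).index * (p * n) := by ring
        _ = Nat.card (Q : Subgroup ↥(cen g)) * (Q : Subgroup ↥(cen g)).index *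
            ((cen g).index * d) := by rw [hd]
        _ = _ := by ring
    exact (Nat.Coprime.mul_right hc1 hc2).dvd_of_dvd_mul_right h8
  have h9 := Nat.le_of_dvd (Nat.mul_pos Nat.card_pos hp.out.pos) h7
  have h10 := c.hsq P
  have h11 : 0 < Nat.card ((P : Subgroup G) ⊓ center G : Subgroup G) := Nat.card_pos
  have h12 : 2 ≤ p := hp.out.two_le
  rw [← h2] at h9
  nlinarith

/-- a small element: `P ∩ C(y)` has index `p` in every Sylow `p`-subgroup `P` -/
theorem relIndex_small (c : Cfg G p n) (P : Sylow p G) {y : G} (hy : (cen y).index = p) :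
    (cen y).relIndex (P : Subgroup G) = p := by
  have h1 : (cen y).relIndex (P : Subgroup G) ≤ p := by
    have := relIndex_le_of_le_right (H := cen y) (le_top : (P : Subgroup G) ≤ ⊤)
      (by rw [relIndex_top_right]; exact index_ne_zero_of_finite)
    rwa [relIndex_top_right, hy] at this
  have h2 : (cen y).relIndex (P : Subgroup G) ∣ Nat.card (P : Subgroup G) := relIndex_dvd_card _ _
  obtain ⟨a, ha⟩ := IsPGroup.iff_card.mp P.2
  rw [ha] at h2
  obtain ⟨j, _, hj⟩ := (Nat.dvd_prime_pow hp.out).mp h2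
  have h3 : (cen y).relIndex (P : Subgroup G) ≠ 1 := by
    intro h
    have h4 : (P : Subgroup G) ≤ cen y := relIndex_eq_one.mp h
    have h5 := idx_of_mem_center (c.mem_center_of_sylow_le P h4)
    rw [hy] at h5
    exact hp.out.ne_one h5
  rw [hj] at h1 h3 ⊢
  rcases j with _ | _ | j
  · simp at h3
  · simp
  · exfalso
    have : p ^ 1 < p ^ (j + 1 + 1) := Nat.pow_lt_pow_right hp.out.one_lt (by omega)
    rw [pow_one] at this
    omega

theorem relIndex_inf_small (c : Cfg G p n) (P : Sylow p G) {y : G} (hy : (cen y).index = p) :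
    ((P : Subgroup G) ⊓ cen y).relIndex (P : Subgroup G) = p := by
  rw [inf_comm, inf_relIndex_right]
  exact c.relIndex_small P hy

theorem relIndex_center (c : Cfg G p n) (P : Sylow p G) :
    ((P : Subgroup G) ⊓ center G).relIndex (P : Subgroup G) = p ^ 2 := by
  have h1 := card_mul_relIndex' (inf_le_left : (P : Subgroup G) ⊓ center G ≤ (P : Subgroup G))
  rw [c.hsq P, mul_comm] at h1
  exact Nat.eq_of_mul_eq_mul_right Nat.card_pos h1

/-- the chain lemma: a subgroup of index `p` of `P` over `P ∩ Z` is generated by `P ∩ Z` and any of its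
noncentral elements -/
theorem chain (c : Cfg G p n) (P : Sylow p G) {M : Subgroup G}
    (hZM : (P : Subgroup G) ⊓ center G ≤ M) (hMP : M ≤ (P : Subgroup G))
    (hM : M.relIndex (P : Subgroup G) = p) {x : G} (hxM : x ∈ M) (hxZ : x ∉ center G)
    {K : Subgroup G} (hZK : (P : Subgroup G) ⊓ center G ≤ K) (hxK : x ∈ K) : M ≤ K := by
  have h1 := relIndex_mul_relIndex _ _ _ hZM hMP
  rw [c.relIndex_center P, hM, pow_two] at h1
  have h2 : ((P : Subgroup G) ⊓ center G).relIndex M = p :=
    Nat.eq_of_mul_eq_mul_right hp.out.pos h1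
  have h3 := relIndex_mul_relIndex _ _ _ (le_inf hZM hZK) (inf_le_left : M ⊓ K ≤ M)
  rw [h2] at h3
  have h4 : ((P : Subgroup G) ⊓ center G).relIndex (M ⊓ K) ∣ p := ⟨_, h3.symm⟩
  rcases (Nat.dvd_prime hp.out).mp h4 with h5 | h5
  · exfalso
    have h6 : M ⊓ K ≤ (P : Subgroup G) ⊓ center G := relIndex_eq_one.mp h5
    exact hxZ (h6 ⟨hxM, hxK⟩).2
  · rw [h5] at h3
    have h6 : (M ⊓ K).relIndex M = 1 := by
      have : p * (M ⊓ K).relIndex M = p * 1 := by rw [h3, mul_one]
      exact Nat.eq_of_mul_eq_mul_left hp.out.pos this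
    exact (relIndex_eq_one.mp h6).trans inf_le_right

/-- a subgroup of index `p` of `P` is maximal in `P` -/
theorem eq_or_le_of_relIndex (P : Sylow p G) {M K : Subgroup G}
    (hMK : M ≤ K) (hKP : K ≤ (P : Subgroup G)) (hM : M.relIndex (P : Subgroup G) = p) :
    K ≤ M ∨ (P : Subgroup G) ≤ K := by
  have h3 := relIndex_mul_relIndex _ _ _ hMK hKP
  rw [hM] at h3
  have h4 : M.relIndex K ∣ p := ⟨_, h3.symm⟩
  rcases (Nat.dvd_prime hp.out).mp h4 with h5 | h5
  · left
    exact relIndex_eq_one.mp h5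
  · right
    rw [h5] at h3
    have h6 : K.relIndex (P : Subgroup G) = 1 := by
      have : p * K.relIndex (P : Subgroup G) = p * 1 := by rw [h3, mul_one]
      exact Nat.eq_of_mul_eq_mul_left hp.out.pos this
    exact relIndex_eq_one.mp h6

/-- a subgroup of index `p` of `P` is normal in `P` -/
theorem conj_mem_of_relIndex (P : Sylow p G) {M : Subgroup G}
    (hM : M.relIndex (P : Subgroup G) = p) {w x : G} (hw : w ∈ (P : Subgroup G)) (hx : x ∈ M)
    (hxP : x ∈ (P : Subgroup G)) : w * x * w⁻¹ ∈ M := by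
  have h1 : (M.subgroupOf (P : Subgroup G)).index = (Nat.card (P : Subgroup G)).minFac := by
    obtain ⟨a, ha⟩ := IsPGroup.iff_card.mp P.2
    have h2 : M.relIndex (P : Subgroup G) ∣ Nat.card (P : Subgroup G) := relIndex_dvd_card _ _
    have ha0 : a ≠ 0 := by
      rintro rfl
      rw [ha, pow_zero, hM] at h2
      exact hp.out.ne_one (Nat.dvd_one.mp h2)
    rw [ha, Nat.Prime.pow_minFac hp.out ha0]
    exact hM
  have h2 : (M.subgroupOf (P : Subgroup G)).Normal := normal_of_index_eq_minFac_card h1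
  have h3 := h2.conj_mem ⟨x, hxP⟩ (mem_subgroupOf.mpr hx) ⟨w, hw⟩
  exact mem_subgroupOf.mp h3

/-- (F0) a small element has the same centralizer as its `p'`-part -/
theorem exists_regular_of_small (c : Cfg G p n) {y : G} (hy : (cen y).index = p) :
    ∃ y' : G, (orderOf y').Coprime p ∧ cen y' = cen y := by
  obtain ⟨a, b, ha, hb, hab, hap, hbp⟩ := exists_parts p y
  have h1 : cen y ≤ cen a := cen_le_of_mem_zpowers ha
  have haZ : a ∈ center G := by
    by_contra haZ
    have h2 := c.hbig a hap haZ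
    have h3 : (cen a).index ∣ (cen y).index := index_dvd_of_le h1
    rw [h2, hy] at h3
    have h4 := Nat.le_of_dvd hp.out.pos h3
    have h5 := c.H.hn
    nlinarith [hp.out.pos]
  refine ⟨b, hbp, le_antisymm ?_ (cen_le_of_mem_zpowers hb)⟩
  intro g hg
  rw [mem_cen] at hg ⊢
  rw [hab, ← mul_assoc, (mem_center_iff.mp haZ g), mul_assoc, hg, mul_assoc]

/-- (F1) -/
theorem cen_le_of_small (c : Cfg G p n) {y u : G} (hy : (cen y).index = p) (hu : u ∈ cen y)
    (hup : ∃ k : ℕ, orderOf u = p ^ k) (huZ : u ∉ center G) : cen u ≤ cen y := by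
  obtain ⟨y', hy'p, hy'⟩ := c.exists_regular_of_small hy
  rw [← hy'] at hu ⊢
  have hc : u * y' = y' * u := mem_cen.mp hu
  have hcop : (orderOf u).Coprime (orderOf y') := by
    obtain ⟨k, hk⟩ := hup
    rw [hk]
    exact Nat.Coprime.pow_left k hy'p.symm
  have h1 := cen_mul_of_coprime hc hcop
  have h2 : cen (u * y') ≤ cen u := by rw [h1]; exact inf_le_left
  have h3 : (cen u).index ∣ (cen (u * y')).index := index_dvd_of_le h2
  have h4 := c.hbig u hup huZ
  rw [h4] at h3
  have h5 : (cen (u * y')).index = p * n := by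
    rcases c.idx_cases (u * y') with h | h | h
    · rw [h] at h3
      exact absurd (Nat.dvd_one.mp h3) c.pn_ne_one
    · rw [h] at h3
      exfalso
      have h6 := Nat.le_of_dvd hp.out.pos h3
      have h7 := c.H.hn
      nlinarith [hp.out.pos]
    · exact h
  have h6 : cen (u * y') = cen u := cen_eq_of_le_of_idx_eq h2 (by rw [h4, h5])
  rw [← h6, h1]
  exact inf_le_right

/-- all elements of `C(x)` have a `p`-power in the centre, if the `p'`-elements of `C(x)` are central -/
theorem relIndex_center_cen_of_regular_central (x : G)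
    (h : ∀ a ∈ cen x, (orderOf a).Coprime p → a ∈ center G) :
    ∃ j : ℕ, (center G).relIndex (cen x) = p ^ j := by
  have h1 : IsPGroup p ((cen x).map (QuotientGroup.mk' (center G))) := by
    rintro ⟨_, g, hg, rfl⟩
    obtain ⟨a, b, ha, hb, hab, ⟨k, hk⟩, hbp⟩ := exists_parts p g
    have hbx : b ∈ cen x := zpowers_le.mpr hg hb
    have hbZ := h b hbx hbp
    refine ⟨k, ?_⟩
    apply Subtype.ext
    show (QuotientGroup.mk' (center G) g) ^ p ^ k = 1
    rw [← map_pow, QuotientGroup.mk'_apply, QuotientGroup.eq_one_iff]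
    have hcomm : Commute a b := by
      obtain ⟨i, rfl⟩ := mem_zpowers_iff.mp ha
      obtain ⟨l, rfl⟩ := mem_zpowers_iff.mp hb
      exact (Commute.refl g).zpow_zpow i l
    rw [hab, hcomm.mul_pow, ← hk, pow_orderOf_eq_one, one_mul]
    exact pow_mem hbZ _
  obtain ⟨j, hj⟩ := IsPGroup.iff_card.mp h1
  refine ⟨j, ?_⟩
  rw [← hj]
  have := relIndex_ker (cen x) (QuotientGroup.mk' (center G))
  rwa [QuotientGroup.ker_mk'] at this

/-- (E) every noncentral `p`-element commutes with a noncentral `p'`-element -/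
theorem exists_regular (c : Cfg G p n) {x : G} (hx : ∃ k : ℕ, orderOf x = p ^ k)
    (hxZ : x ∉ center G) : ∃ a ∈ cen x, (orderOf a).Coprime p ∧ a ∉ center G := by
  by_contra hcon
  push_neg at hcon
  obtain ⟨j, hj⟩ := relIndex_center_cen_of_regular_central (p := p) x hcon
  obtain ⟨y, hy⟩ := c.exists_small
  obtain ⟨y', hy'p, hy'⟩ := c.exists_regular_of_small hy
  obtain ⟨u, huy, hup, huZ⟩ := c.exists_pelt y
  have h1 : cen u ≤ cen y := c.cen_le_of_small hy huy hup huZ
  have hy'u : y' ∈ cen u := by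
    rw [← mem_cen_comm, hy']
    exact huy
  have hy'Z : y' ∉ center G := by
    intro h
    have h2 := idx_of_mem_center h
    rw [hy', hy] at h2
    exact hp.out.ne_one h2
  -- the two centralizers have the same order
  have h2 : Nat.card (cen x) = Nat.card (cen u) := by
    have e1 := card_mul_index (cen x)
    have e2 := card_mul_index (cen u)
    rw [c.hbig x hx hxZ] at e1
    rw [c.hbig u hup huZ, ← e1] at e2
    exact (Nat.eq_of_mul_eq_mul_right (Nat.mul_pos hp.out.pos (by have := c.H.hn; omega)) e2).symm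
  have h3 : (center G).relIndex (cen u) = p ^ j := by
    have e1 := card_mul_relIndex' (center_le_cen x)
    have e2 := card_mul_relIndex' (center_le_cen u)
    rw [hj, h2, ← e2] at e1
    exact (Nat.eq_of_mul_eq_mul_left Nat.card_pos e1).symm
  -- hence `y' ^ (p ^ j)` is central
  have h4 : y' ^ p ^ j ∈ center G := by
    have e1 := relIndex_ker (cen u) (QuotientGroup.mk' (center G))
    rw [QuotientGroup.ker_mk', h3] at e1
    have e2 : (QuotientGroup.mk' (center G) y') ∈ (cen u).map (QuotientGroup.mk' (center G)) :=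
      mem_map_of_mem _ hy'u
    have e3 := pow_card_eq_one' (G := ↥((cen u).map (QuotientGroup.mk' (center G))))
      (x := ⟨_, e2⟩)
    rw [← e1] at e3
    have e4 := congrArg Subtype.val e3
    simp only [SubgroupClass.coe_pow, OneMemClass.coe_one] at e4
    rw [← map_pow, QuotientGroup.mk'_apply, QuotientGroup.eq_one_iff] at e4
    exact e4
  have h5 : (p ^ j).Coprime (orderOf y') := Nat.Coprime.pow_left j hy'p.symm
  obtain ⟨m, hm⟩ := exists_pow_eq_self_of_coprime h5
  apply hy'Z
  rw [← hm]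
  exact pow_mem h4 m

/-- the orbit argument: a `p`-element `x` outside the centralizer of a small `y` is transitive on the
class of `y` -/
theorem exists_zpow_mul_mem {y x : G} (hy : (cen y).index = p)
    (hx : ∃ k : ℕ, orderOf x = p ^ k) (hxy : x ∉ cen y) (a : G) :
    ∃ j : ℤ, (x ^ j)⁻¹ * a ∈ cen y := by
  classical
  let pt : G ⧸ cen y := ((1 : G) : G ⧸ cen y)
  have hsm : ∀ g : ↥(zpowers x), g • pt = (((g : G)) : G ⧸ cen y) := by
    intro g
    show ((g : G) • ((1 : G) : G ⧸ cen y)) = _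
    rw [MulAction.Quotient.smul_coe, smul_eq_mul, mul_one]
  have h1 : (MulAction.orbit ↥(zpowers x) pt).ncard ∣ Nat.card ↥(zpowers x) := by
    rw [← MulAction.index_stabilizer]
    exact index_dvd_card _
  obtain ⟨k, hk⟩ := hx
  rw [Nat.card_zpowers, hk] at h1
  obtain ⟨i, _, hi⟩ := (Nat.dvd_prime_pow hp.out).mp h1
  have hcard : Nat.card (G ⧸ cen y) = p := hy
  have h2 : (MulAction.orbit ↥(zpowers x) pt).ncard ≤ p := by
    rw [← hcard]
    exact Set.ncard_le_card _
  have h3 : (MulAction.orbit ↥(zpowers x) pt).ncard ≠ 1 := by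
    intro h
    obtain ⟨q, hq⟩ := Set.ncard_eq_one.mp h
    have e1 : pt ∈ MulAction.orbit ↥(zpowers x) pt := MulAction.mem_orbit_self pt
    have e2 : (⟨x, mem_zpowers x⟩ : ↥(zpowers x)) • pt ∈ MulAction.orbit ↥(zpowers x) pt :=
      MulAction.mem_orbit _ _
    rw [hq, Set.mem_singleton_iff] at e1 e2
    have e3 : (⟨x, mem_zpowers x⟩ : ↥(zpowers x)) • pt = pt := e2.trans e1.symm
    rw [hsm] at e3
    have e4 := QuotientGroup.eq.mp e3
    apply hxy
    have e5 : x⁻¹ ∈ cen y := by simpa using e4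
    simpa using inv_mem e5
  have h4 : (MulAction.orbit ↥(zpowers x) pt).ncard = p := by
    rw [hi] at h2 h3 ⊢
    rcases i with _ | _ | i
    · simp at h3
    · simp
    · exfalso
      have : p ^ 1 < p ^ (i + 1 + 1) := Nat.pow_lt_pow_right hp.out.one_lt (by omega)
      rw [pow_one] at this
      omega
  have h5 : MulAction.orbit ↥(zpowers x) pt = Set.univ := by
    apply Set.eq_of_subset_of_ncard_le (Set.subset_univ _) _ Set.finite_univ
    rw [Set.ncard_univ, hcard, h4]
  have h6 : ((a : G) : G ⧸ cen y) ∈ MulAction.orbit ↥(zpowers x) pt := by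
    rw [h5]
    trivial
  obtain ⟨g, hg⟩ := MulAction.mem_orbit_iff.mp h6
  rw [hsm] at hg
  obtain ⟨j, hj⟩ := mem_zpowers_iff.mp g.2
  refine ⟨j, ?_⟩
  rw [hj]
  exact QuotientGroup.eq.mp hg

/-- (S1) every small `y` commutes with every `p'`-element of the centralizer of a noncentral
`p`-element -/
theorem mem_cen_small (c : Cfg G p n) {y x a : G} (hy : (cen y).index = p)
    (hx : ∃ k : ℕ, orderOf x = p ^ k) (hxZ : x ∉ center G) (ha : a ∈ cen x)
    (hap : (orderOf a).Coprime p) : a ∈ cen y := by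
  by_cases hxy : x ∈ cen y
  · exact c.cen_le_of_small hy hxy hx hxZ ha
  · obtain ⟨j, hj⟩ := exists_zpow_mul_mem hy hx hxy a
    have hax : Commute a x := mem_cen.mp ha
    obtain ⟨k, hk⟩ := hx
    have h1 : ((x ^ j)⁻¹ * a) ^ orderOf x = a ^ orderOf x := by
      have hcomm : Commute ((x ^ j)⁻¹) a := ((hax.zpow_right j).inv_right).symm
      rw [hcomm.mul_pow, inv_pow, ← zpow_natCast (x ^ j) (orderOf x), ← zpow_mul, mul_comm,
        zpow_mul, zpow_natCast, pow_orderOf_eq_one, one_zpow, inv_one, one_mul]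
    have h2 : a ^ orderOf x ∈ cen y := by
      rw [← h1]
      exact pow_mem hj _
    have h3 : (orderOf x).Coprime (orderOf a) := by
      rw [hk]
      exact Nat.Coprime.pow_left k hap.symm
    obtain ⟨m, hm⟩ := exists_pow_eq_self_of_coprime h3
    rw [← hm]
    exact pow_mem h2 m

theorem small_commutes_of_big_regular (c : Cfg G p n) {x a : G}
    (hx : ∃ k : ℕ, orderOf x = p ^ k) (hxZ : x ∉ center G) (ha : a ∈ cen x)
    (hap : (orderOf a).Coprime p) (hbig : (cen a).index = p * n)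
    {y : G} (hy : (cen y).index = p) : x ∈ cen y := by
  have h1 : cen x ≤ cen a := by
    intro g hg
    rw [mem_cen]
    exact c.hab x (c.hbig x hx hxZ) g hg a ha
  have h2 : cen x = cen a := cen_eq_of_le_of_idx_eq h1 (by rw [hbig, c.hbig x hx hxZ])
  have h3 : a ∈ cen y := c.mem_cen_small hy hx hxZ ha hap
  have h4 : y ∈ cen a := mem_cen_comm.mp h3
  rw [← h2] at h4
  exact mem_cen_comm.mp h4

/-- (S2) a noncentral `p'`-element commuting with a noncentral `p`-element is small -/
theorem small_of_regular (c : Cfg G p n) {x a : G} (hx : ∃ k : ℕ, orderOf x = p ^ k)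
    (hxZ : x ∉ center G) (ha : a ∈ cen x) (hap : (orderOf a).Coprime p) (haZ : a ∉ center G) :
    (cen a).index = p := by
  rcases c.idx_cases a with h | h | h
  · exact absurd (mem_center_of_idx_one h) haZ
  · exact h
  · exfalso
    obtain ⟨P, hxP⟩ := exists_sylow_of_pelt hx
    obtain ⟨y₀, hy₀⟩ := c.exists_small
    have hx0 : x ∈ cen y₀ := c.small_commutes_of_big_regular hx hxZ ha hap h hy₀
    have hMi : ((P : Subgroup G) ⊓ cen y₀).relIndex (P : Subgroup G) = p :=
      c.relIndex_inf_small P hy₀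
    have hMP : (P : Subgroup G) ⊓ cen y₀ ≤ (P : Subgroup G) := inf_le_left
    have hZM : (P : Subgroup G) ⊓ center G ≤ (P : Subgroup G) ⊓ cen y₀ :=
      inf_le_inf_left _ (center_le_cen y₀)
    have hnle : ¬ (P : Subgroup G) ≤ (P : Subgroup G) ⊓ cen y₀ := by
      intro hle
      have := relIndex_eq_one.mpr hle
      rw [hMi] at this
      exact hp.out.ne_one this
    obtain ⟨x₁, hx₁P, hx₁M⟩ := SetLike.not_le_iff_exists.mp hnle
    have hx₁Z : x₁ ∉ center G := fun hz => hx₁M (hZM ⟨hx₁P, hz⟩)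
    have hx₁p := pelt_of_mem_sylow P hx₁P
    obtain ⟨a₁, ha₁, ha₁p, ha₁Z⟩ := c.exists_regular hx₁p hx₁Z
    rcases c.idx_cases a₁ with h' | h' | h'
    · exact ha₁Z (mem_center_of_idx_one h')
    · have hxa₁ : x ∈ cen a₁ := c.small_commutes_of_big_regular hx hxZ ha hap h h'
      have h5 : (P : Subgroup G) ⊓ cen y₀ ≤ cen a₁ :=
        c.chain P hZM hMP hMi ⟨hxP, hx0⟩ hxZ (inf_le_right.trans (center_le_cen a₁)) hxa₁
      have h6 : (P : Subgroup G) ⊓ cen y₀ ≤ (P : Subgroup G) ⊓ cen a₁ := le_inf hMP h5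
      rcases eq_or_le_of_relIndex P h6 inf_le_left hMi with h7 | h7
      · exact hx₁M (h7 ⟨hx₁P, mem_cen_comm.mp ha₁⟩)
      · exact ha₁Z (c.mem_center_of_sylow_le P (h7.trans inf_le_right))
    · have := c.small_commutes_of_big_regular hx₁p hx₁Z ha₁ ha₁p h' hy₀
      exact hx₁M ⟨hx₁P, this⟩

/-- (S3) every noncentral `p'`-element is small -/
theorem small_of_regular' (c : Cfg G p n) {h : G} (hh : (orderOf h).Coprime p)
    (hZ : h ∉ center G) : (cen h).index = p := by
  obtain ⟨u, huh, hup, huZ⟩ := c.exists_pelt h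
  exact c.small_of_regular hup huZ (mem_cen_comm.mp huh) hh hZ

theorem conj_comm_of {a x w t : G} (ht : t = w⁻¹ * x * (w⁻¹)⁻¹) (h : t * a = a * t) :
    (w * a * w⁻¹) * x = x * (w * a * w⁻¹) := by
  have hx : x = w * t * w⁻¹ := by rw [ht]; group
  rw [hx]
  calc w * a * w⁻¹ * (w * t * w⁻¹) = w * (a * t) * w⁻¹ := by group
    _ = w * (t * a) * w⁻¹ := by rw [h]
    _ = _ := by group

/-- the final contradiction -/
theorem false_of_cfg (c : Cfg G p n) : False := by
  obtain ⟨P⟩ : Nonempty (Sylow p G) := inferInstance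
  obtain ⟨y₀, hy₀⟩ := c.exists_small
  obtain ⟨a0, ha0p, ha0c⟩ := c.exists_regular_of_small hy₀
  have ha0 : (cen a0).index = p := by rw [ha0c]; exact hy₀
  have hM0i : ((P : Subgroup G) ⊓ cen a0).relIndex (P : Subgroup G) = p :=
    c.relIndex_inf_small P ha0
  have hM0P : (P : Subgroup G) ⊓ cen a0 ≤ (P : Subgroup G) := inf_le_left
  have hZM0 : (P : Subgroup G) ⊓ center G ≤ (P : Subgroup G) ⊓ cen a0 :=
    inf_le_inf_left _ (center_le_cen a0)
  -- `x0 ∈ M0 \ Z`
  have hx0 : ∃ x0 ∈ (P : Subgroup G) ⊓ cen a0, x0 ∉ center G := by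
    by_contra hcon
    push_neg at hcon
    have hle : (P : Subgroup G) ⊓ cen a0 ≤ (P : Subgroup G) ⊓ center G :=
      fun g hg => ⟨hM0P hg, hcon g hg⟩
    have heq : (P : Subgroup G) ⊓ cen a0 = (P : Subgroup G) ⊓ center G := le_antisymm hle hZM0
    have h1 := c.relIndex_center P
    rw [← heq, hM0i] at h1
    have := hp.out.one_lt
    nlinarith
  obtain ⟨x0, hx0M, hx0Z⟩ := hx0
  have hx0P : x0 ∈ (P : Subgroup G) := hM0P hx0M
  -- `x1 ∈ P \ M0`
  have hnle : ¬ (P : Subgroup G) ≤ (P : Subgroup G) ⊓ cen a0 := by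
    intro hle
    have := relIndex_eq_one.mpr hle
    rw [hM0i] at this
    exact hp.out.ne_one this
  obtain ⟨x1, hx1P, hx1M⟩ := SetLike.not_le_iff_exists.mp hnle
  have hx1Z : x1 ∉ center G := fun hz => hx1M (hZM0 ⟨hx1P, hz⟩)
  have hx1p := pelt_of_mem_sylow P hx1P
  obtain ⟨a1, ha1x, ha1p, ha1Z⟩ := c.exists_regular hx1p hx1Z
  have ha1 : (cen a1).index = p := c.small_of_regular hx1p hx1Z ha1x ha1p ha1Z
  have hM1i : ((P : Subgroup G) ⊓ cen a1).relIndex (P : Subgroup G) = p :=
    c.relIndex_inf_small P ha1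
  have hx1M1 : x1 ∈ (P : Subgroup G) ⊓ cen a1 := ⟨hx1P, mem_cen_comm.mp ha1x⟩
  have hZM1 : (P : Subgroup G) ⊓ center G ≤ (P : Subgroup G) ⊓ cen a1 :=
    inf_le_inf_left _ (center_le_cen a1)
  -- `a0` and `a1` commute
  have hcomm : a1 ∈ cen a0 := c.mem_cen_small ha0 hx1p hx1Z ha1x ha1p
  have hc01 : a1 * a0 = a0 * a1 := mem_cen.mp hcomm
  -- the key claim
  have key : ∀ w ∈ (P : Subgroup G), w ∈ cen (a0 * a1) → w ∈ center G := by
    intro w hwP hwh
    have hwiP : w⁻¹ ∈ (P : Subgroup G) := inv_mem hwP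
    have e : w * (a0 * a1) = (a0 * a1) * w := mem_cen.mp hwh
    have e2 : (w * a0 * w⁻¹) * (w * a1 * w⁻¹) = a0 * a1 := by
      have : (w * a0 * w⁻¹) * (w * a1 * w⁻¹) = w * (a0 * a1) * w⁻¹ := by group
      rw [this, e]
      group
    have hcc' : a0⁻¹ * (w * a0 * w⁻¹) = a1 * (w * a1 * w⁻¹)⁻¹ := by
      rw [eq_mul_inv_iff_mul_eq, mul_assoc, e2]
      group
    -- `cc` commutes with `x0`
    have h0a : x0 * a0 = a0 * x0 := mem_cen.mp hx0M.2
    have h0b : (w * a0 * w⁻¹) * x0 = x0 * (w * a0 * w⁻¹) := by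
      have ht := conj_mem_of_relIndex P hM0i hwiP hx0M hx0P
      exact conj_comm_of rfl (mem_cen.mp ht.2)
    have hccx0 : Commute (a0⁻¹ * (w * a0 * w⁻¹)) x0 :=
      (Commute.inv_left (show Commute a0 x0 from h0a.symm)).mul_left h0b
    -- `cc` commutes with `x1`
    have h1a : x1 * a1 = a1 * x1 := mem_cen.mp hx1M1.2
    have h1b : (w * a1 * w⁻¹) * x1 = x1 * (w * a1 * w⁻¹) := by
      have ht := conj_mem_of_relIndex P hM1i hwiP hx1M1 hx1P
      exact conj_comm_of rfl (mem_cen.mp ht.2)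
    have hccx1 : Commute (a0⁻¹ * (w * a0 * w⁻¹)) x1 := by
      rw [hcc']
      exact (show Commute a1 x1 from h1a.symm).mul_left (Commute.inv_left h1b)
    -- hence `cc` is central
    have hccZ : a0⁻¹ * (w * a0 * w⁻¹) ∈ center G := by
      have h5 : (P : Subgroup G) ⊓ cen a0 ≤ cen (a0⁻¹ * (w * a0 * w⁻¹)) :=
        c.chain P hZM0 hM0P hM0i hx0M hx0Z (inf_le_right.trans (center_le_cen _))
          (mem_cen.mpr hccx0.eq.symm)
      have h6 : (P : Subgroup G) ⊓ cen a0 ≤
          (P : Subgroup G) ⊓ cen (a0⁻¹ * (w * a0 * w⁻¹)) := le_inf hM0P h5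
      rcases eq_or_le_of_relIndex P h6 inf_le_left hM0i with h7 | h7
      · exact absurd (h7 ⟨hx1P, mem_cen.mpr hccx1.eq.symm⟩) hx1M
      · exact c.mem_center_of_sylow_le P (h7.trans inf_le_right)
    -- `cc ^ orderOf w = 1`
    have hN : (a0⁻¹ * (w * a0 * w⁻¹)) ^ orderOf w = 1 := by
      have e1 : (a0⁻¹ * (w * a0 * w⁻¹)) * w = a0⁻¹ * w * (a0⁻¹)⁻¹ := by group
      have e3 : ((a0⁻¹ * (w * a0 * w⁻¹)) * w) ^ orderOf w = 1 := by
        rw [e1, conj_pow, pow_orderOf_eq_one]
        group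
      have e4 : Commute (a0⁻¹ * (w * a0 * w⁻¹)) w := (mem_center_iff.mp hccZ w).symm
      rw [e4.mul_pow, pow_orderOf_eq_one, mul_one] at e3
      exact e3
    -- `cc ^ orderOf a0 = 1`
    have hO : (a0⁻¹ * (w * a0 * w⁻¹)) ^ orderOf a0 = 1 := by
      have e1 : a0 * (a0⁻¹ * (w * a0 * w⁻¹)) = w * a0 * w⁻¹ := by group
      have e3 : (a0 * (a0⁻¹ * (w * a0 * w⁻¹))) ^ orderOf a0 = 1 := by
        rw [e1, conj_pow, pow_orderOf_eq_one]
        group
      have e4 : Commute a0 (a0⁻¹ * (w * a0 * w⁻¹)) := (mem_center_iff.mp hccZ a0)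
      rw [e4.mul_pow, pow_orderOf_eq_one, one_mul] at e3
      exact e3
    have hcc1 : a0⁻¹ * (w * a0 * w⁻¹) = 1 := by
      obtain ⟨k, hk⟩ := pelt_of_mem_sylow P hwP
      have d1 := orderOf_dvd_of_pow_eq_one hN
      have d2 := orderOf_dvd_of_pow_eq_one hO
      have hcop : (orderOf w).Coprime (orderOf a0) := by
        rw [hk]
        exact Nat.Coprime.pow_left k ha0p.symm
      have := Nat.eq_one_of_dvd_coprimes hcop d1 d2
      exact orderOf_eq_one_iff.mp this
    -- so `w` commutes with `a0` and with `a1`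
    have hwa0 : w ∈ cen a0 := by
      rw [mem_cen]
      have : w * a0 * w⁻¹ = a0 := by
        have := hcc1
        rw [inv_mul_eq_one] at this
        exact this.symm
      calc w * a0 = (w * a0 * w⁻¹) * w := by group
        _ = a0 * w := by rw [this]
    have hwa1 : w ∈ cen a1 := by
      rw [mem_cen]
      have h8 : a1 * (w * a1 * w⁻¹)⁻¹ = 1 := by rw [← hcc', hcc1]
      have : w * a1 * w⁻¹ = a1 := by
        rw [mul_inv_eq_one] at h8
        exact h8.symm
      calc w * a1 = (w * a1 * w⁻¹) * w := by group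
        _ = a1 * w := by rw [this]
    by_contra hwZ
    have h9 : (P : Subgroup G) ⊓ cen a0 ≤ (P : Subgroup G) ⊓ cen a1 :=
      c.chain P hZM0 hM0P hM0i ⟨hwP, hwa0⟩ hwZ hZM1 ⟨hwP, hwa1⟩
    rcases eq_or_le_of_relIndex P h9 inf_le_left hM0i with h7 | h7
    · exact hx1M (h7 hx1M1)
    · have := relIndex_eq_one.mpr h7
      rw [hM1i] at this
      exact hp.out.ne_one this
  -- conclusion
  by_cases hhZ : a0 * a1 ∈ center G
  · apply hx0Z
    apply key x0 hx0P
    rw [cen_eq_top_iff.mpr hhZ]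
    trivial
  · have hhp : (orderOf (a0 * a1)).Coprime p := by
      have h1 : (a0 * a1) ^ (orderOf a0 * orderOf a1) = 1 := by
        have hc : Commute a0 a1 := hc01.symm
        rw [hc.mul_pow, pow_mul, pow_orderOf_eq_one, one_pow, mul_comm (orderOf a0), pow_mul,
          pow_orderOf_eq_one, one_pow, one_mul]
      exact Nat.Coprime.coprime_dvd_left (orderOf_dvd_of_pow_eq_one h1)
        (Nat.Coprime.mul_left ha0p ha1p)
    have hh : (cen (a0 * a1)).index = p := c.small_of_regular' hhp hhZ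
    have hMh : ((P : Subgroup G) ⊓ cen (a0 * a1)).relIndex (P : Subgroup G) = p :=
      c.relIndex_inf_small P hh
    have hle : (P : Subgroup G) ⊓ cen (a0 * a1) ≤ (P : Subgroup G) ⊓ center G :=
      fun w hw => ⟨hw.1, key w hw.1 hw.2⟩
    have hdvd := relIndex_dvd_of_le_left (P : Subgroup G) hle
    rw [c.relIndex_center P, hMh] at hdvd
    have h1 := Nat.le_of_dvd hp.out.pos hdvd
    have := hp.out.one_lt
    nlinarith

end Cfg

/-- KC: the final contradiction in the case "all noncentral `p`-elements are big". -/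
theorem case_b_final {G : Type*} [Group G] [Finite G] {m n : ℕ} (H : Hyp G m n)
    (p : ℕ) [Fact p.Prime] (hmp : m = p)
    (hbig : ∀ u : G, (∃ k : ℕ, orderOf u = p ^ k) → u ∉ center G →
      (centralizer ({u} : Set G)).index = m * n)
    (hsq : ∀ P : Sylow p G,
      Nat.card (P : Subgroup G) = p ^ 2 * Nat.card ((P : Subgroup G) ⊓ center G : Subgroup G))
    (hab : ∀ g : G, (centralizer ({g} : Set G)).index = m * n →
      ∀ a ∈ centralizer ({g} : Set G), ∀ b ∈ centralizer ({g} : Set G), a * b = b * a) :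
    False := by
  subst hmp
  exact Cfg.false_of_cfg ⟨H, hbig, hsq, hab⟩

end config

end Cfsg.Agent.Lib.Helper02.CR2
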