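import Mathlib
import Cfsg.Prelude.Def_Solvable

set_option autoImplicit false

namespace Cfsg.Agent.Lib.Helper02

open Cfsg

variable {G : Type*} [Group G]

theorem fittingSubgroup_normal : (fittingSubgroup G).Normal :=
  Subgroup.sSup_normal _ fun _ hH => hH.1

theorem le_fittingSubgroup (N : Subgroup G) (hN : N.Normal) (h : Group.IsNilpotent N) :
    N ≤ fittingSubgroup G :=
  le_sSup ⟨hN, h⟩

/-- A subgroup `M` with `⁅⁅M, M⁆, M⁆ = ⊥` is nilpotent. -/
theorem isNilpotent_of_commutator_commutator_eq_bot (M : Subgroup G) (h : ⁅⁅M, M⁆, M⁆ = ⊥) :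
    Group.IsNilpotent M := by
  apply Subgroup.isNilpotent_of_lowerCentralSeries_eq_bot (n := 2)
  simpa [Subgroup.lowerCentralSeries_succ] using h

end Cfsg.Agent.Lib.Helper02
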