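import Mathlib
import Cfsg.Agent.Lib.Helper83.FrobF

/-!
# Free modules and prime action (linear part)

If `V ≠ 0` is a free module for the finite group `H` (in the sense of `HFreeOn`) and `H₀ ≤ H` is a
nontrivial subgroup all of whose fixed vectors are fixed by `H`, then `H₀ = H`.
-/

set_option autoImplicit false

namespace Cfsg.Agent.Lib.Helper02.FrobPrime

open Cfsg.Agent.Lib.Helper83.Frob

variable {k : Type*} [Field k] {V : Type*} [AddCommGroup V] [Module k V]
  {H : Type*} [Group H]

/-- linear core: a free module on which the fixed vectors of `H₀` are fixed by `H` -/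
theorem eq_top_of_free_of_fixed [FiniteDimensional k V] [Finite H] [Nontrivial V]
    (τ : Representation k H V) (hfree : HFreeOn τ ⊤) (H₀ : Subgroup H)
    (hpa : ∀ v : V, (∀ h ∈ H₀, τ h v = v) → ∀ h : H, τ h v = v) : H₀ = ⊤ := by
  classical
  obtain ⟨W, hW⟩ := hfree.isInternal
  have hind := hW.submodule_iSupIndep
  have hsup := hW.submodule_iSup_eq_top
  -- `W ≠ ⊥`
  have hWne : W ≠ ⊥ := by
    intro h0
    have : (⨆ h : H, W.map (τ h)) = ⊥ := by
      rw [h0]
      simp
    rw [hsup] at this
    exact top_ne_bot this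
  obtain ⟨w, hwW, hw0⟩ := (Submodule.ne_bot_iff W).mp hWne
  rw [eq_top_iff]
  intro h _
  by_contra hh
  haveI : Fintype H := Fintype.ofFinite H
  -- the `H₀`-orbit sum of `w`
  let v : V := ∑ j ∈ Finset.univ.filter (fun j : H => j ∈ H₀), τ j w
  have hvfix : ∀ g ∈ H₀, τ g v = v := by
    intro g hg
    simp only [v, map_sum]
    apply Finset.sum_bij (fun j _ => g * j)
    · intro j hj
      simp only [Finset.mem_filter, Finset.mem_univ, true_and] at hj ⊢
      exact H₀.mul_mem hg hj
    · intro a _ b _ hab
      exact mul_left_cancel hab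
    · intro b hb
      simp only [Finset.mem_filter, Finset.mem_univ, true_and] at hb
      refine ⟨g⁻¹ * b, ?_, by group⟩
      simp only [Finset.mem_filter, Finset.mem_univ, true_and]
      exact H₀.mul_mem (H₀.inv_mem hg) hb
    · intro j _
      rw [map_mul]
      rfl
  have hvh : τ h v = v := hpa v hvfix h
  -- the rest of `v`
  have hdisj := hind 1
  have h1 : W.map (τ 1) = W := by
    rw [map_one]
    exact Submodule.map_id W
  have hrest : ∀ g : H, g ≠ 1 → τ g w ∈ ⨆ j, ⨆ (_ : j ≠ 1), W.map (τ j) := by
    intro g hg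
    have : W.map (τ g) ≤ ⨆ j, ⨆ (_ : j ≠ 1), W.map (τ j) :=
      le_iSup₂_of_le g hg le_rfl
    exact this (Submodule.mem_map_of_mem hwW)
  have hsplit : v = w + ∑ j ∈ (Finset.univ.filter (fun j : H => j ∈ H₀)).erase 1, τ j w := by
    have h1mem : (1 : H) ∈ Finset.univ.filter (fun j : H => j ∈ H₀) := by
      simp only [Finset.mem_filter, Finset.mem_univ, true_and]
      exact H₀.one_mem
    simp only [v]
    rw [← Finset.add_sum_erase _ _ h1mem, map_one]
    rfl
  have hw : w = τ h v - ∑ j ∈ (Finset.univ.filter (fun j : H => j ∈ H₀)).erase 1, τ j w := by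
    rw [hvh]
    rw [hsplit]
    abel
  have hwrest : w ∈ ⨆ j, ⨆ (_ : j ≠ 1), W.map (τ j) := by
    rw [hw]
    apply Submodule.sub_mem
    · simp only [v, map_sum]
      apply Submodule.sum_mem
      intro j hj
      simp only [Finset.mem_filter, Finset.mem_univ, true_and] at hj
      have : τ h (τ j w) = τ (h * j) w := by
        rw [map_mul]
        rfl
      rw [this]
      apply hrest
      intro hhj
      apply hh
      have : h = j⁻¹ := eq_inv_of_mul_eq_one_left hhj
      rw [this]
      exact H₀.inv_mem hj
    · apply Submodule.sum_mem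
      intro j hj
      exact hrest j (Finset.ne_of_mem_erase hj)
  have hwW' : w ∈ W.map (τ 1) := by
    rw [h1]
    exact hwW
  have := Submodule.disjoint_def.mp hdisj w hwW' hwrest
  exact hw0 this

end Cfsg.Agent.Lib.Helper02.FrobPrime
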