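import Mathlib
import Cfsg.Agent.Lib.Helper02.FrobPrimeA

/-!
# Prime action of a Frobenius complement: abstract core

A finite group `A` acts on a finite group `N` through `φ : A →* MulAut N`; `U` is a normal nilpotent
subgroup of `A` and `K ≤ A` acts fixed-point-freely on `U`.  On the `𝔽_q`-space
`Additive N →+ ZMod q` of additive characters we assume that `U` has no nonzero fixed vector and
that every character fixed by a nonidentity element of `K` is fixed by `K`.  If a nonzero
character exists then `K` has no proper nontrivial subgroup.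
-/

set_option autoImplicit false

namespace Cfsg.Agent.Lib.Helper02.FrobPrime

open Cfsg.Agent.Lib.Helper83.Frob

variable {A N : Type*} [Group A] [Group N] (q : ℕ) [Fact q.Prime]

/-- the representation of `A` on the additive characters of `N` -/
def dualRep (φ : A →* MulAut N) : Representation (ZMod q) A (Additive N →+ ZMod q) where
  toFun a :=
    { toFun := fun χ => χ.comp (MulEquiv.toAdditive (φ a⁻¹)).toAddMonoidHom
      map_add' := fun χ₁ χ₂ => by
        ext n
        rfl
      map_smul' := fun c χ => by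
        ext n
        rfl }
  map_one' := by
    apply LinearMap.ext
    intro χ
    apply AddMonoidHom.ext
    intro n
    simp
  map_mul' a b := by
    apply LinearMap.ext
    intro χ
    apply AddMonoidHom.ext
    intro n
    simp [mul_inv_rev, map_mul]

theorem dualRep_apply (φ : A →* MulAut N) (a : A) (χ : Additive N →+ ZMod q) (n : N) :
    dualRep q φ a χ (Additive.ofMul n) = χ (Additive.ofMul (φ a⁻¹ n)) := rfl

/-- abstract core -/
theorem eq_of_primeAct_dual [Finite A] [Finite N] (φ : A →* MulAut N) (U K : Subgroup A)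
    [hUn : U.Normal] (hUnil : Group.IsNilpotent U)
    (hfpf : ∀ k ∈ K, k ≠ 1 → ∀ u ∈ U, k * u * k⁻¹ = u → u = 1)
    (hNU : ∀ χ : Additive N →+ ZMod q,
      (∀ u ∈ U, ∀ n : N, χ (Additive.ofMul (φ u n)) = χ (Additive.ofMul n)) → χ = 0)
    (hpa : ∀ k ∈ K, k ≠ 1 → ∀ χ : Additive N →+ ZMod q,
      (∀ n : N, χ (Additive.ofMul (φ k n)) = χ (Additive.ofMul n)) →
      ∀ k' ∈ K, ∀ n : N, χ (Additive.ofMul (φ k' n)) = χ (Additive.ofMul n))
    (χ₀ : Additive N →+ ZMod q) (hχ₀ : χ₀ ≠ 0)
    (K₀ : Subgroup A) (hK₀ : K₀ ≤ K) (hK₀1 : K₀ ≠ ⊥) : K₀ = K := by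
  classical
  haveI : Finite (Additive N →+ ZMod q) :=
    Finite.of_injective (fun f => (f : Additive N → ZMod q)) DFunLike.coe_injective
  haveI : Module.Finite (ZMod q) (Additive N →+ ZMod q) := Module.Finite.of_finite
  haveI : Nontrivial (Additive N →+ ZMod q) := ⟨⟨χ₀, 0, hχ₀⟩⟩
  have hCF : ∀ χ : Additive N →+ ZMod q, (∀ f ∈ U, dualRep q φ f χ = χ) → χ = 0 := by
    intro χ hχ
    apply hNU χ
    intro u hu n
    have h1 := hχ u⁻¹ (U.inv_mem hu)
    have h2 := DFunLike.congr_fun h1 (Additive.ofMul n)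
    rw [dualRep_apply, inv_inv] at h2
    exact h2
  have hfree := frobenius_free (dualRep q φ) U K hUnil hfpf hCF
  -- the subgroup `K₀` inside `K`
  have htop : K₀.subgroupOf K = ⊤ := by
    apply eq_top_of_free_of_fixed ((dualRep q φ).comp K.subtype) hfree
    intro χ hχ h
    obtain ⟨⟨k₀, hk₀⟩, hk₀1⟩ := (Subgroup.ne_bot_iff_exists_ne_one).mp
      (show K₀.subgroupOf K ≠ ⊥ by
        intro hbot
        apply hK₀1
        rw [eq_bot_iff]
        intro x hx
        have : (⟨x, hK₀ hx⟩ : K) ∈ K₀.subgroupOf K := by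
          rw [Subgroup.mem_subgroupOf]
          exact hx
        rw [hbot, Subgroup.mem_bot] at this
        rw [Subgroup.mem_bot]
        exact congrArg Subtype.val this)
    -- `χ` is fixed by `k₀⁻¹`
    have hk₀' : ((k₀ : K) : A) ≠ 1 := by
      intro h1
      apply hk₀1
      apply Subtype.ext
      apply Subtype.ext
      exact h1
    have hinv : ∀ n : N, χ (Additive.ofMul (φ (((k₀ : K) : A)⁻¹) n)) = χ (Additive.ofMul n) := by
      intro n
      have h1 := hχ k₀ hk₀
      have h2 := DFunLike.congr_fun h1 (Additive.ofMul n)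
      exact h2
    have hk₀K : (((k₀ : K) : A)⁻¹) ∈ K := K.inv_mem k₀.2
    have hk₀ne : (((k₀ : K) : A)⁻¹) ≠ 1 := by
      intro h1
      apply hk₀'
      rw [inv_eq_one] at h1
      exact h1
    have hall := hpa _ hk₀K hk₀ne χ hinv
    apply AddMonoidHom.ext
    intro n
    have := hall ((h : A)⁻¹) (K.inv_mem h.2) n.toMul
    exact this
  apply le_antisymm hK₀
  intro x hx
  have : (⟨x, hx⟩ : K) ∈ K₀.subgroupOf K := by
    rw [htop]
    trivial
  rw [Subgroup.mem_subgroupOf] at this
  exact this

end Cfsg.Agent.Lib.Helper02.FrobPrime
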