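import Mathlib
import Cfsg.Agent.Lib.Helper02.FrobPrimeB
import Cfsg.Agent.Lib.Helper32.CoprimeDecomp

/-!
# Prime action of a Frobenius complement: the concrete form in an ambient group
-/

set_option autoImplicit false

namespace Cfsg.Agent.Lib.Helper02.FrobPrime

open scoped commutatorElement

variable {G : Type*} [Group G]

/-- conjugation action of the normalizer of `N` on `N` -/
def conjAut (N : Subgroup G) : ↥(Subgroup.normalizer (N : Set G)) →* MulAut ↥N where
  toFun g :=
    { toFun := fun n => ⟨(g : G) * n * (g : G)⁻¹, (Subgroup.mem_normalizer_iff.mp g.2 n).mp n.2⟩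
      invFun := fun n => ⟨(g : G)⁻¹ * n * (g : G), by
        have := (Subgroup.mem_normalizer_iff.mp (Subgroup.inv_mem _ g.2) n).mp n.2
        simpa using this⟩
      left_inv := fun n => by
        apply Subtype.ext
        simp only
        group
      right_inv := fun n => by
        apply Subtype.ext
        simp only
        group
      map_mul' := fun a b => by
        apply Subtype.ext
        simp only [Subgroup.coe_mul]
        group }
  map_one' := by
    apply MulEquiv.ext
    intro n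
    apply Subtype.ext
    simp
  map_mul' a b := by
    apply MulEquiv.ext
    intro n
    apply Subtype.ext
    simp only [Subgroup.coe_mul, MulAut.mul_apply, MulEquiv.coe_mk, Equiv.coe_fn_mk, mul_inv_rev]
    group

theorem conjAut_apply (N : Subgroup G) (g : ↥(Subgroup.normalizer (N : Set G))) (n : ↥N) :
    ((conjAut N g n : ↥N) : G) = (g : G) * n * (g : G)⁻¹ := rfl

variable {q : ℕ}

/-- value of a character at an element of `N` -/
def ev {N : Subgroup G} (χ : Additive ↥N →+ ZMod q) (x : G) (hx : x ∈ N) : ZMod q :=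
  χ (Additive.ofMul ⟨x, hx⟩)

theorem ev_mul {N : Subgroup G} (χ : Additive ↥N →+ ZMod q) {x y : G} (hx : x ∈ N) (hy : y ∈ N) :
    ev χ (x * y) (N.mul_mem hx hy) = ev χ x hx + ev χ y hy := by
  unfold ev
  rw [← map_add]
  rfl

theorem ev_one {N : Subgroup G} (χ : Additive ↥N →+ ZMod q) : ev χ 1 N.one_mem = 0 := by
  unfold ev
  exact map_zero χ

theorem ev_inv {N : Subgroup G} (χ : Additive ↥N →+ ZMod q) {x : G} (hx : x ∈ N) :
    ev χ x⁻¹ (N.inv_mem hx) = - ev χ x hx := by
  unfold ev
  rw [← map_neg]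
  rfl

theorem ev_congr {N : Subgroup G} (χ : Additive ↥N →+ ZMod q) {x y : G} (hx : x ∈ N) (hxy : x = y) :
    ev χ x hx = ev χ y (hxy ▸ hx) := by
  subst hxy
  rfl

/-- a character invariant under `B` kills `⁅N, B⁆` -/
theorem ev_commutator_eq_zero {N B : Subgroup G} (hBN : B ≤ Subgroup.normalizer (N : Set G))
    (χ : Additive ↥N →+ ZMod q)
    (hinv : ∀ b ∈ B, ∀ n : G, ∀ hn : n ∈ N, ∀ hn' : b * n * b⁻¹ ∈ N,
      ev χ (b * n * b⁻¹) hn' = ev χ n hn) :
    ∀ x ∈ ⁅N, B⁆, ∀ hx : x ∈ N, ev χ x hx = 0 := by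
  intro x hx
  rw [Subgroup.commutator_def] at hx
  induction hx using Subgroup.closure_induction with
  | mem y hy =>
    intro hyN
    obtain ⟨a, ha, b, hb, rfl⟩ := hy
    have hb' : b * a⁻¹ * b⁻¹ ∈ N :=
      (Subgroup.mem_normalizer_iff.mp (hBN hb) a⁻¹).mp (N.inv_mem ha)
    have e : ⁅a, b⁆ = a * (b * a⁻¹ * b⁻¹) := by
      rw [commutatorElement_def]
      group
    rw [ev_congr χ hyN e, ev_mul χ ha hb', hinv b hb a⁻¹ (N.inv_mem ha) hb', ev_inv χ ha]
    exact add_neg_cancel _
  | one =>
    intro _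
    exact ev_one χ
  | mul a b _ _ iha ihb =>
    intro hab
    have hbN : b ∈ N := by
      have h1 : ⁅N, B⁆ ≤ N := Subgroup.le_normalizer_iff_commutator_le_left.mp hBN
      apply h1
      rw [Subgroup.commutator_def]
      assumption
    have haN : a ∈ N := by
      have h1 : ⁅N, B⁆ ≤ N := Subgroup.le_normalizer_iff_commutator_le_left.mp hBN
      apply h1
      rw [Subgroup.commutator_def]
      assumption
    rw [ev_mul χ haN hbN, iha haN, ihb hbN, add_zero]
  | inv a _ iha =>
    intro ha'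
    have haN : a ∈ N := by
      have := N.inv_mem ha'
      rwa [inv_inv] at this
    rw [ev_inv χ haN, iha haN, neg_zero]


/-- the stabilizer of a character under a representation-like family is closed under `zpowers` -/
theorem ev_conj_zpowers {N : Subgroup G} (χ : Additive ↥N →+ ZMod q) {k : G}
    (hk : k ∈ Subgroup.normalizer (N : Set G))
    (hinv : ∀ n : G, ∀ hn : n ∈ N, ∀ hn' : k * n * k⁻¹ ∈ N, ev χ (k * n * k⁻¹) hn' = ev χ n hn) :
    ∀ b ∈ Subgroup.zpowers k, ∀ n : G, ∀ hn : n ∈ N, ∀ hn' : b * n * b⁻¹ ∈ N,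
      ev χ (b * n * b⁻¹) hn' = ev χ n hn := by
  -- the subgroup of all elements of the normalizer leaving `χ` invariant
  let S : Subgroup G :=
    { carrier := {g | g ∈ Subgroup.normalizer (N : Set G) ∧
        ∀ n : G, ∀ hn : n ∈ N, ∀ hn' : g * n * g⁻¹ ∈ N, ev χ (g * n * g⁻¹) hn' = ev χ n hn}
      one_mem' := by
        refine ⟨Subgroup.one_mem _, ?_⟩
        intro n hn hn'
        exact (ev_congr χ hn' (by group)).trans rfl
      mul_mem' := by
        rintro a b ⟨ha, ha'⟩ ⟨hb, hb'⟩
        refine ⟨Subgroup.mul_mem _ ha hb, ?_⟩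
        intro n hn hn'
        have hbn : b * n * b⁻¹ ∈ N := (Subgroup.mem_normalizer_iff.mp hb n).mp hn
        have e : a * b * n * (a * b)⁻¹ = a * (b * n * b⁻¹) * a⁻¹ := by group
        rw [ev_congr χ hn' e, ha' _ hbn, hb' n hn]
      inv_mem' := by
        rintro a ⟨ha, ha'⟩
        refine ⟨Subgroup.inv_mem _ ha, ?_⟩
        intro n hn hn'
        have h1 := ha' (a⁻¹ * n * a⁻¹⁻¹) hn'
          (by
            have e : a * (a⁻¹ * n * a⁻¹⁻¹) * a⁻¹ = n := by group
            rw [e]
            exact hn)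
        have e : a * (a⁻¹ * n * a⁻¹⁻¹) * a⁻¹ = n := by group
        rw [ev_congr χ _ e] at h1
        exact h1.symm }
  have hkS : k ∈ S := ⟨hk, hinv⟩
  have hle : Subgroup.zpowers k ≤ S := (Subgroup.zpowers_le).mpr hkS
  intro b hb
  exact (hle hb).2

end Cfsg.Agent.Lib.Helper02.FrobPrime
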