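import Mathlib
import Cfsg.Agent.Lib.Helper02.FrobPrimeC

/-!
# Prime action of a Frobenius complement: concrete form, modulo a nonzero character
-/

set_option autoImplicit false

namespace Cfsg.Agent.Lib.Helper02.FrobPrime

open scoped commutatorElement

variable {G : Type*} [Group G]

set_option maxHeartbeats 800000 in
/-- the concrete lemma, with a nonzero character `χ₀` of `N` as a hypothesis -/
theorem eq_of_primeAct_of_char [Finite G] {q : ℕ} [Fact q.Prime] {N U K : Subgroup G}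
    (hN : IsPGroup q N)
    (hUN : U ≤ Subgroup.normalizer (N : Set G)) (hKN : K ≤ Subgroup.normalizer (N : Set G))
    (hKU : K ≤ Subgroup.normalizer (U : Set G))
    (hUnil : Group.IsNilpotent U) (hKc : ∀ a ∈ K, ∀ b ∈ K, a * b = b * a)
    (hfpf : ∀ k ∈ K, k ≠ 1 → ∀ u ∈ U, k * u * k⁻¹ = u → u = 1)
    (hNU : N ≤ ⁅N, U⁆)
    (hpa : ∀ k ∈ K, k ≠ 1 → ∀ n ∈ N, k * n * k⁻¹ = n → ∀ k' ∈ K, k' * n * k'⁻¹ = n)
    (hcop : (Nat.card N).Coprime (Nat.card K))
    (χ₀ : Additive ↥N →+ ZMod q) (hχ₀ : χ₀ ≠ 0)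
    {K₀ : Subgroup G} (hK₀ : K₀ ≤ K) (hK₀1 : K₀ ≠ ⊥) : K₀ = K := by
  classical
  set L : Subgroup G := Subgroup.normalizer (N : Set G) ⊓ Subgroup.normalizer (U : Set G) with hL
  have hUL : U ≤ L := le_inf hUN Subgroup.le_normalizer
  have hKL : K ≤ L := le_inf hKN hKU
  let φ : ↥L →* MulAut ↥N := (conjAut N).comp (Subgroup.inclusion inf_le_left)
  have hφ : ∀ (a : ↥L) (n : ↥N), ((φ a n : ↥N) : G) = (a : G) * n * (a : G)⁻¹ := fun a n => rfl
  haveI : (U.subgroupOf L).Normal :=
    (Subgroup.normal_subgroupOf_iff_le_normalizer hUL).mpr inf_le_right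
  have hUnil' : Group.IsNilpotent ↥(U.subgroupOf L) :=
    @Group.nilpotent_of_mulEquiv _ _ _ _ hUnil (Subgroup.subgroupOfEquivOfLe hUL).symm
  -- fixed-point-freeness in `L`
  have hfpf' : ∀ k ∈ K.subgroupOf L, k ≠ 1 → ∀ u ∈ U.subgroupOf L, k * u * k⁻¹ = u → u = 1 := by
    intro k hk hk1 u hu hku
    apply Subtype.ext
    apply hfpf (k : G) (Subgroup.mem_subgroupOf.mp hk) _ (u : G) (Subgroup.mem_subgroupOf.mp hu)
    · have := congrArg Subtype.val hku
      simpa using this
    · intro h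
      apply hk1
      exact Subtype.ext h
  -- no nonzero `U`-invariant character
  have hNU' : ∀ χ : Additive ↥N →+ ZMod q,
      (∀ u ∈ U.subgroupOf L, ∀ n : ↥N, χ (Additive.ofMul (φ u n)) = χ (Additive.ofMul n)) →
        χ = 0 := by
    intro χ hχ
    have hkill := ev_commutator_eq_zero hUN χ (by
      intro b hb n hn hn'
      have := hχ ⟨b, hUL hb⟩ (Subgroup.mem_subgroupOf.mpr hb) ⟨n, hn⟩
      exact this)
    apply AddMonoidHom.ext
    intro n
    have := hkill (n.toMul : ↥N).1 (hNU (n.toMul : ↥N).2) (n.toMul : ↥N).2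
    exact this
  -- prime action on characters
  have hpa' : ∀ k ∈ K.subgroupOf L, k ≠ 1 → ∀ χ : Additive ↥N →+ ZMod q,
      (∀ n : ↥N, χ (Additive.ofMul (φ k n)) = χ (Additive.ofMul n)) →
      ∀ k' ∈ K.subgroupOf L, ∀ n : ↥N, χ (Additive.ofMul (φ k' n)) = χ (Additive.ofMul n) := by
    intro k hk hk1 χ hχ k' hk' n
    have hkK : (k : G) ∈ K := Subgroup.mem_subgroupOf.mp hk
    have hk'K : (k' : G) ∈ K := Subgroup.mem_subgroupOf.mp hk'
    have hkne : (k : G) ≠ 1 := fun h => hk1 (Subtype.ext h)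
    set B : Subgroup G := Subgroup.zpowers (k : G) with hB
    have hBK : B ≤ K := (Subgroup.zpowers_le).mpr hkK
    have hBN : B ≤ Subgroup.normalizer (N : Set G) := hBK.trans hKN
    have hcopB : (Nat.card N).Coprime (Nat.card B) :=
      Nat.Coprime.coprime_dvd_right (Subgroup.card_dvd_of_le hBK) hcop
    haveI : Group.IsNilpotent ↥N := hN.isNilpotent
    have hdec := Cfsg.Agent.Lib.Helper32.le_centralizer_sup_commutator hBN hcopB
      (Or.inl inferInstance)
    -- invariance of `χ` under `B`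
    have hinvk : ∀ m : G, ∀ hm : m ∈ N, ∀ hm' : (k : G) * m * (k : G)⁻¹ ∈ N,
        ev χ ((k : G) * m * (k : G)⁻¹) hm' = ev χ m hm := by
      intro m hm hm'
      exact hχ ⟨m, hm⟩
    have hinvB := ev_conj_zpowers χ (hKN hkK) hinvk
    have hkill := ev_commutator_eq_zero hBN χ hinvB
    -- decomposition of `n`
    have hnorm : N ⊓ Subgroup.centralizer (B : Set G) ≤
        Subgroup.normalizer ((⁅N, B⁆ : Subgroup G) : Set G) :=
      inf_le_left.trans (Subgroup.normalizer_commutator_ge_left N B)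
    have hn : (n : G) ∈ ((N ⊓ Subgroup.centralizer (B : Set G)) ⊔ ⁅N, B⁆ : Subgroup G) := hdec n.2
    have hn' : (n : G) ∈ (((N ⊓ Subgroup.centralizer (B : Set G)) ⊔ ⁅N, B⁆ : Subgroup G) : Set G) := hn
    rw [Subgroup.coe_mul_of_left_le_normalizer_right _ _ hnorm] at hn'
    obtain ⟨c, hc, d, hd, hcd⟩ := Set.mem_mul.mp hn'
    have hcN : c ∈ N := hc.1
    have hdN : d ∈ N := (Subgroup.le_normalizer_iff_commutator_le_left.mp hBN) hd
    -- `c` is fixed by `k`, hence by `k'`
    have hck : (k : G) * c * (k : G)⁻¹ = c := by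
      have h1 := (Subgroup.mem_centralizer_iff.mp hc.2) (k : G) (Subgroup.mem_zpowers _)
      rw [h1]
      group
    have hck' : (k' : G) * c * (k' : G)⁻¹ = c := hpa (k : G) hkK hkne c hcN hck (k' : G) hk'K
    -- `k'` normalizes `⁅N, B⁆`
    have hk'N : (k' : G) ∈ Subgroup.normalizer (N : Set G) := hKN hk'K
    have hk'd : (k' : G) * d * (k' : G)⁻¹ ∈ ⁅N, B⁆ := by
      have hmap : (⁅N, B⁆ : Subgroup G).map (MulAut.conj (k' : G)).toMonoidHom = ⁅N, B⁆ := by
        rw [Subgroup.map_commutator]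
        congr 1
        · apply le_antisymm
          · rintro _ ⟨x, hx, rfl⟩
            exact (Subgroup.mem_normalizer_iff.mp hk'N x).mp hx
          · intro x hx
            refine ⟨(k' : G)⁻¹ * x * (k' : G), ?_, ?_⟩
            · have := (Subgroup.mem_normalizer_iff.mp (Subgroup.inv_mem _ hk'N) x).mp hx
              simpa using this
            · simp only [MulEquiv.coe_toMonoidHom, MulAut.conj_apply]
              group
        · apply le_antisymm
          · rintro _ ⟨x, hx, rfl⟩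
            have hxK : x ∈ K := hBK hx
            have : (k' : G) * x = x * (k' : G) := hKc _ hk'K _ hxK
            simp only [MulEquiv.coe_toMonoidHom, MulAut.conj_apply]
            rw [this, mul_inv_cancel_right]
            exact hx
          · intro x hx
            refine ⟨x, hx, ?_⟩
            have hxK : x ∈ K := hBK hx
            have : (k' : G) * x = x * (k' : G) := hKc _ hk'K _ hxK
            simp only [MulEquiv.coe_toMonoidHom, MulAut.conj_apply]
            rw [this, mul_inv_cancel_right]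
      rw [← hmap]
      exact ⟨d, hd, rfl⟩
    have hk'dN : (k' : G) * d * (k' : G)⁻¹ ∈ N :=
      (Subgroup.le_normalizer_iff_commutator_le_left.mp hBN) hk'd
    -- compute
    have hgoal : ev χ ((k' : G) * n * (k' : G)⁻¹)
        ((Subgroup.mem_normalizer_iff.mp hk'N n).mp n.2) = ev χ n n.2 := by
      have e1 : (k' : G) * n * (k' : G)⁻¹ = c * ((k' : G) * d * (k' : G)⁻¹) := by
        rw [← hcd]
        calc (k' : G) * (c * d) * (k' : G)⁻¹
            = ((k' : G) * c * (k' : G)⁻¹) * ((k' : G) * d * (k' : G)⁻¹) := by group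
          _ = c * ((k' : G) * d * (k' : G)⁻¹) := by rw [hck']
      rw [ev_congr χ _ e1, ev_mul χ hcN hk'dN, hkill _ hk'd hk'dN]
      rw [ev_congr χ n.2 hcd.symm, ev_mul χ hcN hdN, hkill _ hd hdN]
    exact hgoal
  have hK₀' : K₀.subgroupOf L ≤ K.subgroupOf L := by
    intro x hx
    exact Subgroup.mem_subgroupOf.mpr (hK₀ (Subgroup.mem_subgroupOf.mp hx))
  have hK₀1' : K₀.subgroupOf L ≠ ⊥ := by
    intro hbot
    apply hK₀1
    rw [eq_bot_iff]
    intro x hx
    have hxL : x ∈ L := hKL (hK₀ hx)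
    have : (⟨x, hxL⟩ : ↥L) ∈ K₀.subgroupOf L := Subgroup.mem_subgroupOf.mpr hx
    rw [hbot, Subgroup.mem_bot] at this
    rw [Subgroup.mem_bot]
    exact congrArg Subtype.val this
  have hfin := eq_of_primeAct_dual q φ (U.subgroupOf L) (K.subgroupOf L) hUnil' hfpf' hNU' hpa'
    χ₀ hχ₀ (K₀.subgroupOf L) hK₀' hK₀1'
  apply le_antisymm hK₀
  intro x hx
  have hxL : x ∈ L := hKL hx
  have : (⟨x, hxL⟩ : ↥L) ∈ K.subgroupOf L := Subgroup.mem_subgroupOf.mpr hx
  rw [← hfin] at this
  exact Subgroup.mem_subgroupOf.mp this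

end Cfsg.Agent.Lib.Helper02.FrobPrime
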