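import Cfsg.Agent.Lib.Helper16.KFam
import Cfsg.Agent.Lib.Helper16.QdStable
import Cfsg.Agent.Lib.Helper02.QdFree
import Cfsg.Agent.Lib.Helper02.PStab
import Cfsg.Agent.Lib.Helper57.KLQd

/-!
The `p`-stable part of Glauberman's `K_∞` theorem: in a `Qd(p)`-free group (`p` odd) with
`C_G(O_p(G)) ≤ O_p(G)` every term of the `K`-sequence of a Sylow `p`-subgroup lies in `O_p(G)`.
-/

set_option autoImplicit false

universe u

namespace Cfsg.Agent.Lib.Helper02.KStar

open Cfsg Cfsg.Agent.Lib.Helper16 Cfsg.Agent.Lib.Helper16.KSub Cfsg.Agent.Lib.Helper16.KComm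
open scoped commutatorElement

section basic

variable {X : Type*} [Group X]

/-- if `y` centralizes `R` and moves every element of `A` by an element of `R`, then `y ^ m`
centralizes `A` as soon as `m` kills `R` -/
theorem pow_mem_centralizer_of_chain (A R : Subgroup X) (y : X)
    (hR : y ∈ Subgroup.centralizer (R : Set X)) (hA : ∀ a ∈ A, y * a * y⁻¹ * a⁻¹ ∈ R) (m : ℕ)
    (hm : ∀ r ∈ R, r ^ m = 1) : y ^ m ∈ Subgroup.centralizer (A : Set X) := by
  rw [Subgroup.mem_centralizer_iff]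
  intro a ha
  set r := y * a * y⁻¹ * a⁻¹ with hr
  have hrR : r ∈ R := hA a ha
  have hyr : r * y = y * r := Subgroup.mem_centralizer_iff.mp hR r hrR
  have hyrn : ∀ n : ℕ, y * r ^ n * y⁻¹ = r ^ n := by
    intro n
    have : Commute y (r ^ n) := (Commute.pow_right (show Commute y r from hyr.symm) n)
    rw [this.eq, mul_inv_cancel_right]
  have key : ∀ n : ℕ, y ^ n * a * (y ^ n)⁻¹ = r ^ n * a := by
    intro n
    induction n with
    | zero => simp
    | succ n ih =>
      calc y ^ (n + 1) * a * (y ^ (n + 1))⁻¹ = y * (y ^ n * a * (y ^ n)⁻¹) * y⁻¹ := by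
            rw [pow_succ']; group
        _ = y * (r ^ n * a) * y⁻¹ := by rw [ih]
        _ = (y * r ^ n * y⁻¹) * (y * a * y⁻¹) := by group
        _ = r ^ n * (r * a) := by rw [hyrn n, hr]; group
        _ = r ^ (n + 1) * a := by rw [pow_succ]; group
  have h1 := key m
  rw [hm r hrR, one_mul] at h1
  calc a * y ^ m = (y ^ m * a * (y ^ m)⁻¹) * y ^ m := by rw [h1]
    _ = y ^ m * a := by group

end basic

section stab

variable {X : Type u} [Group X] [Finite X] {p : ℕ} [Fact p.Prime]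

/-- **stability on a normal section**: in a `Qd(p)`-free group (`p` odd) there is, for normal
subgroups `R` and `A` with `A` a `p`-group, a normal subgroup `N` containing every element acting
quadratically on `A` modulo `R`, all of whose elements have a `p`-power centralizing `A` modulo
`R`. -/
theorem exists_stab_normal (hp : p ≠ 2) (hfree : ¬ Cfsg.Involves ↥(Cfsg.qd p) X)
    (A R : Subgroup X) [A.Normal] [R.Normal] (hA : IsPGroup p ↥A) :
    ∃ N : Subgroup X, N.Normal ∧
      (∀ a : X, ⁅⁅A, Subgroup.zpowers a⁆, Subgroup.zpowers a⁆ ≤ R → a ∈ N) ∧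
      ∀ x ∈ N, ∃ k : ℕ, ⁅A, Subgroup.zpowers (x ^ p ^ k)⁆ ≤ R := by
  classical
  have hfreeQ : ¬ Cfsg.Involves ↥(Cfsg.qd p) (X ⧸ R) :=
    Cfsg.Agent.Lib.Helper57.GT.not_involves_quotient hfree R
  have hst := QdStable.stableFor_of_qd_free hp hfreeQ (⊤ : Subgroup (X ⧸ R))
  have hVn : (A.map (QuotientGroup.mk' R)).Normal :=
    Subgroup.Normal.map inferInstance _ (QuotientGroup.mk'_surjective R)
  haveI := hVn
  have hVp : IsPGroup p ↥(A.map (QuotientGroup.mk' R)) := hA.map _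
  have hker : ∀ Y : Subgroup X, Y.map (QuotientGroup.mk' R) = ⊥ ↔ Y ≤ R := by
    intro Y
    rw [← le_bot_iff, Subgroup.map_le_iff_le_comap, MonoidHom.comap_bot, QuotientGroup.ker_mk']
  have hOn : (Cfsg.pCore p ((X ⧸ R) ⧸ Subgroup.centralizer
      ((A.map (QuotientGroup.mk' R) : Subgroup (X ⧸ R)) : Set (X ⧸ R)))).Normal := ZJ.pCore_normal p
  haveI := hOn
  refine ⟨((Cfsg.pCore p ((X ⧸ R) ⧸ Subgroup.centralizer
      ((A.map (QuotientGroup.mk' R) : Subgroup (X ⧸ R)) : Set (X ⧸ R)))).comap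
        (QuotientGroup.mk' _)).comap (QuotientGroup.mk' R), inferInstance, ?_, ?_⟩
  · intro a ha
    rw [Subgroup.mem_comap, Subgroup.mem_comap]
    apply hst (A.map (QuotientGroup.mk' R)) hVp (QuotientGroup.mk' R a) (Subgroup.mem_top _)
    have h1 : ⁅⁅A.map (QuotientGroup.mk' R), Subgroup.zpowers (QuotientGroup.mk' R a)⁆,
        Subgroup.zpowers (QuotientGroup.mk' R a)⁆ =
        (⁅⁅A, Subgroup.zpowers a⁆, Subgroup.zpowers a⁆).map (QuotientGroup.mk' R) := by
      rw [Subgroup.map_commutator, Subgroup.map_commutator, MonoidHom.map_zpowers]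
    rw [h1, hker]
    exact ha
  · intro x hx
    rw [Subgroup.mem_comap, Subgroup.mem_comap] at hx
    obtain ⟨k, hk⟩ := (ZJ.pCore_isPGroup p) ⟨_, hx⟩
    refine ⟨k, ?_⟩
    have hk' : (QuotientGroup.mk' (Subgroup.centralizer
        ((A.map (QuotientGroup.mk' R) : Subgroup (X ⧸ R)) : Set (X ⧸ R)))
          (QuotientGroup.mk' R x)) ^ p ^ k = 1 := by
      have := congrArg Subtype.val hk
      rw [Subgroup.coe_pow, Subgroup.coe_one] at this
      exact this
    rw [← map_pow, ← map_pow] at hk'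
    have hmem : QuotientGroup.mk' R (x ^ p ^ k) ∈ Subgroup.centralizer
        ((A.map (QuotientGroup.mk' R) : Subgroup (X ⧸ R)) : Set (X ⧸ R)) :=
      (QuotientGroup.eq_one_iff _).mp hk'
    have h2 : ⁅A.map (QuotientGroup.mk' R), Subgroup.zpowers (QuotientGroup.mk' R (x ^ p ^ k))⁆ = ⊥ := by
      rw [Subgroup.commutator_comm, Subgroup.commutator_eq_bot_iff_le_centralizer,
        Subgroup.zpowers_le]
      exact hmem
    rw [← MonoidHom.map_zpowers, ← Subgroup.map_commutator, hker] at h2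
    exact h2

/-- an element with `p`-powers centralizing `R` and centralizing `A` modulo `R` is a `p`-element,
when `C(A) ≤ A` is a `p`-group -/
theorem exists_pow_eq_one_of_chain (A R : Subgroup X) (hA : IsPGroup p ↥A) (hRA : R ≤ A)
    (hc : Subgroup.centralizer (A : Set X) ≤ A) (x : X) (k₁ k₂ : ℕ)
    (h1 : ⁅R, Subgroup.zpowers (x ^ p ^ k₁)⁆ ≤ ⊥)
    (h2 : ⁅A, Subgroup.zpowers (x ^ p ^ k₂)⁆ ≤ R) : ∃ k : ℕ, x ^ p ^ k = 1 := by
  set y := x ^ p ^ (k₁ + k₂) with hy
  have hy1 : y ∈ Subgroup.zpowers (x ^ p ^ k₁) := by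
    rw [hy, pow_add, pow_mul]
    exact Subgroup.pow_mem _ (Subgroup.mem_zpowers _) _
  have hy2 : y ∈ Subgroup.zpowers (x ^ p ^ k₂) := by
    rw [hy, add_comm, pow_add, pow_mul]
    exact Subgroup.pow_mem _ (Subgroup.mem_zpowers _) _
  have hyR : y ∈ Subgroup.centralizer (R : Set X) := by
    have h3 : ⁅Subgroup.zpowers (x ^ p ^ k₁), R⁆ = ⊥ := by
      rw [Subgroup.commutator_comm]; exact le_bot_iff.mp h1
    exact (Subgroup.commutator_eq_bot_iff_le_centralizer.mp h3) hy1
  have hyA : ∀ a ∈ A, y * a * y⁻¹ * a⁻¹ ∈ R := by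
    intro a ha
    apply h2
    rw [Subgroup.commutator_comm]
    exact Subgroup.commutator_mem_commutator hy2 ha
  have hRp : IsPGroup p ↥R := hA.to_le hRA
  obtain ⟨i, hi⟩ := hRp.exists_card_eq
  have hm : ∀ r ∈ R, r ^ (p ^ i) = 1 := by
    intro r hr
    have : (⟨r, hr⟩ : ↥R) ^ Nat.card ↥R = 1 := pow_card_eq_one'
    rw [hi] at this
    have := congrArg Subtype.val this
    rw [Subgroup.coe_pow, Subgroup.coe_one] at this
    exact this
  have h4 := hc (pow_mem_centralizer_of_chain A R y hyR hyA (p ^ i) hm)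
  obtain ⟨j, hj⟩ := hA ⟨_, h4⟩
  have hj' : (y ^ p ^ i) ^ p ^ j = 1 := by
    have := congrArg Subtype.val hj
    rw [Subgroup.coe_pow, Subgroup.coe_one] at this
    exact this
  refine ⟨k₁ + k₂ + i + j, ?_⟩
  rw [pow_add, pow_add, pow_mul, pow_mul]
  exact hj'

/-- if every element of a generating set acts quadratically on `A` modulo `R`, the whole group acts
on `A` modulo `R` as a `p`-group -/
theorem exists_pow_comm_le (hp : p ≠ 2) (hfree : ¬ Cfsg.Involves ↥(Cfsg.qd p) X)
    (A R : Subgroup X) [A.Normal] [R.Normal] (hA : IsPGroup p ↥A) (S : Set X)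
    (hS : Subgroup.closure S = ⊤)
    (hq : ∀ a ∈ S, ⁅⁅A, Subgroup.zpowers a⁆, Subgroup.zpowers a⁆ ≤ R) (x : X) :
    ∃ k : ℕ, ⁅A, Subgroup.zpowers (x ^ p ^ k)⁆ ≤ R := by
  obtain ⟨N, hNn, hN1, hN2⟩ := exists_stab_normal hp hfree A R hA
  have hSN : Subgroup.closure S ≤ N := (Subgroup.closure_le N).mpr fun a ha => hN1 a (hq a ha)
  rw [hS] at hSN
  exact hN2 x (hSN (Subgroup.mem_top x))

/-- an element acting quadratically on `R` and on `A` modulo `R` lies in `O_p`, when `C(A) ≤ A` -/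
theorem mem_pCore_of_chain (hp : p ≠ 2) (hfree : ¬ Cfsg.Involves ↥(Cfsg.qd p) X)
    (A R : Subgroup X) [A.Normal] [R.Normal] (hA : IsPGroup p ↥A) (hRA : R ≤ A)
    (hc : Subgroup.centralizer (A : Set X) ≤ A) (a : X)
    (h1 : ⁅⁅R, Subgroup.zpowers a⁆, Subgroup.zpowers a⁆ = ⊥)
    (h2 : ⁅⁅A, Subgroup.zpowers a⁆, Subgroup.zpowers a⁆ ≤ R) : a ∈ Cfsg.pCore p X := by
  obtain ⟨N₁, hN₁n, hN₁a, hN₁b⟩ := exists_stab_normal hp hfree R ⊥ (hA.to_le hRA)
  obtain ⟨N₂, hN₂n, hN₂a, hN₂b⟩ := exists_stab_normal hp hfree A R hA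
  have hNn : (N₁ ⊓ N₂).Normal := inferInstance
  have hNp : IsPGroup p ↥(N₁ ⊓ N₂) := by
    rintro ⟨x, hx⟩
    obtain ⟨k₁, hk₁⟩ := hN₁b x hx.1
    obtain ⟨k₂, hk₂⟩ := hN₂b x hx.2
    obtain ⟨k, hk⟩ := exists_pow_eq_one_of_chain A R hA hRA hc x k₁ k₂ hk₁ hk₂
    refine ⟨k, Subtype.ext ?_⟩
    rw [Subgroup.coe_pow, Subgroup.coe_one]
    exact hk
  exact ZJ.le_pCore hNn hNp ⟨hN₁a a (le_of_eq h1), hN₂a a h2⟩

end stab

section top

variable {X : Type u} [Group X]

/-- the hypotheses on the pair `(A, B)`: `A` a normal `p`-subgroup of class at most two with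
`C(A) ≤ A`, `B` a `p`-subgroup of class at most two normalized by `A`, with `⁅Z(B), A⁆ ≤ Z(A)`, and
the test property of the lower-star family for the subgroups of `A`. -/
structure KHyp (p : ℕ) (A B : Subgroup X) : Prop where
  An : A.Normal
  Ap : IsPGroup p ↥A
  Acl : ⁅A, A⁆ ≤ Subgroup.centralizer (A : Set X)
  Ac : Subgroup.centralizer (A : Set X) ≤ A
  Bp : IsPGroup p ↥B
  Bcl : ⁅B, B⁆ ≤ Subgroup.centralizer (B : Set X)
  AB : A ≤ Subgroup.normalizer (B : Set X)
  ZB : ⁅zOf B, A⁆ ≤ zOf A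
  star : ∀ A₁ : Subgroup X, A₁ ≤ A → B ≤ Subgroup.normalizer (A₁ : Set X) →
    ⁅B, ⁅A₁, A₁⁆⁆ = ⊥ → ⁅B, A₁⁆ ≤ zOf B

/-- a finite `p`-group generated by a subgroup and one of its conjugates equals that subgroup -/
theorem eq_top_of_sup_conj_eq_top {Q : Type*} [Group Q] [Finite Q] {p : ℕ} [Fact p.Prime]
    (hQ : IsPGroup p Q) (H : Subgroup Q) (q : Q)
    (h : H ⊔ H.map (MulAut.conj q).toMonoidHom = ⊤) : H = ⊤ := by
  by_contra hH
  obtain ⟨M, hM, hHM⟩ := (eq_top_or_exists_le_coatom H).resolve_left hH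
  haveI : Group.IsNilpotent Q := hQ.isNilpotent
  have hMn : M.Normal :=
    Subgroup.NormalizerCondition.normal_of_coatom M normalizerCondition_of_isNilpotent hM
  have h2 : H.map (MulAut.conj q).toMonoidHom ≤ M := by
    calc H.map (MulAut.conj q).toMonoidHom ≤ M.map (MulAut.conj q).toMonoidHom :=
          Subgroup.map_mono hHM
      _ = M := Subgroup.Normal.map_conj_eq M q
  exact hM.1 (top_le_iff.mp (h ▸ sup_le hHM h2))

theorem quad_of_mem {V R H : Subgroup X} (h : ⁅⁅V, H⁆, H⁆ ≤ R) {s : X} (hs : s ∈ H) :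
    ⁅⁅V, Subgroup.zpowers s⁆, Subgroup.zpowers s⁆ ≤ R := by
  have h1 : Subgroup.zpowers s ≤ H := by rwa [Subgroup.zpowers_le]
  exact (Subgroup.commutator_mono (Subgroup.commutator_mono le_rfl h1) h1).trans h

theorem quad_conj {V R H : Subgroup X} [V.Normal] [R.Normal] (g : X) (h : ⁅⁅V, H⁆, H⁆ ≤ R) :
    ⁅⁅V, H.map (MulAut.conj g).toMonoidHom⁆, H.map (MulAut.conj g).toMonoidHom⁆ ≤ R := by
  have hV : V.map (MulAut.conj g).toMonoidHom = V := Subgroup.Normal.map_conj_eq V g
  have hR : R.map (MulAut.conj g).toMonoidHom = R := Subgroup.Normal.map_conj_eq R g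
  have h1 := Subgroup.map_mono (f := (MulAut.conj g).toMonoidHom) h
  rw [Subgroup.map_commutator, Subgroup.map_commutator, hV, hR] at h1
  exact h1

variable [Finite X] {p : ℕ} [Fact p.Prime]

theorem exists_pow_of_three (hp : p ≠ 2) (hfree : ¬ Cfsg.Involves ↥(Cfsg.qd p) X)
    (A B : Subgroup X) (g : X)
    (hgen : A ⊔ B ⊔ B.map (MulAut.conj g).toMonoidHom = ⊤) (V R : Subgroup X) [V.Normal]
    [R.Normal] (hV : IsPGroup p ↥V) (hA : ⁅⁅V, A⁆, A⁆ ≤ R) (hB : ⁅⁅V, B⁆, B⁆ ≤ R) (x : X) :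
    ∃ k : ℕ, ⁅V, Subgroup.zpowers (x ^ p ^ k)⁆ ≤ R := by
  apply exists_pow_comm_le hp hfree V R hV
    ((A : Set X) ∪ (B : Set X) ∪ ((B.map (MulAut.conj g).toMonoidHom : Subgroup X) : Set X))
  · rw [Subgroup.closure_union, Subgroup.closure_union, Subgroup.closure_eq, Subgroup.closure_eq,
      Subgroup.closure_eq]
    exact hgen
  · rintro a ((ha | ha) | ha)
    · exact quad_of_mem hA ha
    · exact quad_of_mem hB ha
    · exact quad_of_mem (quad_conj g hB) ha

/-- **the generated case**: if the group is generated by `A`, `B` and a conjugate of `B`, it is a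
`p`-group. -/
theorem isPGroup_of_generated (hp : p ≠ 2) (hfree : ¬ Cfsg.Involves ↥(Cfsg.qd p) X)
    {A B : Subgroup X} (h : KHyp p A B) (g : X)
    (hgen : A ⊔ B ⊔ B.map (MulAut.conj g).toMonoidHom = ⊤) : IsPGroup p X := by
  classical
  haveI := h.An
  have hA'A : ⁅A, A⁆ ≤ A := Subgroup.commutator_le_left A A
  have hA'Z : ⁅A, A⁆ ≤ zOf A := le_inf hA'A h.Acl
  have hZn : (zOf A).Normal := inferInstance
  have hZZ : ⁅zOf A, zOf A⁆ = ⊥ := by
    rw [Subgroup.commutator_eq_bot_iff_le_centralizer]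
    exact inf_le_right.trans (Subgroup.centralizer_le inf_le_left)
  have hBZ : ⁅B, zOf A⁆ ≤ zOf B :=
    h.star (zOf A) inf_le_left (le_normalizer_of_normal B (zOf A))
      (by rw [hZZ]; exact Subgroup.commutator_bot_right B)
  have hquadZ : ⁅⁅zOf A, B⁆, B⁆ = ⊥ := by
    rw [Subgroup.commutator_eq_bot_iff_le_centralizer, Subgroup.commutator_comm]
    exact hBZ.trans inf_le_right
  have hquadA' : ⁅⁅⁅A, A⁆, B⁆, B⁆ ≤ ⊥ := by
    rw [← hquadZ]
    exact Subgroup.commutator_mono (Subgroup.commutator_mono hA'Z le_rfl) le_rfl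
  have hA'Abot : ⁅⁅A, A⁆, A⁆ = ⊥ := Subgroup.commutator_eq_bot_iff_le_centralizer.mpr h.Acl
  have hAA' : ⁅⁅⁅A, A⁆, A⁆, A⁆ ≤ ⊥ := by
    rw [hA'Abot, Subgroup.commutator_bot_left]
  have hA'p : IsPGroup p ↥(⁅A, A⁆) := h.Ap.to_le hA'A
  have hpow := exists_pow_of_three hp hfree A B g hgen ⁅A, A⁆ ⊥ hA'p hAA' hquadA'
  -- the action on `A'`
  have hCn : (Subgroup.centralizer ((⁅A, A⁆ : Subgroup X) : Set X)).Normal := inferInstance
  have hQp : IsPGroup p (X ⧸ Subgroup.centralizer ((⁅A, A⁆ : Subgroup X) : Set X)) := by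
    intro q
    obtain ⟨x, rfl⟩ := QuotientGroup.mk_surjective q
    obtain ⟨k, hk⟩ := hpow x
    refine ⟨k, ?_⟩
    rw [← QuotientGroup.mk_pow, QuotientGroup.eq_one_iff]
    have h3 : ⁅Subgroup.zpowers (x ^ p ^ k), ⁅A, A⁆⁆ = ⊥ := by
      rw [Subgroup.commutator_comm]; exact le_bot_iff.mp hk
    exact (Subgroup.commutator_eq_bot_iff_le_centralizer.mp h3) (Subgroup.mem_zpowers _)
  have hAC : A ≤ Subgroup.centralizer ((⁅A, A⁆ : Subgroup X) : Set X) := by
    rw [← Subgroup.commutator_eq_bot_iff_le_centralizer, Subgroup.commutator_comm]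
    exact hA'Abot
  have hBtop : B.map (QuotientGroup.mk' (Subgroup.centralizer ((⁅A, A⁆ : Subgroup X) : Set X)))
      = ⊤ := by
    apply eq_top_of_sup_conj_eq_top hQp _
      (QuotientGroup.mk' (Subgroup.centralizer ((⁅A, A⁆ : Subgroup X) : Set X)) g)
    have h4 := congrArg (Subgroup.map
      (QuotientGroup.mk' (Subgroup.centralizer ((⁅A, A⁆ : Subgroup X) : Set X)))) hgen
    rw [Subgroup.map_sup, Subgroup.map_sup,
      Subgroup.map_top_of_surjective _ (QuotientGroup.mk'_surjective _)] at h4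
    have h5 : A.map (QuotientGroup.mk' (Subgroup.centralizer ((⁅A, A⁆ : Subgroup X) : Set X)))
        = ⊥ := by
      rw [← le_bot_iff, Subgroup.map_le_iff_le_comap, MonoidHom.comap_bot, QuotientGroup.ker_mk']
      exact hAC
    rw [h5, bot_sup_eq] at h4
    rw [← h4]
    congr 1
    ext y
    constructor
    · rintro ⟨_, ⟨b, hb, rfl⟩, rfl⟩
      exact ⟨_, ⟨b, hb, rfl⟩, by simp⟩
    · rintro ⟨_, ⟨b, hb, rfl⟩, rfl⟩
      exact ⟨_, ⟨b, hb, rfl⟩, by simp⟩
  have hfac : ∀ x : X, ∃ b ∈ B, b⁻¹ * x ∈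
      Subgroup.centralizer ((⁅A, A⁆ : Subgroup X) : Set X) := by
    intro x
    have h6 : QuotientGroup.mk' (Subgroup.centralizer ((⁅A, A⁆ : Subgroup X) : Set X)) x ∈
        B.map (QuotientGroup.mk' (Subgroup.centralizer ((⁅A, A⁆ : Subgroup X) : Set X))) := by
      rw [hBtop]; trivial
    obtain ⟨b, hb, hbx⟩ := h6
    exact ⟨b, hb, QuotientGroup.eq.mp hbx⟩
  -- `D = C_{A'}(B)` is central
  have hDcen : ∀ d ∈ ⁅A, A⁆ ⊓ Subgroup.centralizer (B : Set X), ∀ x : X, x * d = d * x := by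
    intro d hd x
    obtain ⟨b, hb, hc⟩ := hfac x
    have h7 : b * d = d * b := Subgroup.mem_centralizer_iff.mp hd.2 b hb
    have h8 : d * (b⁻¹ * x) = (b⁻¹ * x) * d := Subgroup.mem_centralizer_iff.mp hc d hd.1
    calc x * d = b * ((b⁻¹ * x) * d) := by group
      _ = b * (d * (b⁻¹ * x)) := by rw [h8]
      _ = (b * d) * (b⁻¹ * x) := by group
      _ = (d * b) * (b⁻¹ * x) := by rw [h7]
      _ = d * x := by group
  have hDn : (⁅A, A⁆ ⊓ Subgroup.centralizer (B : Set X)).Normal :=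
    ⟨fun d hd x => by rw [hDcen d hd x, mul_inv_cancel_right]; exact hd⟩
  haveI := hDn
  set D := ⁅A, A⁆ ⊓ Subgroup.centralizer (B : Set X) with hD
  set R := A ⊓ cmod A D with hR
  have hRn : R.Normal := inferInstance
  have hRA : R ≤ A := inf_le_left
  have hRAD : ⁅R, A⁆ ≤ D := (le_cmod_iff A D R).mp inf_le_right
  -- `B` is quadratic on `R`
  have hBR : ⁅B, R⁆ ≤ zOf B := by
    apply h.star R hRA (le_normalizer_of_normal B R)
    rw [Subgroup.commutator_comm, Subgroup.commutator_eq_bot_iff_le_centralizer]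
    exact ((Subgroup.commutator_mono le_rfl hRA).trans hRAD).trans inf_le_right
  have hquadR : ⁅⁅R, B⁆, B⁆ ≤ ⊥ := by
    rw [le_bot_iff, Subgroup.commutator_eq_bot_iff_le_centralizer, Subgroup.commutator_comm]
    exact hBR.trans inf_le_right
  have hAR : ⁅⁅R, A⁆, A⁆ ≤ ⊥ := by
    rw [← hA'Abot]
    exact Subgroup.commutator_mono (Subgroup.commutator_mono hRA le_rfl) le_rfl
  -- `B` is quadratic on `A / R`
  have hAB : ⁅A, B⁆ ≤ B := by
    rw [Subgroup.commutator_comm]
    exact commutator_le_left_of_normalizer h.AB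
  have hzR : A ⊓ zOf B ≤ R := by
    refine le_inf inf_le_left ((le_cmod_iff A D _).mpr ?_)
    refine le_inf (Subgroup.commutator_mono inf_le_left le_rfl) ?_
    rw [Subgroup.commutator_le]
    intro z hz c hc
    rw [Subgroup.mem_centralizer_iff]
    intro b hb
    have hzB : z ∈ Subgroup.centralizer (B : Set X) := hz.2.2
    have f1 : b * z = z * b := Subgroup.mem_centralizer_iff.mp hzB b hb
    set w := b * c * b⁻¹ * c⁻¹ with hw
    have hwB : w ∈ B := by
      have h9 : ⁅b, c⁆ ∈ ⁅B, A⁆ := Subgroup.commutator_mem_commutator hb hc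
      rw [Subgroup.commutator_comm] at h9
      exact hAB h9
    have hwA : w ∈ A := by
      have : w = (b * c * b⁻¹) * c⁻¹ := by rw [hw]
      rw [this]
      exact A.mul_mem (h.An.conj_mem c hc b) (A.inv_mem hc)
    have f2 : w * z = z * w := Subgroup.mem_centralizer_iff.mp hzB w hwB
    set u := ⁅z, c⁆ with hu
    have huA' : u ∈ ⁅A, A⁆ := Subgroup.commutator_mem_commutator hz.1 hc
    have f3 : w * u = u * w := Subgroup.mem_centralizer_iff.mp (h.Acl huA') w hwA
    have e2 : b * z * b⁻¹ = z := by rw [f1, mul_inv_cancel_right]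
    have e3 : b * c * b⁻¹ = w * c := by rw [hw]; group
    have e1 : b * u * b⁻¹ = (b * z * b⁻¹) * (b * c * b⁻¹) * (b * z * b⁻¹)⁻¹ * (b * c * b⁻¹)⁻¹ := by
      rw [hu, commutatorElement_def]; group
    rw [e2, e3] at e1
    have e4 : z * (w * c) * z⁻¹ * (w * c)⁻¹ = w * u * w⁻¹ := by
      calc z * (w * c) * z⁻¹ * (w * c)⁻¹ = (z * w) * c * z⁻¹ * c⁻¹ * w⁻¹ := by group
        _ = (w * z) * c * z⁻¹ * c⁻¹ * w⁻¹ := by rw [f2]
        _ = w * u * w⁻¹ := by rw [hu, commutatorElement_def]; group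
    rw [e4, f3, mul_inv_cancel_right] at e1
    calc b * u = (b * u * b⁻¹) * b := by group
      _ = u * b := by rw [e1]
  have hquadAR : ⁅⁅A, B⁆, B⁆ ≤ R := by
    refine le_trans (le_inf ?_ (le_inf ?_ ?_)) hzR
    · exact (Subgroup.commutator_mono (Subgroup.commutator_le_left A B) le_rfl).trans
        (Subgroup.commutator_le_left A B)
    · exact (Subgroup.commutator_mono hAB le_rfl).trans
        (commutator_le_left_of_normalizer Subgroup.le_normalizer)
    · exact (Subgroup.commutator_mono hAB le_rfl).trans h.Bcl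
  have hAAR : ⁅⁅A, A⁆, A⁆ ≤ R := by rw [hA'Abot]; exact bot_le
  have hRp : IsPGroup p ↥R := h.Ap.to_le hRA
  intro x
  obtain ⟨k₁, hk₁⟩ := exists_pow_of_three hp hfree A B g hgen R ⊥ hRp hAR hquadR x
  obtain ⟨k₂, hk₂⟩ := exists_pow_of_three hp hfree A B g hgen A R h.Ap hAAR hquadAR x
  exact exists_pow_eq_one_of_chain A R h.Ap hRA h.Ac x k₁ k₂ hk₁ hk₂

end top

section transport

variable {X : Type*} [Group X] {Y : Type*} [Group Y]

/-- the hypotheses pull back along injective homomorphisms -/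
theorem KHyp.of_map_injective {p : ℕ} (f : Y →* X) (hf : Function.Injective f)
    {A' B' : Subgroup Y} (h : KHyp p (A'.map f) (B'.map f)) : KHyp p A' B' where
  An := by
    have := h.An
    have h1 : (A'.map f).comap f = A' := Subgroup.comap_map_eq_self_of_injective hf A'
    rw [← h1]
    exact Subgroup.Normal.comap this f
  Ap := by
    have h1 : (A'.map f).comap f = A' := Subgroup.comap_map_eq_self_of_injective hf A'
    rw [← h1]
    exact h.Ap.comap_of_injective f hf
  Acl := (classTwo_map_iff hf).mp h.Acl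
  Ac := by
    intro y hy
    have h1 : f y ∈ Subgroup.centralizer ((A'.map f : Subgroup X) : Set X) := by
      rw [Subgroup.mem_centralizer_iff]
      rintro _ ⟨a, ha, rfl⟩
      rw [← map_mul, ← map_mul, Subgroup.mem_centralizer_iff.mp hy a ha]
    obtain ⟨a, ha, hay⟩ := h.Ac h1
    rw [← hf hay]
    exact ha
  Bp := by
    have h1 : (B'.map f).comap f = B' := Subgroup.comap_map_eq_self_of_injective hf B'
    rw [← h1]
    exact h.Bp.comap_of_injective f hf
  Bcl := (classTwo_map_iff hf).mp h.Bcl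
  AB := (map_le_normalizer_iff hf).mp h.AB
  ZB := by
    have h1 := h.ZB
    rw [← map_zOf hf, ← map_zOf hf, ← Subgroup.map_commutator,
      Subgroup.map_le_map_iff_of_injective hf] at h1
    exact h1
  star := by
    intro A₁ hA₁ hB hc
    have h1 := h.star (A₁.map f) (Subgroup.map_mono hA₁) ((map_le_normalizer_iff hf).mpr hB)
      (by rw [← Subgroup.map_commutator, ← Subgroup.map_commutator, hc, Subgroup.map_bot])
    rw [← map_zOf hf, ← Subgroup.map_commutator, Subgroup.map_le_map_iff_of_injective hf] at h1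
    exact h1

/-- the hypotheses are invariant under conjugation of `B` -/
theorem KHyp.conj {p : ℕ} {A B : Subgroup X} (h : KHyp p A B) (g : X) :
    KHyp p A (B.map (MulAut.conj g).toMonoidHom) := by
  have := h.An
  apply KHyp.of_map_injective (MulAut.conj g⁻¹).toMonoidHom (MulAut.conj g⁻¹).injective
  have h1 : A.map (MulAut.conj g⁻¹).toMonoidHom = A := Subgroup.Normal.map_conj_eq A g⁻¹
  have h2 : (B.map (MulAut.conj g).toMonoidHom).map (MulAut.conj g⁻¹).toMonoidHom = B := by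
    rw [Subgroup.map_map]
    have : (MulAut.conj g⁻¹).toMonoidHom.comp (MulAut.conj g).toMonoidHom = MonoidHom.id X := by
      ext x; simp; group
    rw [this, Subgroup.map_id]
  rw [h1, h2]
  exact h

end transport

section main

/-- **the core theorem**: under the hypotheses `KHyp`, in a `Qd(p)`-free group with `p` odd, the
subgroup `B` lies in `O_p`. -/
theorem le_pCore_aux {p : ℕ} [Fact p.Prime] (hp : p ≠ 2) : ∀ (n : ℕ) (X : Type u) [Group X] [Finite X],
    Nat.card X ≤ n → ¬ Cfsg.Involves ↥(Cfsg.qd p) X → ∀ A B : Subgroup X, KHyp p A B →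
      B ≤ Cfsg.pCore p X := by
  intro n
  induction n with
  | zero =>
    intro X _ _ hn
    exact absurd hn (by have := Nat.card_pos (α := X); omega)
  | succ n ih =>
    intro X _ _ hn hfree A B h
    by_contra hB
    obtain ⟨b, hbB, hbO⟩ := SetLike.not_le_iff_exists.mp hB
    have hout : ∀ N : Subgroup X, N.Normal → IsPGroup p ↥N → b ∉ N :=
      fun N hN hNp hb => hbO (ZJ.le_pCore hN hNp hb)
    obtain ⟨g, hg⟩ := Cfsg.Agent.Lib.Helper02.PStab.exists_conj_not_pGroup b hout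
    set H := A ⊔ B ⊔ B.map (MulAut.conj g).toMonoidHom with hH
    have hAH : A ≤ H := le_sup_left.trans le_sup_left
    have hBH : B ≤ H := le_sup_right.trans le_sup_left
    have hBgH : B.map (MulAut.conj g).toMonoidHom ≤ H := le_sup_right
    have hgb : g * b * g⁻¹ ∈ B.map (MulAut.conj g).toMonoidHom := ⟨b, hbB, by simp⟩
    by_cases htop : H = ⊤
    · have hXp : IsPGroup p X := isPGroup_of_generated hp hfree h g htop
      exact hg (hXp.to_subgroup _)
    · have hlt : Nat.card ↥H < Nat.card X := by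
        have h1 : Nat.card ↥H ∣ Nat.card X := Subgroup.card_subgroup_dvd_card H
        have h2 : Nat.card ↥H ≠ Nat.card X := fun he => htop ((Subgroup.card_eq_iff_eq_top H).mp he)
        exact lt_of_le_of_ne (Nat.le_of_dvd Nat.card_pos h1) h2
      have hfreeH : ¬ Cfsg.Involves ↥(Cfsg.qd p) ↥H :=
        Cfsg.Agent.Lib.Helper57.GT.not_involves_subgroup hfree H
      have hmapA : (A.subgroupOf H).map H.subtype = A := Subgroup.map_subgroupOf_eq_of_le hAH
      have hmapB : (B.subgroupOf H).map H.subtype = B := Subgroup.map_subgroupOf_eq_of_le hBH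
      have hmapBg : ((B.map (MulAut.conj g).toMonoidHom).subgroupOf H).map H.subtype =
          B.map (MulAut.conj g).toMonoidHom := Subgroup.map_subgroupOf_eq_of_le hBgH
      have h1 : KHyp p (A.subgroupOf H) (B.subgroupOf H) := by
        apply KHyp.of_map_injective H.subtype H.subtype_injective
        rw [hmapA, hmapB]; exact h
      have h2 : KHyp p (A.subgroupOf H) ((B.map (MulAut.conj g).toMonoidHom).subgroupOf H) := by
        apply KHyp.of_map_injective H.subtype H.subtype_injective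
        rw [hmapA, hmapBg]; exact h.conj g
      have h3 := ih ↥H (by omega) hfreeH _ _ h1
      have h4 := ih ↥H (by omega) hfreeH _ _ h2
      have hOp : IsPGroup p ↥((Cfsg.pCore p ↥H).map H.subtype) :=
        (ZJ.pCore_isPGroup p).map H.subtype
      have hb1 : b ∈ (Cfsg.pCore p ↥H).map H.subtype :=
        ⟨⟨b, hBH hbB⟩, h3 (Subgroup.mem_subgroupOf.mpr hbB), rfl⟩
      have hb2 : g * b * g⁻¹ ∈ (Cfsg.pCore p ↥H).map H.subtype :=
        ⟨⟨g * b * g⁻¹, hBgH hgb⟩, h4 (Subgroup.mem_subgroupOf.mpr hgb), rfl⟩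
      apply hg
      refine hOp.to_le ?_
      rw [Subgroup.closure_le]
      rintro x (rfl | rfl)
      · exact hb1
      · exact hb2

theorem le_pCore {X : Type u} [Group X] [Finite X] {p : ℕ} [Fact p.Prime] (hp : p ≠ 2)
    (hfree : ¬ Cfsg.Involves ↥(Cfsg.qd p) X) {A B : Subgroup X} (h : KHyp p A B) :
    B ≤ Cfsg.pCore p X :=
  le_pCore_aux hp (Nat.card X) X le_rfl hfree A B h

end main

end Cfsg.Agent.Lib.Helper02.KStar
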