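import Cfsg.Agent.Lib.Helper02.KStar
import Cfsg.Agent.Lib.Helper16.KInfCtl
import Cfsg.Agent.Lib.Helper32.Coprime

/-!
In a `Qd(p)`-free group (`p` odd) with `C_G(O_p(G)) ≤ O_p(G)` all terms of the `K`-sequence of a
Sylow `p`-subgroup lie in `O_p(G)`; hence `K_∞(S)` and `K^∞(S)` are normal.
-/

set_option autoImplicit false

universe u

namespace Cfsg.Agent.Lib.Helper02.KStar

open Cfsg Cfsg.Agent.Lib.Helper16 Cfsg.Agent.Lib.Helper16.KSub Cfsg.Agent.Lib.Helper16.KComm
  Cfsg.Agent.Lib.Helper41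
open scoped commutatorElement

section crit

variable {G : Type u} [Group G] [Finite G] {p : ℕ} [Fact p.Prime]

/-- a critical-type subgroup `A` of `T = O_p(G)` is self-centralizing in `G` when
`C_G(T) ≤ T` -/
theorem centralizer_critical_le
    (hc : Subgroup.centralizer ((Cfsg.pCore p G : Subgroup G) : Set G) ≤ Cfsg.pCore p G)
    (A : Subgroup G) [A.Normal] (hAT : A ≤ Cfsg.pCore p G)
    (hA4 : Cfsg.pCore p G ⊓ Subgroup.centralizer (A : Set G) ≤ A) :
    Subgroup.centralizer (A : Set G) ≤ A := by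
  classical
  have hpp : p.Prime := Fact.out
  have hTn : (Cfsg.pCore p G).Normal := ZJ.pCore_normal p
  have hTp : IsPGroup p ↥(Cfsg.pCore p G) := ZJ.pCore_isPGroup p
  haveI := hTn
  have hCn : (Subgroup.centralizer (A : Set G)).Normal := inferInstance
  have hCp : IsPGroup p ↥(Subgroup.centralizer (A : Set G)) := by
    rintro ⟨x, hx⟩
    obtain ⟨e, m, hm, hn⟩ := Nat.exists_eq_pow_mul_and_not_dvd (orderOf_pos x).ne' p hpp.ne_one
    set y := x ^ p ^ e with hy
    have hyC : y ∈ Subgroup.centralizer (A : Set G) := Subgroup.pow_mem _ hx _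
    have hym : y ^ m = 1 := by
      rw [hy, ← pow_mul, ← hn, pow_orderOf_eq_one]
    have hYC : Subgroup.zpowers y ≤ Subgroup.centralizer (A : Set G) := by
      rwa [Subgroup.zpowers_le]
    have hcop : (Nat.card ↥(Subgroup.zpowers y)).Coprime (Nat.card ↥(Cfsg.pCore p G)) := by
      obtain ⟨k, hk⟩ := hTp.exists_card_eq
      rw [hk, Nat.card_zpowers]
      apply Nat.Coprime.pow_right
      apply Nat.Coprime.coprime_dvd_left (orderOf_dvd_of_pow_eq_one hym)
      exact ((Nat.Prime.coprime_iff_not_dvd hpp).mpr hm).symm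
    have h1 : ⁅Cfsg.pCore p G, Subgroup.zpowers y⁆ ≤ A ⊓ Subgroup.centralizer (A : Set G) := by
      have h2 : ⁅Cfsg.pCore p G, Subgroup.zpowers y⁆ ≤
          Cfsg.pCore p G ⊓ Subgroup.centralizer (A : Set G) :=
        (Subgroup.commutator_mono le_rfl hYC).trans (Subgroup.commutator_le_inf _ _)
      exact le_inf (h2.trans hA4) (h2.trans inf_le_right)
    have h2 : A ⊓ Subgroup.centralizer (A : Set G) ≤
        Subgroup.centralizer ((Subgroup.zpowers y : Subgroup G) : Set G) :=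
      inf_le_left.trans (Subgroup.le_centralizer_iff.mp hYC)
    have h3 := Cfsg.Agent.Lib.Helper32.le_centralizer_of_stable (Cfsg.pCore p G)
      (A ⊓ Subgroup.centralizer (A : Set G)) (Subgroup.zpowers y) h1 h2
      (inf_le_left.trans hAT) hcop
    have hyT : y ∈ Cfsg.pCore p G :=
      hc ((Subgroup.le_centralizer_iff.mp h3) (Subgroup.mem_zpowers y))
    obtain ⟨j, hj⟩ := hTp ⟨y, hyT⟩
    have hj' : y ^ p ^ j = 1 := by
      have := congrArg Subtype.val hj
      rw [Subgroup.coe_pow, Subgroup.coe_one] at this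
      exact this
    have hy1 : y = 1 := by
      have h4 : orderOf y ∣ m := orderOf_dvd_of_pow_eq_one hym
      have h5 : orderOf y ∣ p ^ j := orderOf_dvd_of_pow_eq_one hj'
      have h6 : (m).Coprime (p ^ j) :=
        Nat.Coprime.pow_right _ ((Nat.Prime.coprime_iff_not_dvd hpp).mpr hm).symm
      exact orderOf_eq_one_iff.mp (Nat.eq_one_of_dvd_coprimes h6 h4 h5)
    refine ⟨e, Subtype.ext ?_⟩
    rw [Subgroup.coe_pow, Subgroup.coe_one]
    exact hy1
  have hCT : Subgroup.centralizer (A : Set G) ≤ Cfsg.pCore p G := ZJ.le_pCore hCn hCp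
  exact (le_inf hCT le_rfl).trans hA4

end crit

section kseq

variable {G : Type u} [Group G] [Finite G] {p : ℕ} [Fact p.Prime]

/-- one step of the family analysis -/
theorem kseq_step (hp : p ≠ 2) (hfree : ¬ Cfsg.Involves ↥(Cfsg.qd p) G) (S : Sylow p G)
    (A : Subgroup G) [A.Normal] (hAT : A ≤ Cfsg.pCore p G)
    (hA3 : ⁅Cfsg.pCore p G, A⁆ ≤ A ⊓ Subgroup.centralizer (A : Set G))
    (hAc : Subgroup.centralizer (A : Set G) ≤ A) (n : ℕ)
    (hAO : A ≤ oSeq (S : Subgroup G) n) :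
    lowerIn (S : Subgroup G) (oSeq (S : Subgroup G) n) ≤ Cfsg.pCore p G ∧
      oSeq (S : Subgroup G) (n + 1) ≤ Cfsg.pCore p G := by
  classical
  have hTS : Cfsg.pCore p G ≤ (S : Subgroup G) := ZJ.pCore_le_sylow S
  have hSp : IsPGroup p ↥(S : Subgroup G) := S.isPGroup'
  have hAS : A ≤ (S : Subgroup G) := hAT.trans hTS
  have hAp : IsPGroup p ↥A := hSp.to_le hAS
  set Z := A ⊓ Subgroup.centralizer (A : Set G) with hZ
  have hZn : Z.Normal := inferInstance
  have hZA : Z ≤ A := inf_le_left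
  have hZab : ⁅Z, Z⁆ = ⊥ := by
    rw [Subgroup.commutator_eq_bot_iff_le_centralizer]
    exact inf_le_right.trans (Subgroup.centralizer_le inf_le_left)
  have hZc : IsMulCommutative ↥Z := Subgroup.commutator_self_eq_bot_iff.mp hZab
  have key0 : ∀ Y : Subgroup G, Y ≤ Cfsg.pCore p G → ⁅A, Y⁆ ≤ Z := by
    intro Y hY
    rw [Subgroup.commutator_comm]
    exact (Subgroup.commutator_mono hY le_rfl).trans hA3
  have hAcl : ⁅A, A⁆ ≤ Subgroup.centralizer (A : Set G) := (key0 A hAT).trans inf_le_right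
  have hAAA : ⁅⁅A, A⁆, A⁆ = ⊥ := Subgroup.commutator_eq_bot_iff_le_centralizer.mpr hAcl
  have hZAbot : ⁅Z, A⁆ = ⊥ := by
    rw [Subgroup.commutator_eq_bot_iff_le_centralizer]; exact inf_le_right
  -- elements acting quadratically on `A` lie in `O_p`
  have quadA : ∀ Y : Subgroup G, ⁅⁅A, Y⁆, Y⁆ = ⊥ → Y ≤ Cfsg.pCore p G := by
    intro Y hY y hy
    apply mem_pCore_of_chain hp hfree A A hAp le_rfl hAc y
    · rw [eq_bot_iff, ← hY]; exact quad_of_mem le_rfl hy
    · exact (Subgroup.commutator_mono (Subgroup.commutator_le_left A _) le_rfl).trans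
        (Subgroup.commutator_le_left A _)
  have hlow : lowerIn (S : Subgroup G) (oSeq (S : Subgroup G) n) ≤ Cfsg.pCore p G := by
    unfold lowerIn
    rw [sSup_le_iff]
    rintro B ⟨⟨hBcl, hBnorm, hBcond⟩, hBS⟩
    have hAB : A ≤ Subgroup.normalizer (B : Set G) := hAO.trans hBnorm
    have hABB : ⁅A, B⁆ ≤ B := by
      rw [Subgroup.commutator_comm]; exact commutator_le_left_of_normalizer hAB
    have hzB : zOf B ≤ Cfsg.pCore p G := by
      apply quadA
      rw [eq_bot_iff]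
      calc ⁅⁅A, zOf B⁆, zOf B⁆ ≤ ⁅B, zOf B⁆ :=
            Subgroup.commutator_mono ((Subgroup.commutator_mono le_rfl inf_le_left).trans hABB) le_rfl
        _ = ⊥ := by
            rw [Subgroup.commutator_comm, Subgroup.commutator_eq_bot_iff_le_centralizer]
            exact inf_le_right
    have hZBA : ⁅zOf B, A⁆ ≤ zOf A := by
      rw [Subgroup.commutator_comm]; exact key0 _ hzB
    apply le_pCore hp hfree (A := A)
    refine ⟨inferInstance, hAp, hAcl, hAc, hSp.to_le hBS, hBcl, hAB, hZBA, ?_⟩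
    intro A₁ hA₁ hB hc
    apply hBcond A₁ _ (hA₁.trans hAO) hB hc
    · rw [eq_bot_iff, ← hZAbot]
      exact Subgroup.commutator_mono
        ((Subgroup.commutator_mono le_rfl hA₁).trans hZBA) hA₁
    · show ⁅A₁, A₁⁆ ≤ Subgroup.centralizer (A₁ : Set G)
      exact ((Subgroup.commutator_mono hA₁ hA₁).trans hAcl).trans (Subgroup.centralizer_le hA₁)
  refine ⟨hlow, ?_⟩
  show upperIn (S : Subgroup G) (lowerIn (S : Subgroup G) (oSeq (S : Subgroup G) n)) ≤ _
  unfold upperIn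
  rw [sSup_le_iff]
  rintro B ⟨⟨hBcl, hBE⟩, hBS⟩
  have hZE : Z ≤ lowerIn (S : Subgroup G) (oSeq (S : Subgroup G) n) :=
    le_sSup ⟨normal_abelian_mem_lower Z hZc (oSeq (S : Subgroup G) n), hZA.trans hAS⟩
  by_cases hAl : A ∈ kLowerStarFamily (oSeq (S : Subgroup G) n)
  · have hAE : A ≤ lowerIn (S : Subgroup G) (oSeq (S : Subgroup G) n) := le_sSup ⟨hAl, hAS⟩
    apply quadA
    rw [Subgroup.commutator_eq_bot_iff_le_centralizer, Subgroup.commutator_comm]
    exact ((Subgroup.commutator_mono le_rfl hAE).trans hBE).trans inf_le_right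
  · exfalso
    have hAl' : ¬ (A ∈ classTwoSubgroups G ∧
        oSeq (S : Subgroup G) n ≤ Subgroup.normalizer (A : Set G) ∧
        ∀ A₁ ∈ classTwoSubgroups G, A₁ ≤ oSeq (S : Subgroup G) n →
          A ≤ Subgroup.normalizer (A₁ : Set G) →
          ⁅A, ⁅A₁, A₁⁆⁆ = ⊥ → ⁅⁅Z, A₁⁆, A₁⁆ = ⊥ → ⁅A, A₁⁆ ≤ Z) := hAl
    push Not at hAl'
    obtain ⟨A₁, hA₁cl, hA₁O, hAA₁, hAA₁', hZA₁, hnot⟩ :=
      hAl' hAcl (le_normalizer_of_normal _ A)
    apply hnot
    apply key0
    intro a₁ ha₁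
    apply mem_pCore_of_chain hp hfree A Z hAp hZA hAc a₁
    · rw [eq_bot_iff, ← hZA₁]; exact quad_of_mem le_rfl ha₁
    · apply quad_of_mem _ ha₁
      have h1 : ⁅A, A₁⁆ ≤ A₁ := by
        rw [Subgroup.commutator_comm]; exact commutator_le_left_of_normalizer hAA₁
      have h2 : ⁅⁅A, A₁⁆, A₁⁆ ≤ A :=
        (Subgroup.commutator_mono (Subgroup.commutator_le_left A A₁) le_rfl).trans
          (Subgroup.commutator_le_left A A₁)
      have h3 : ⁅⁅A, A₁⁆, A₁⁆ ≤ Subgroup.centralizer (A : Set G) := by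
        refine (Subgroup.commutator_mono h1 le_rfl).trans ?_
        rw [← Subgroup.commutator_eq_bot_iff_le_centralizer, Subgroup.commutator_comm]
        exact hAA₁'
      exact le_inf h2 h3

/-- **all terms of the `K`-sequence lie in `O_p(G)`** for a `Qd(p)`-free group with
`C_G(O_p(G)) ≤ O_p(G)`, `p` odd. -/
theorem kseq_le_pCore (hp : p ≠ 2) (hfree : ¬ Cfsg.Involves ↥(Cfsg.qd p) G)
    (hc : Subgroup.centralizer ((Cfsg.pCore p G : Subgroup G) : Set G) ≤ Cfsg.pCore p G)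
    (S : Sylow p G) (n : ℕ) :
    lowerIn (S : Subgroup G) (oSeq (S : Subgroup G) n) ≤ Cfsg.pCore p G ∧
      oSeq (S : Subgroup G) (n + 1) ≤ Cfsg.pCore p G := by
  have hTn : (Cfsg.pCore p G).Normal := ZJ.pCore_normal p
  have hTp : IsPGroup p ↥(Cfsg.pCore p G) := ZJ.pCore_isPGroup p
  haveI := hTn
  have hTS : Cfsg.pCore p G ≤ (S : Subgroup G) := ZJ.pCore_le_sylow S
  obtain ⟨A, hAn, hAT, hA3, hA4⟩ := exists_critical (Cfsg.pCore p G) hTp
  haveI := hAn
  have hAc := centralizer_critical_le hc A hAT hA4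
  have hAcl : A ∈ classTwoSubgroups G := by
    show ⁅A, A⁆ ≤ _
    exact ((Subgroup.commutator_mono hAT le_rfl).trans hA3).trans inf_le_right
  have hall : ∀ m, A ≤ oSeq (S : Subgroup G) m := by
    intro m
    induction m with
    | zero => exact hAT.trans hTS
    | succ m ih =>
      have h1 := (kseq_step hp hfree S A hAT hA3 hAc m ih).1
      refine le_sSup ⟨⟨hAcl, ?_⟩, hAT.trans hTS⟩
      rw [Subgroup.commutator_comm]
      exact (Subgroup.commutator_mono h1 le_rfl).trans hA3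
  exact kseq_step hp hfree S A hAT hA3 hAc n (hall n)

/-- `K_∞(S)` is normal -/
theorem kInfLower_normal (hp : p ≠ 2) (hfree : ¬ Cfsg.Involves ↥(Cfsg.qd p) G)
    (hc : Subgroup.centralizer ((Cfsg.pCore p G : Subgroup G) : Set G) ≤ Cfsg.pCore p G)
    (S : Sylow p G) : (Cfsg.inducedFunctor Cfsg.kInfLower (S : Subgroup G)).Normal := by
  haveI : (Cfsg.pCore p G).Normal := ZJ.pCore_normal p
  exact kInf_normal_of_le S (Cfsg.pCore p G) (ZJ.pCore_le_sylow S) (kseq_le_pCore hp hfree hc S)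

/-- `K^∞(S)` is normal -/
theorem kInfUpper_normal (hp : p ≠ 2) (hfree : ¬ Cfsg.Involves ↥(Cfsg.qd p) G)
    (hc : Subgroup.centralizer ((Cfsg.pCore p G : Subgroup G) : Set G) ≤ Cfsg.pCore p G)
    (S : Sylow p G) : (Cfsg.inducedFunctor Cfsg.kInfUpper (S : Subgroup G)).Normal := by
  haveI : (Cfsg.pCore p G).Normal := ZJ.pCore_normal p
  exact kInfUpper_normal_of_le S (Cfsg.pCore p G) (ZJ.pCore_le_sylow S)
    (kseq_le_pCore hp hfree hc S)

end kseq

end Cfsg.Agent.Lib.Helper02.KStar
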