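import Cfsg.Agent.Lib.Helper02.KStar2
import Cfsg.Agent.Lib.Helper02.SecCtl

/-!
Control of strong fusion by an isomorphism-invariant functor that is normal in all constrained
`Qd(p)`-free groups; applied to `K_∞` and `K^∞`.
-/

set_option autoImplicit false

universe u

namespace Cfsg.Agent.Lib.Helper02.KStar

open Cfsg

/-- a functor that is normal in every `Qd(p)`-free group with `C(O_p) ≤ O_p` controls strong fusion
in every `Qd(p)`-free group -/
theorem controlsStrongFusion_of_free {G : Type u} [Group G] [Finite G] {p : ℕ} [Fact p.Prime]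
    (hfree : ¬ Cfsg.Involves ↥(Cfsg.qd p) G)
    (W : ∀ (Q : Type u) [Group Q], Subgroup Q) (hW : Cfsg.IsCharPFunctor.{u} p W)
    (hnorm : ∀ (X : Type u) [Group X] [Finite X], ¬ Cfsg.Involves ↥(Cfsg.qd p) X →
      Subgroup.centralizer ((Cfsg.pCore p X : Subgroup X) : Set X) ≤ Cfsg.pCore p X →
      ∀ T : Sylow p X, (Cfsg.inducedFunctor W (T : Subgroup X)).Normal)
    (S : Sylow p G) : Cfsg.ControlsStrongFusion p (Cfsg.inducedFunctor W (S : Subgroup G)) := by
  classical
  refine ⟨S, ?_, fun A hA => ⟨hA, fun g hg => ?_⟩⟩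
  · show (W ↥(S : Subgroup G)).map (S : Subgroup G).subtype ≤ _
    exact Subgroup.map_subtype_le _
  · have hloc : ∀ (K R : Subgroup G) [hR : (R.subgroupOf K).Normal],
        Subgroup.centralizer ((Cfsg.pCore p (↥K ⧸ R.subgroupOf K) :
          Subgroup (↥K ⧸ R.subgroupOf K)) : Set (↥K ⧸ R.subgroupOf K)) ≤
            Cfsg.pCore p (↥K ⧸ R.subgroupOf K) →
        ∃ T : Sylow p (↥K ⧸ R.subgroupOf K),
          (Cfsg.inducedFunctor (G := (↥K ⧸ R.subgroupOf K)) W
            ((T : Subgroup (↥K ⧸ R.subgroupOf K)))).Normal := by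
      intro K R hR hcon
      obtain ⟨T⟩ : Nonempty (Sylow p (↥K ⧸ R.subgroupOf K)) := inferInstance
      exact ⟨T, hnorm _ (Cfsg.Agent.Lib.Helper02.QdFree.not_involves_section hfree K R) hcon T⟩
    have hg' : (fun a => (g⁻¹)⁻¹ * a * g⁻¹) '' A ⊆ ((S : Subgroup G) : Set G) := by
      simpa using hg
    obtain ⟨n, hn, hna⟩ := Cfsg.Agent.Lib.Helper02.SecCtl.controls_of_normal_in_sections W hW
      hloc S A hA g⁻¹ hg'
    refine ⟨n⁻¹, Subgroup.inv_mem _ hn, fun a ha => ?_⟩
    have := hna a ha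
    rw [inv_inv] at this ⊢
    exact this.symm

end Cfsg.Agent.Lib.Helper02.KStar
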