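import Mathlib

/-!
Keystone K-Nd-B: positive multisets of naturals with equal sums of `min a k` for all `k`
are equal.
-/

namespace Cfsg.Agent.Lib.Helper02.Nd

theorem sum_min_succ_aux (μ : Multiset ℕ) (k : ℕ) :
    (μ.map (fun a => min a (k + 1))).sum
      = (μ.map (fun a => min a k)).sum + μ.countP (fun a => k < a) := by
  induction μ using Multiset.induction_on with
  | empty => simp
  | cons a s ih =>
    rw [Multiset.map_cons, Multiset.sum_cons, Multiset.map_cons, Multiset.sum_cons,
      Multiset.countP_cons, ih]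
    by_cases hka : k < a
    · rw [if_pos hka]
      have h1 : min a (k + 1) = k + 1 := by omega
      have h2 : min a k = k := by omega
      rw [h1, h2]; ring
    · rw [if_neg hka]
      have h1 : min a (k + 1) = a := by omega
      have h2 : min a k = a := by omega
      rw [h1, h2]; ring

theorem countP_lt_succ_aux (μ : Multiset ℕ) (k : ℕ) :
    μ.countP (fun a => k < a) = μ.countP (fun a => k + 1 < a) + μ.count (k + 1) := by
  induction μ using Multiset.induction_on with
  | empty => simp
  | cons a s ih =>
    rw [Multiset.countP_cons, Multiset.countP_cons, Multiset.count_cons, ih]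
    by_cases h1 : k + 1 < a
    · have h2 : k < a := by omega
      have h3 : ¬ (k + 1 = a) := by omega
      rw [if_pos h1, if_pos h2, if_neg h3]; ring
    · by_cases h2 : k < a
      · have h3 : k + 1 = a := by omega
        rw [if_neg h1, if_pos h2, if_pos h3]; ring
      · have h3 : ¬ (k + 1 = a) := by omega
        rw [if_neg h1, if_neg h2, if_neg h3]; ring

theorem eq_of_sum_min_eq (μ μ' : Multiset ℕ)
    (hμ : ∀ a ∈ μ, 0 < a) (hμ' : ∀ a ∈ μ', 0 < a)
    (h : ∀ k : ℕ, (μ.map (fun a => min a k)).sum = (μ'.map (fun a => min a k)).sum) :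
    μ = μ' := by
  classical
  have hc : ∀ k : ℕ, μ.countP (fun a => k < a) = μ'.countP (fun a => k < a) := by
    intro k
    have h1 := sum_min_succ_aux μ k
    have h2 := sum_min_succ_aux μ' k
    have h3 := h k
    have h4 := h (k + 1)
    omega
  rw [Multiset.ext]
  intro a
  rcases Nat.eq_zero_or_pos a with rfl | ha
  · rw [Multiset.count_eq_zero.mpr (fun h0 => lt_irrefl 0 (hμ 0 h0)),
      Multiset.count_eq_zero.mpr (fun h0 => lt_irrefl 0 (hμ' 0 h0))]
  · obtain ⟨k, rfl⟩ : ∃ k, a = k + 1 := ⟨a - 1, by omega⟩
    have h1 := countP_lt_succ_aux μ k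
    have h2 := countP_lt_succ_aux μ' k
    have h3 := hc k
    have h4 := hc (k + 1)
    omega

end Cfsg.Agent.Lib.Helper02.Nd
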