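import Mathlib
import Cfsg.Prelude.Def_GeometricClasses
import Cfsg.Agent.Lib.Helper19.OEvenType
import Cfsg.Agent.Lib.Helper19.OEvenXX5
import Cfsg.Agent.Lib.Helper66.OPlus10X13

/-! Keystone K-O12-S34b (587122): `q` odd, `Q` of plus type on `F^12`, polar form a tensor product
`c • f₁ ⊗ f₂` of symmetric forms on `F^3` and `F^4`: then `f₂` is of plus type. -/

set_option autoImplicit false
set_option linter.unusedSimpArgs false
set_option linter.unusedVariables false
set_option linter.unusedSectionVars false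

namespace Cfsg.Agent.Lib.Helper02.O12

open Cfsg Cfsg.Geo Module QuadraticMap
open scoped Matrix Kronecker MatrixGroups

variable {F : Type*} [Field F]

theorem polar_diag_of_symm {k : ℕ} (f : (Fin k → F) → (Fin k → F) → F) (hf : IsSymmetricForm f)
    (u v : Fin k → F) : polar (fun w : Fin k → F => f w w) u v = 2 * f u v := by
  unfold polar
  show f (u + v) (u + v) - f u u - f v v = 2 * f u v
  rw [hf.bilinear.add_left, hf.bilinear.add_right, hf.bilinear.add_right, hf.symm v u]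
  ring

theorem quad_diag_of_symm (h2 : (2 : F) ≠ 0) {k : ℕ} (f : (Fin k → F) → (Fin k → F) → F)
    (hf : IsSymmetricForm f) : IsNondegenerateQuadraticForm (fun w : Fin k → F => f w w) := by
  have hp : polar (fun w : Fin k → F => f w w) = fun u v => 2 * f u v := by
    funext u v
    exact polar_diag_of_symm f hf u v
  refine ⟨?_, ?_, ?_⟩
  · intro c v
    show f (c • v) (c • v) = c ^ 2 * f v v
    rw [hf.bilinear.smul_left, hf.bilinear.smul_right]
    ring
  · rw [hp]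
    refine ⟨?_, ?_, ?_, ?_⟩
    · intro x y v
      show 2 * f (x + y) v = 2 * f x v + 2 * f y v
      rw [hf.bilinear.add_left]; ring
    · intro c x v
      show 2 * f (c • x) v = c * (2 * f x v)
      rw [hf.bilinear.smul_left]; ring
    · intro v x y
      show 2 * f v (x + y) = 2 * f v x + 2 * f v y
      rw [hf.bilinear.add_right]; ring
    · intro c v x
      show 2 * f v (c • x) = c * (2 * f v x)
      rw [hf.bilinear.smul_right]; ring
  · rw [hp]
    intro v hv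
    obtain ⟨⟨x, hx⟩, ⟨y, hy⟩⟩ := hf.nondegenerate v hv
    exact ⟨⟨x, mul_ne_zero h2 hx⟩, ⟨y, mul_ne_zero h2 hy⟩⟩

variable [Fintype F]

/-- K-O12-S34b. -/
theorem plus_four_of_tensor_three_four (Q : (Fin 12 → F) → F) (hQ : IsNondegenerateQuadraticForm Q)
    (hplus : IsPlusTypeOn Q ⊤) (h2 : (2 : F) ≠ 0) (e : Fin 12 ≃ Fin 3 × Fin 4) (P : GL (Fin 12) F)
    (f₁ : (Fin 3 → F) → (Fin 3 → F) → F) (f₂ : (Fin 4 → F) → (Fin 4 → F) → F)
    (hf₁ : IsSymmetricForm f₁) (hf₂ : IsSymmetricForm f₂)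
    (hT : IsTensorFormStructure id (QuadraticMap.polar Q) f₁ f₂ e P) :
    IsPlusTypeOn (fun v : Fin 4 → F => f₂ v v) ⊤ := by
  classical
  obtain ⟨c, hc, hform⟩ := hT
  obtain ⟨b, hb⟩ := Cfsg.Agent.Lib.Helper19.OEvenX.exists_tensor_basis e P
  have hG : (Matrix.of fun i j => polar Q (b i) (b j)) =
      c • (gramMatrix f₁ ⊗ₖ gramMatrix f₂) := by
    ext p p'
    rw [Matrix.of_apply, hb, hb, hform, Cfsg.Agent.Lib.Helper19.OEvenX.formOfGram_single,
      Matrix.smul_apply, smul_eq_mul]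
  have hn : (12 : ℕ) = 2 * 6 := by norm_num
  have h1 := (Cfsg.Agent.Lib.Helper19.OEvenType.isPlusTypeOn_top_iff_gram Q hQ h2 hn b).mp hplus
  rw [hG, Matrix.det_smul, Matrix.det_kronecker, Fintype.card_prod, Fintype.card_fin,
    Fintype.card_fin] at h1
  have hsq1 : IsSquare ((-1 : F) ^ 6) := ⟨(-1) ^ 3, by ring⟩
  obtain ⟨t, ht⟩ := h1.mpr hsq1
  have hd1 : (gramMatrix f₁).det ≠ 0 := Cfsg.Agent.Lib.Helper66.OPlus10.det_gram_ne_zero f₁ hf₁
  have hd2 : (gramMatrix f₂).det ≠ 0 := Cfsg.Agent.Lib.Helper66.OPlus10.det_gram_ne_zero f₂ hf₂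
  set d₁ := (gramMatrix f₁).det with hd₁def
  set d₂ := (gramMatrix f₂).det with hd₂def
  have hd2sq : IsSquare d₂ := by
    refine ⟨t / (c ^ 6 * d₁ ^ 2 * d₂), ?_⟩
    have hne : c ^ 6 * d₁ ^ 2 * d₂ ≠ 0 :=
      mul_ne_zero (mul_ne_zero (pow_ne_zero _ hc) (pow_ne_zero _ hd1)) hd2
    rw [div_mul_div_comm, ← ht, eq_div_iff (mul_ne_zero hne hne)]
    ring
  -- now the quadratic form `v ↦ f₂ v v`
  have hq₂ := quad_diag_of_symm h2 f₂ hf₂
  have hn4 : (4 : ℕ) = 2 * 2 := by norm_num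
  rw [Cfsg.Agent.Lib.Helper19.OEvenType.isPlusTypeOn_top_iff_gram _ hq₂ h2 hn4
    (Pi.basisFun F (Fin 4))]
  have hG2 : (Matrix.of fun i j => polar (fun v : Fin 4 → F => f₂ v v)
      (Pi.basisFun F (Fin 4) i) (Pi.basisFun F (Fin 4) j)) = (2 : F) • gramMatrix f₂ := by
    ext i j
    rw [Matrix.of_apply, polar_diag_of_symm f₂ hf₂, Matrix.smul_apply, smul_eq_mul,
      Pi.basisFun_apply, Pi.basisFun_apply]
    rfl
  rw [hG2, Matrix.det_smul, Fintype.card_fin]
  have e1 : IsSquare ((2 : F) ^ 4 * d₂) := by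
    apply IsSquare.mul
    · exact ⟨2 ^ 2, by ring⟩
    · exact hd2sq
  have e2 : IsSquare ((-1 : F) ^ 2) := ⟨-1, by ring⟩
  exact ⟨fun _ => e2, fun _ => e1⟩

end Cfsg.Agent.Lib.Helper02.O12
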