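import Mathlib
import Cfsg.Prelude.Def_Transfer

set_option autoImplicit false

namespace Cfsg.Agent.Lib.Helper02

open Cfsg

variable {G : Type*} [Group G]

theorem pResidual_normal (p : ℕ) : (pResidual p G).Normal := by
  rw [← Subgroup.normalizer_eq_top_iff, eq_top_iff]
  unfold pResidual
  rw [Subgroup.le_normalizer_closure_iff]
  intro h _ g hg
  apply Subgroup.subset_closure
  have : orderOf (h * g * h⁻¹) = orderOf g := by
    have := orderOf_injective (MulAut.conj h).toMonoidHom (MulAut.conj h).injective g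
    simpa using this
  rw [Set.mem_ofPred_eq, this]
  exact hg

theorem isPGroup_quotient_pResidual [Finite G] (p : ℕ) [hp : Fact p.Prime] :
    haveI := pResidual_normal (G := G) p
    IsPGroup p (G ⧸ pResidual p G) := by
  haveI := pResidual_normal (G := G) p
  intro q
  obtain ⟨g, rfl⟩ := QuotientGroup.mk_surjective q
  obtain ⟨k, m, hm, hkm⟩ := Nat.exists_eq_pow_mul_and_not_dvd (orderOf_pos g).ne' p hp.out.ne_one
  refine ⟨k, ?_⟩
  rw [← QuotientGroup.mk_pow, QuotientGroup.eq_one_iff]
  apply Subgroup.subset_closure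
  have h1 : (g ^ p ^ k) ^ m = 1 := by
    rw [← pow_mul, ← hkm, pow_orderOf_eq_one]
  have h2 : orderOf (g ^ p ^ k) ∣ m := orderOf_dvd_of_pow_eq_one h1
  have h3 : Nat.Coprime m p := ((Nat.Prime.coprime_iff_not_dvd hp.out).mpr hm).symm
  exact Nat.Coprime.coprime_dvd_left h2 h3

theorem sylow_sup_pResidual_eq_top [Finite G] {p : ℕ} [hp : Fact p.Prime] (T : Sylow p G) :
    (T : Subgroup G) ⊔ pResidual p G = ⊤ := by
  haveI := pResidual_normal (G := G) p
  rw [← Subgroup.index_eq_one]
  have h1 : ((T : Subgroup G) ⊔ pResidual p G).index ∣ (T : Subgroup G).index :=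
    Subgroup.index_dvd_of_le le_sup_left
  have h2 : ((T : Subgroup G) ⊔ pResidual p G).index ∣ (pResidual p G).index :=
    Subgroup.index_dvd_of_le le_sup_right
  obtain ⟨k, hk⟩ := IsPGroup.exists_card_eq (isPGroup_quotient_pResidual (G := G) p)
  have hidx : (pResidual p G).index = p ^ k := by rw [Subgroup.index_eq_card, hk]
  rw [hidx] at h2
  obtain ⟨j, -, hj⟩ := (Nat.dvd_prime_pow hp.out).mp h2
  rcases Nat.eq_zero_or_pos j with h0 | hpos
  · rw [hj, h0, pow_zero]
  · exfalso
    apply T.not_dvd_index
    refine dvd_trans ?_ h1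
    rw [hj]
    exact dvd_pow_self p hpos.ne'

theorem commutator_le_pResidual_of_comm_sylow [Finite G] {p : ℕ} [Fact p.Prime] (T : Sylow p G)
    (hT : IsMulCommutative T) : commutator G ≤ pResidual p G := by
  haveI := pResidual_normal (G := G) p
  apply Subgroup.Normal.commutator_le_of_self_sup_commutative_eq_top (H := (T : Subgroup G))
  · rw [sup_comm]; exact sylow_sup_pResidual_eq_top T
  · exact hT

/-- In a commutative group the elements of order prime to `p` form a subgroup. -/
def coprimeOrderSubgroup (A : Type*) [CommGroup A] (p : ℕ) : Subgroup A where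
  carrier := {a | (orderOf a).Coprime p}
  one_mem' := by simp
  mul_mem' := by
    intro a b ha hb
    exact Nat.Coprime.coprime_dvd_left ((Commute.all a b).orderOf_mul_dvd_mul_orderOf)
      (Nat.Coprime.mul_left ha hb)
  inv_mem' := by
    intro a ha
    simpa using ha

/-- `p`-elements of the `p`-residual lie in the derived subgroup. -/
theorem mem_commutator_of_mem_pResidual [Finite G] {p : ℕ} [hp : Fact p.Prime] (x : G)
    (hx : x ∈ pResidual p G) (k : ℕ) (hxp : x ^ p ^ k = 1) : x ∈ commutator G := by
  rw [← Abelianization.ker_of, MonoidHom.mem_ker]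
  have h1 : (pResidual p G).map (Abelianization.of (G := G)) ≤ coprimeOrderSubgroup (Abelianization G) p := by
    unfold pResidual
    rw [MonoidHom.map_closure, Subgroup.closure_le]
    rintro _ ⟨g, hg, rfl⟩
    exact Nat.Coprime.coprime_dvd_left (orderOf_map_dvd _ g) hg
  have h2 : (orderOf (Abelianization.of x)).Coprime p := h1 ⟨x, hx, rfl⟩
  have h3 : orderOf (Abelianization.of x) ∣ p ^ k := by
    apply orderOf_dvd_of_pow_eq_one
    rw [← map_pow, hxp, map_one]
  have h4 : orderOf (Abelianization.of x) = 1 :=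
    Nat.Coprime.eq_one_of_dvd (Nat.Coprime.pow_right k h2) h3
  exact orderOf_eq_one_iff.mp h4

end Cfsg.Agent.Lib.Helper02
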