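import Mathlib
import Cfsg.Prelude.Def_Transfer
import Cfsg.Agent.Lib.Helper02.QuadTransport

set_option autoImplicit false

/-!
# Quadratic pairs inside an ambient group

`V, H ≤ G`, `V` elementary abelian, `H ≤ N_G(V)` faithful on `V` (`H ⊓ C_G(V) = ⊥`), `H = ⟨a, b⟩`,
`[V, a, a] = [V, b, b] = 1`, `H` not a `p`-group.  Then `H` maps to `SL₂(K)` with non-`p`-group image.
-/

namespace Cfsg.Agent.Lib.Helper02.QuadInternal

open Cfsg
open scoped commutatorElement

variable {G : Type*} [Group G]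

/-- conjugation by a normalizing element as an automorphism of `V` -/
def conjAut (V : Subgroup G) (g : G) (hg : g ∈ Subgroup.normalizer (V : Set G)) : MulAut V where
  toFun v := ⟨g * v.1 * g⁻¹, (Subgroup.mem_normalizer_iff.mp hg v.1).mp v.2⟩
  invFun v := ⟨g⁻¹ * v.1 * g, by
    have := (Subgroup.mem_normalizer_iff.mp (Subgroup.inv_mem _ hg) v.1).mp v.2
    simpa using this⟩
  left_inv v := by
    apply Subtype.ext
    simp only
    group
  right_inv v := by
    apply Subtype.ext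
    simp only
    group
  map_mul' v w := by
    apply Subtype.ext
    simp only [Subgroup.coe_mul]
    group

/-- the conjugation action of `H ≤ N_G(V)` on `V` -/
def conjHom (H V : Subgroup G) (hHV : H ≤ Subgroup.normalizer (V : Set G)) : H →* MulAut V where
  toFun h := conjAut V h.1 (hHV h.2)
  map_one' := by
    ext v
    simp [conjAut]
  map_mul' h k := by
    ext v
    simp only [conjAut, Subgroup.coe_mul, MulAut.mul_apply, MulEquiv.coe_mk, Equiv.coe_fn_mk]
    group

theorem conjHom_apply (H V : Subgroup G) (hHV : H ≤ Subgroup.normalizer (V : Set G))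
    (h : H) (v : V) : ((conjHom H V hHV h v : V) : G) = h.1 * v.1 * h.1⁻¹ := rfl

theorem conjHom_injective (H V : Subgroup G) (hHV : H ≤ Subgroup.normalizer (V : Set G))
    (hf : H ⊓ Subgroup.centralizer (V : Set G) = ⊥) : Function.Injective (conjHom H V hHV) := by
  rw [injective_iff_map_eq_one]
  intro h hh
  have h1 : (h : G) ∈ H ⊓ Subgroup.centralizer (V : Set G) := by
    rw [Subgroup.mem_inf]
    refine ⟨h.2, ?_⟩
    rw [Subgroup.mem_centralizer_iff]
    intro v hv
    have := congrArg (fun f : MulAut V => ((f ⟨v, hv⟩ : V) : G)) hh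
    simp only [conjHom_apply, MulAut.one_apply] at this
    calc v * (h : G) = ((h : G) * v * (h : G)⁻¹) * h := by rw [this]
      _ = h * v := by group
  rw [hf, Subgroup.mem_bot] at h1
  exact Subtype.ext h1

/-- `[V, a, a] = 1` in element form -/
theorem quadratic_elem (V : Subgroup G) (a : G)
    (hq : ⁅⁅V, Subgroup.zpowers a⁆, Subgroup.zpowers a⁆ = ⊥) (v : G) (hv : v ∈ V) :
    a * (a * v * a⁻¹ * v⁻¹) * a⁻¹ = a * v * a⁻¹ * v⁻¹ := by
  have h1 : ⁅v, a⁆ ∈ ⁅V, Subgroup.zpowers a⁆ :=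
    Subgroup.commutator_mem_commutator hv (Subgroup.mem_zpowers a)
  have h2 : ⁅v, a⁆⁻¹ ∈ ⁅V, Subgroup.zpowers a⁆ := Subgroup.inv_mem _ h1
  have h3 : ⁅⁅v, a⁆⁻¹, a⁆ ∈ ⁅⁅V, Subgroup.zpowers a⁆, Subgroup.zpowers a⁆ :=
    Subgroup.commutator_mem_commutator h2 (Subgroup.mem_zpowers a)
  rw [hq, Subgroup.mem_bot] at h3
  -- ⁅v,a⁆⁻¹ = a v a⁻¹ v⁻¹
  have h4 : ⁅v, a⁆⁻¹ = a * v * a⁻¹ * v⁻¹ := by
    rw [commutatorElement_def]; group
  rw [h4, commutatorElement_def] at h3
  -- h3 : w * a * w⁻¹ * a⁻¹ = 1  with w = a v a⁻¹ v⁻¹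
  set w := a * v * a⁻¹ * v⁻¹ with hw
  have h5 : w * a = a * w := by
    have := congrArg (fun x => x * a * w) h3
    simp only [one_mul] at this
    rw [← this]; group
  calc a * w * a⁻¹ = w * a * a⁻¹ := by rw [h5]
    _ = w := by group

/-- **Transport theorem (internal form).** -/
theorem exists_hom_SL2 [Finite G] {p : ℕ} [Fact p.Prime] (V H : Subgroup G)
    (hV : IsElementaryAbelian p V) (hHV : H ≤ Subgroup.normalizer (V : Set G))
    (hf : H ⊓ Subgroup.centralizer (V : Set G) = ⊥) (a b : G)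
    (hab : H = Subgroup.closure {a, b})
    (ha : ⁅⁅V, Subgroup.zpowers a⁆, Subgroup.zpowers a⁆ = ⊥)
    (hb : ⁅⁅V, Subgroup.zpowers b⁆, Subgroup.zpowers b⁆ = ⊥) (hnp : ¬ IsPGroup p H) :
    ∃ (K : Type) (_ : Field K) (_ : Fintype K) (_ : CharP K p)
      (ψ : H →* Matrix.SpecialLinearGroup (Fin 2) K), ¬ IsPGroup p ψ.range := by
  haveI hVc : IsMulCommutative V := hV.1
  letI : CommGroup V :=
    { (inferInstance : Group V) with
      mul_comm := fun x y => (IsMulCommutative.is_comm (M := V)).comm x y }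
  have haH : a ∈ H := by rw [hab]; exact Subgroup.subset_closure (by simp)
  have hbH : b ∈ H := by rw [hab]; exact Subgroup.subset_closure (by simp)
  have hgen : Subgroup.closure {(⟨a, haH⟩ : H), ⟨b, hbH⟩} = ⊤ := by
    apply Subgroup.map_injective H.subtype_injective
    rw [MonoidHom.map_closure, ← MonoidHom.range_eq_map, Subgroup.range_subtype]
    have : (H.subtype '' {(⟨a, haH⟩ : H), ⟨b, hbH⟩}) = {a, b} := by
      rw [Set.image_pair]; rfl
    rw [this, hab]
  have hVexp : ∀ v : V, v ^ p = 1 := fun v => Subtype.ext (by simpa using hV.2 v v.2)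
  have hquad : ∀ (c : G) (hc : c ∈ H),
      ⁅⁅V, Subgroup.zpowers c⁆, Subgroup.zpowers c⁆ = ⊥ →
      ∀ v : V, conjHom H V hHV ⟨c, hc⟩ (conjHom H V hHV ⟨c, hc⟩ v / v) =
        conjHom H V hHV ⟨c, hc⟩ v / v := by
    intro c hc hq v
    apply Subtype.ext
    rw [conjHom_apply]
    have h1 : ((conjHom H V hHV ⟨c, hc⟩ v / v : V) : G) = c * v.1 * c⁻¹ * v.1⁻¹ := by
      rw [div_eq_mul_inv, Subgroup.coe_mul, Subgroup.coe_inv, conjHom_apply]
    rw [h1]
    exact quadratic_elem V c hq v.1 v.2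
  exact QuadTransport.exists_hom_SL2 (p := p) hVexp (conjHom H V hHV)
    (conjHom_injective H V hHV hf) ⟨a, haH⟩ ⟨b, hbH⟩ hgen (hquad a haH ha) (hquad b hbH hb) hnp

end Cfsg.Agent.Lib.Helper02.QuadInternal
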