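import Mathlib
import Cfsg.Prelude.Def_Transfer
import Cfsg.Prelude.Def_Local
import Cfsg.Agent.Lib.Helper02.QuadInternal
import Cfsg.Agent.Lib.Helper02.PStab
import Cfsg.Agent.Lib.Helper02.HHDual
import Cfsg.Agent.Lib.Helper16.SL2Quad3
import Cfsg.Agent.Lib.Helper52.SL2Sylow
import Cfsg.Agent.Lib.Helper52.QuadBridge
import Cfsg.Agent.Lib.Helper52.QuadSylow
import Cfsg.Agent.Lib.Helper40.PSolv

set_option autoImplicit false

/-!
# Sections isomorphic to `SL₂(3)` from quadratic pairs
-/

namespace Cfsg.Agent.Lib.Helper02.QuadSection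

open Cfsg
open scoped commutatorElement

section general

/-- a subgroup `T` of the image of `ψ : H₁ → M` gives a section of `H₁` isomorphic to `T` -/
theorem section_of_hom {G : Type*} [Group G] (H₁ : Subgroup G) {M : Type*} [Group M]
    (ψ : H₁ →* M) (T : Subgroup M) (hT : T ≤ ψ.range) {S : Type*} [Group S] (e : T ≃* S) :
    ∃ (K L : Subgroup G) (hL : (L.subgroupOf K).Normal), K ≤ H₁ ∧
      Nonempty ((K ⧸ L.subgroupOf K) ≃* S) := by
  set K := (T.comap ψ).map H₁.subtype with hK
  set L := ψ.ker.map H₁.subtype with hLdef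
  have hKH : K ≤ H₁ := Subgroup.map_subtype_le _
  have hmem : ∀ k : K, ψ (Subgroup.inclusion hKH k) ∈ T := by
    intro k
    obtain ⟨h, hh, hk⟩ := k.2
    have : Subgroup.inclusion hKH k = h := Subtype.ext hk.symm
    rw [this]; exact hh
  let f : K →* T := (ψ.comp (Subgroup.inclusion hKH)).codRestrict T hmem
  have hf : ∀ k : K, ((f k : T) : M) = ψ (Subgroup.inclusion hKH k) := fun k => rfl
  have hsurj : Function.Surjective f := by
    rintro ⟨t, ht⟩
    obtain ⟨h, rfl⟩ := hT ht
    refine ⟨⟨h.1, ⟨h, ht, rfl⟩⟩, Subtype.ext ?_⟩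
    rw [hf]
    rfl
  have hker : f.ker = L.subgroupOf K := by
    ext k
    rw [MonoidHom.mem_ker, Subgroup.mem_subgroupOf]
    constructor
    · intro hk
      have h1 : ψ (Subgroup.inclusion hKH k) = 1 := by
        rw [← hf, hk]; rfl
      exact ⟨Subgroup.inclusion hKH k, h1, rfl⟩
    · rintro ⟨h, hh, hk⟩
      have h1 : Subgroup.inclusion hKH k = h := Subtype.ext hk.symm
      apply Subtype.ext
      rw [hf, h1]
      exact hh
  have hL : (L.subgroupOf K).Normal := by rw [← hker]; infer_instance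
  refine ⟨K, L, hL, hKH, ⟨?_⟩⟩
  exact (QuotientGroup.quotientMulEquivOfEq hker.symm).trans
    ((QuotientGroup.quotientKerEquivOfSurjective f hsurj).trans e)

/-- a subgroup generated by commuting elements of `p`-power order is a `p`-group -/
theorem isPGroup_closure_of_commute {M : Type*} [Group M] {p : ℕ} (S : Set M)
    (hS : ∀ s ∈ S, ∃ k : ℕ, s ^ p ^ k = 1)
    (hcomm : ∀ x ∈ Subgroup.closure S, ∀ y ∈ Subgroup.closure S, x * y = y * x) :
    IsPGroup p (Subgroup.closure S) := by
  have key : ∀ g ∈ Subgroup.closure S, ∃ k : ℕ, g ^ p ^ k = 1 := by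
    intro g hg
    induction hg using Subgroup.closure_induction with
    | mem x hx => exact hS x hx
    | one => exact ⟨0, by simp⟩
    | mul x y hx hy ihx ihy =>
      obtain ⟨a, ha⟩ := ihx
      obtain ⟨b, hb⟩ := ihy
      refine ⟨a + b, ?_⟩
      have hc : Commute x y := hcomm x hx y hy
      rw [hc.mul_pow, pow_add, pow_mul, ha, one_pow, one_mul, mul_comm (p ^ a), pow_mul, hb,
        one_pow]
    | inv x hx ih =>
      obtain ⟨a, ha⟩ := ih
      exact ⟨a, by rw [inv_pow, ha, inv_one]⟩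
  intro g
  obtain ⟨k, hk⟩ := key g.1 g.2
  exact ⟨k, Subtype.ext (by simpa using hk)⟩

end general

section sl2

variable {F : Type*} [Field F]

local notation "SL2" => Matrix.SpecialLinearGroup (Fin 2) F

open Cfsg.Agent.Lib.Helper52

/-- a nontrivial `p`-element (`p` odd) of `SL₂(F)` is not scalar -/
theorem not_scalar_of_pElement {p : ℕ} [hpF : Fact p.Prime] (hp : p ≠ 2) {z : SL2} (k : ℕ)
    (hz : z ^ p ^ k = 1) (hz1 : z ≠ 1) : ¬ IsScalarSL z := by
  intro hs
  have h2 : z ^ 2 = 1 := by rw [pow_two]; exact hs.mul_self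
  have hcop : Nat.Coprime 2 (p ^ k) :=
    Nat.Coprime.pow_right k ((Nat.coprime_primes Nat.prime_two hpF.out).mpr (Ne.symm hp))
  have h1 : orderOf z ∣ 2 := orderOf_dvd_of_pow_eq_one h2
  have h3 : orderOf z ∣ p ^ k := orderOf_dvd_of_pow_eq_one hz
  have h4 : orderOf z = 1 := Nat.Coprime.eq_one_of_dvd (Nat.Coprime.coprime_dvd_left h1 hcop) h3
  exact hz1 (orderOf_eq_one_iff.mp h4)

/-- finite `p`-subgroups (`p` odd) of `SL₂(F)` are abelian -/
theorem comm_of_isPGroup {p : ℕ} [hpF : Fact p.Prime] (hp : p ≠ 2) (P : Subgroup SL2) [Finite P]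
    (hP : IsPGroup p P) : ∀ x ∈ P, ∀ y ∈ P, x * y = y * x := by
  intro x hx y hy
  by_cases hbot : P = ⊥
  · rw [hbot, Subgroup.mem_bot] at hx hy
    rw [hx, hy]
  · haveI : Nontrivial P := (Subgroup.nontrivial_iff_ne_bot P).mpr hbot
    haveI := hP.center_nontrivial
    obtain ⟨z, hz⟩ := exists_ne (1 : Subgroup.center P)
    have hz1 : ((z : P) : SL2) ≠ 1 := by
      intro h
      apply hz
      apply Subtype.ext
      apply Subtype.ext
      exact h
    obtain ⟨k, hk⟩ := hP (z : P)
    have hk' : ((z : P) : SL2) ^ p ^ k = 1 := by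
      have := congrArg (Subtype.val) hk
      simpa using this
    have hns := not_scalar_of_pElement hp k hk' hz1
    have hc : ∀ w ∈ P, ((z : P) : SL2) * w = w * ((z : P) : SL2) := by
      intro w hw
      have := (Subgroup.mem_center_iff.mp z.2) ⟨w, hw⟩
      have h2 := congrArg (Subtype.val) this
      simpa using h2.symm
    exact comm_of_comm_nonscalar hns (hc x hx) (hc y hy)

/-- a subgroup of `SL₂(F)` generated by elements of order dividing `p`, not a `p`-group, has no
nontrivial normal `p`-subgroup -/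
theorem normal_pSubgroup_eq_bot {p : ℕ} [hpF : Fact p.Prime] (hp : p ≠ 2) [Finite SL2]
    (S : Set SL2) (hS : ∀ s ∈ S, s ^ p = 1) (hnp : ¬ IsPGroup p (Subgroup.closure S))
    (N : Subgroup SL2) (hN : IsPGroup p N)
    (hnorm : ∀ s ∈ S, s ∈ Subgroup.normalizer (N : Set SL2)) : N = ⊥ := by
  by_contra hne
  obtain ⟨⟨z, hzN⟩, hz1⟩ := (Subgroup.ne_bot_iff_exists_ne_one).mp hne
  have hz1' : z ≠ 1 := fun h => hz1 (Subtype.ext h)
  obtain ⟨k, hk⟩ := hN ⟨z, hzN⟩
  have hk' : z ^ p ^ k = 1 := by
    have := congrArg (Subtype.val) hk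
    simpa using this
  have hns := not_scalar_of_pElement hp k hk' hz1'
  have hzs : ∀ s ∈ S, z * s = s * z := by
    intro s hs
    have hsp : IsPGroup p (Subgroup.zpowers s) := by
      rintro ⟨g, hg⟩
      obtain ⟨i, rfl⟩ := Subgroup.mem_zpowers_iff.mp hg
      refine ⟨1, Subtype.ext ?_⟩
      simp only [pow_one, Subgroup.coe_pow, Subgroup.coe_one]
      rw [← zpow_natCast, ← zpow_mul, mul_comm, zpow_mul, zpow_natCast, hS s hs, one_zpow]
    have hle : Subgroup.zpowers s ≤ Subgroup.normalizer (N : Set SL2) :=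
      Subgroup.zpowers_le.mpr (hnorm s hs)
    have hPp : IsPGroup p (N ⊔ Subgroup.zpowers s : Subgroup SL2) :=
      IsPGroup.to_sup_of_normal_left' hN hsp hle
    exact comm_of_isPGroup hp _ hPp z (le_sup_left (a := N) hzN) s
      (le_sup_right (b := Subgroup.zpowers s) (Subgroup.mem_zpowers s))
  have hcl : ∀ g ∈ Subgroup.closure S, z * g = g * z := by
    intro g hg
    have hle : Subgroup.closure S ≤ Subgroup.centralizer ({z} : Set SL2) := by
      rw [Subgroup.closure_le]
      intro s hs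
      rw [SetLike.mem_coe, Subgroup.mem_centralizer_iff]
      intro w hw
      rw [Set.mem_singleton_iff] at hw
      rw [hw]
      exact hzs s hs
    have := hle hg
    rw [Subgroup.mem_centralizer_iff] at this
    exact this z (Set.mem_singleton z)
  apply hnp
  apply isPGroup_closure_of_commute S (fun s hs => ⟨1, by rw [pow_one]; exact hS s hs⟩)
  intro x hx y hy
  exact comm_of_comm_nonscalar hns (hcl x hx) (hcl y hy)

end sl2

end Cfsg.Agent.Lib.Helper02.QuadSection
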