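import Mathlib
import Cfsg.Agent.Lib.Helper02.QuadSection

set_option autoImplicit false

/-!
# Core lemmas: images in `SL₂(K)` generated by two elements of order `p`

* `core_pprime` : the image has a normal `p'`-subgroup not centralised by the first generator.
* `core_psolv` : the image is `p`-solvable.
In both cases `p = 3` and the image contains a copy of `SL₂(3)`.
-/

namespace Cfsg.Agent.Lib.Helper02.QuadCore

open Cfsg
open scoped commutatorElement
open Cfsg.Agent.Lib.Helper02.QuadSection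

theorem isPGroup_zpowers_of_pow_eq_one {M : Type*} [Group M] {p : ℕ} (s : M) (hs : s ^ p = 1) :
    IsPGroup p (Subgroup.zpowers s) := by
  rintro ⟨g, hg⟩
  obtain ⟨i, rfl⟩ := Subgroup.mem_zpowers_iff.mp hg
  refine ⟨1, Subtype.ext ?_⟩
  simp only [pow_one, Subgroup.coe_pow, Subgroup.coe_one]
  rw [← zpow_natCast, ← zpow_mul, mul_comm, zpow_mul, zpow_natCast, hs, one_zpow]

theorem eq_one_of_pow_of_coprime {M : Type*} [Group M] {p n : ℕ} (g : M) (h1 : g ^ p = 1)
    (h2 : g ^ n = 1) (hcop : n.Coprime p) : g = 1 := by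
  have h3 : orderOf g ∣ p := orderOf_dvd_of_pow_eq_one h1
  have h4 : orderOf g ∣ n := orderOf_dvd_of_pow_eq_one h2
  have h5 : orderOf g = 1 := Nat.Coprime.eq_one_of_dvd (Nat.Coprime.coprime_dvd_left h4 hcop) h3
  exact orderOf_eq_one_iff.mp h5

theorem mem_normalizer_map_of_normal {M N : Type*} [Group M] [Group N] (f : M →* N)
    (Q : Subgroup M) [hQ : Q.Normal] (m : M) :
    f m ∈ Subgroup.normalizer ((Q.map f : Subgroup N) : Set N) := by
  apply Subgroup.le_normalizer_map f
  refine Subgroup.mem_map.mpr ⟨m, ?_, rfl⟩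
  rw [Subgroup.normalizer_eq_top]
  exact Subgroup.mem_top m

section

variable {K : Type*} [Field K] [Finite K] {p : ℕ} [hpF : Fact p.Prime] [CharP K p]

local notation "SL2" => Matrix.SpecialLinearGroup (Fin 2) K

theorem finite_SL2 : Finite SL2 :=
  Finite.of_injective (fun g : SL2 => (g : Matrix (Fin 2) (Fin 2) K)) Subtype.val_injective

theorem range_eq_closure_pair {H₁ : Type*} [Group H₁] (α β : H₁)
    (hgen : Subgroup.closure {α, β} = ⊤) (ψ : H₁ →* SL2) :
    ψ.range = Subgroup.closure {ψ α, ψ β} := by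
  rw [MonoidHom.range_eq_map, ← hgen, MonoidHom.map_closure, Set.image_pair]

theorem core_pprime {H₂ : Type*} [Group H₂] [Finite H₂] (hp : p ≠ 2) (α c : H₂)
    (hgen : Subgroup.closure {α, c * α} = ⊤) (hα : α ^ p = 1) (hcα : (c * α) ^ p = 1)
    (Q₂ : Subgroup H₂) [hQn : Q₂.Normal] (hQ : (Nat.card Q₂).Coprime p) (hc : c ∈ Q₂)
    (ψ : H₂ →* SL2) (hψ : ¬ IsPGroup p ψ.range) :
    p = 3 ∧ ∃ T : Subgroup SL2, T ≤ ψ.range ∧
      Nonempty (T ≃* Matrix.SpecialLinearGroup (Fin 2) (ZMod 3)) := by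
  haveI : Finite SL2 := finite_SL2
  set x := ψ α with hx
  set r₀ := ψ c with hr₀
  set R := Q₂.map ψ with hR
  have hxp : x ^ p = 1 := by rw [hx, ← map_pow, hα, map_one]
  have hxpg : IsPGroup p (Subgroup.zpowers x) := isPGroup_zpowers_of_pow_eq_one x hxp
  have hRcop : (Nat.card R).Coprime p :=
    Nat.Coprime.coprime_dvd_left (Subgroup.card_map_dvd Q₂ ψ) hQ
  have hxR : x ∈ Subgroup.normalizer (R : Set SL2) := mem_normalizer_map_of_normal ψ Q₂ α
  have hnt : ⁅R, Subgroup.zpowers x⁆ ≠ ⊥ := by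
    intro hbot
    rw [Subgroup.commutator_eq_bot_iff_le_centralizer] at hbot
    have hr₀R : r₀ ∈ R := Subgroup.mem_map_of_mem ψ hc
    have hcomm : x * r₀ = r₀ * x := by
      have := hbot hr₀R
      rw [Subgroup.mem_centralizer_iff] at this
      exact this x (Subgroup.mem_zpowers x)
    have h1 : (r₀ * x) ^ p = 1 := by
      rw [hr₀, hx, ← map_mul, ← map_pow, hcα, map_one]
    have hc' : Commute r₀ x := hcomm.symm
    rw [hc'.mul_pow, hxp, mul_one] at h1
    have h2 : r₀ ^ Nat.card Q₂ = 1 := by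
      have h3 : (⟨c, hc⟩ : Q₂) ^ Nat.card Q₂ = 1 := pow_card_eq_one'
      have h4 : c ^ Nat.card Q₂ = 1 := by
        have h5 := congrArg Subtype.val h3
        simp only [Subgroup.coe_pow, Subgroup.coe_one] at h5
        exact h5
      rw [hr₀, ← map_pow, h4, map_one]
    have h5 : r₀ = 1 := eq_one_of_pow_of_coprime r₀ h1 h2 hQ
    apply hψ
    rw [range_eq_closure_pair α (c * α) hgen ψ, map_mul, ← hr₀, h5, one_mul]
    have hle : Subgroup.closure {ψ α, ψ α} ≤ Subgroup.zpowers x := by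
      rw [Subgroup.closure_le]
      intro s hs
      rcases hs with rfl | hs
      · exact Subgroup.mem_zpowers _
      · rw [Set.mem_singleton_iff] at hs
        rw [hs]
        exact Subgroup.mem_zpowers _
    exact hxpg.to_le hle
  obtain ⟨h3, -, ⟨e⟩⟩ :=
    Cfsg.Agent.Lib.Helper16.SL2Q.main_sl2_pprime hp x hxpg R hRcop hxR hnt
  refine ⟨h3, R ⊔ Subgroup.zpowers x, ?_, ⟨e⟩⟩
  apply sup_le
  · rw [hR, MonoidHom.range_eq_map]
    exact Subgroup.map_mono le_top
  · rw [Subgroup.zpowers_le]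
    exact ⟨α, rfl⟩

theorem core_psolv {H₁ : Type*} [Group H₁] [Finite H₁] (hp : p ≠ 2)
    (hsol : IsPSolvable p H₁) (α β : H₁) (hgen : Subgroup.closure {α, β} = ⊤)
    (hα : α ^ p = 1) (hβ : β ^ p = 1) (ψ : H₁ →* SL2) (hψ : ¬ IsPGroup p ψ.range) :
    p = 3 ∧ ∃ T : Subgroup SL2, T ≤ ψ.range ∧
      Nonempty (T ≃* Matrix.SpecialLinearGroup (Fin 2) (ZMod 3)) := by
  haveI : Finite SL2 := finite_SL2
  set L := ψ.range with hL
  set x := ψ α with hx
  set y := ψ β with hy
  have hxp : x ^ p = 1 := by rw [hx, ← map_pow, hα, map_one]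
  have hyp : y ^ p = 1 := by rw [hy, ← map_pow, hβ, map_one]
  have hxpg : IsPGroup p (Subgroup.zpowers x) := isPGroup_zpowers_of_pow_eq_one x hxp
  have hypg : IsPGroup p (Subgroup.zpowers y) := isPGroup_zpowers_of_pow_eq_one y hyp
  have hLcl : L = Subgroup.closure {x, y} := range_eq_closure_pair α β hgen ψ
  have hxL : x ∈ L := ⟨α, rfl⟩
  have hyL : y ∈ L := ⟨β, rfl⟩
  have hLsol : IsPSolvable p L :=
    Cfsg.Agent.Lib.Helper15.IsPSolvable.of_surjective hpF.out hsol ψ.rangeRestrict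
      ψ.rangeRestrict_surjective
  -- `O_p(L) = 1`
  have hOp : pCore p L = ⊥ := by
    haveI hn : (pCore p L).Normal := Cfsg.Agent.Lib.Helper01.pCore_normal p
    have hN : IsPGroup p ((pCore p L).map L.subtype) :=
      (Cfsg.Agent.Lib.Helper01.pCore_isPGroup p).map L.subtype
    have hbot : (pCore p L).map L.subtype = ⊥ := by
      apply normal_pSubgroup_eq_bot hp {x, y} _ _ _ hN
      · intro s hs
        rcases hs with rfl | hs
        · exact mem_normalizer_map_of_normal L.subtype (pCore p L) ⟨x, hxL⟩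
        · rw [Set.mem_singleton_iff] at hs
          rw [hs]
          exact mem_normalizer_map_of_normal L.subtype (pCore p L) ⟨y, hyL⟩
      · intro s hs
        rcases hs with rfl | hs
        · exact hxp
        · rw [Set.mem_singleton_iff] at hs
          rw [hs]
          exact hyp
      · rw [← hLcl]
        exact hψ
    exact (Subgroup.map_eq_bot_iff_of_injective _ L.subtype_injective).mp hbot
  have hHH := HHDual.centralizer_pPrimeCore_le hLsol hOp
  set R₀ := pPrimeCore p L with hR₀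
  haveI hR₀n : R₀.Normal := Cfsg.Agent.Lib.Helper01.pPrimeCore_normal p
  have hR₀cop : (Nat.card R₀).Coprime p := Cfsg.Agent.Lib.Helper01.pPrimeCore_card_coprime p
  have hx1 : x ≠ 1 := by
    intro h1
    apply hψ
    rw [hLcl, h1]
    have hle : Subgroup.closure {(1 : SL2), y} ≤ Subgroup.zpowers y := by
      rw [Subgroup.closure_le]
      intro s hs
      rcases hs with rfl | hs
      · exact Subgroup.one_mem _
      · rw [Set.mem_singleton_iff] at hs
        rw [hs]
        exact Subgroup.mem_zpowers _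
    exact hypg.to_le hle
  have hxR₀ : (⟨x, hxL⟩ : L) ∉ R₀ := by
    intro hmem
    have h3 : (⟨(⟨x, hxL⟩ : L), hmem⟩ : R₀) ^ Nat.card R₀ = 1 := pow_card_eq_one'
    have h4 : x ^ Nat.card R₀ = 1 := by
      have h5 := congrArg (fun g : R₀ => ((g : L) : SL2)) h3
      simp only [Subgroup.coe_pow, Subgroup.coe_one] at h5
      exact h5
    exact hx1 (eq_one_of_pow_of_coprime x hxp h4 hR₀cop)
  have hxC : (⟨x, hxL⟩ : L) ∉ Subgroup.centralizer (R₀ : Set L) := fun h => hxR₀ (hHH h)
  set R := R₀.map L.subtype with hR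
  have hRcop : (Nat.card R).Coprime p := by
    rw [hR, Subgroup.card_map_of_injective L.subtype_injective]
    exact hR₀cop
  have hxR : x ∈ Subgroup.normalizer (R : Set SL2) :=
    mem_normalizer_map_of_normal L.subtype R₀ ⟨x, hxL⟩
  have hnt : ⁅R, Subgroup.zpowers x⁆ ≠ ⊥ := by
    intro hbot
    rw [Subgroup.commutator_eq_bot_iff_le_centralizer] at hbot
    apply hxC
    rw [Subgroup.mem_centralizer_iff]
    intro r hr
    have hrR : (r : SL2) ∈ R := Subgroup.mem_map_of_mem L.subtype hr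
    have := hbot hrR
    rw [Subgroup.mem_centralizer_iff] at this
    have h2 := this x (Subgroup.mem_zpowers x)
    apply Subtype.ext
    rw [Subgroup.coe_mul, Subgroup.coe_mul]
    exact h2.symm
  obtain ⟨h3, -, ⟨e⟩⟩ :=
    Cfsg.Agent.Lib.Helper16.SL2Q.main_sl2_pprime hp x hxpg R hRcop hxR hnt
  refine ⟨h3, R ⊔ Subgroup.zpowers x, ?_, ⟨e⟩⟩
  apply sup_le
  · exact Subgroup.map_subtype_le _
  · rw [Subgroup.zpowers_le]
    exact hxL

end

end Cfsg.Agent.Lib.Helper02.QuadCore
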