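import Mathlib
import Cfsg.Prelude.Def_PLocal
import Cfsg.Agent.Lib.Helper02.QuadCore

set_option autoImplicit false

/-!
# `p`-stability of `p`-solvable groups, `p ≥ 5`

* `eq_three_of_quad_psolv` : a finite `p`-solvable group acting faithfully on an abelian group of
  exponent `p` (`p` odd) with a quadratic element outside `O_p` forces `p = 3`.
* `isPStableOn_of_psolv` : for `p ≠ 2, 3`, a finite `p`-solvable group acts `p`-stably on each of its
  normal elementary abelian `p`-subgroups.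
-/

namespace Cfsg.Agent.Lib.Helper02.PStab3

open Cfsg
open scoped commutatorElement
open Cfsg.Agent.Lib.Helper02.PStab

theorem eq_three_of_quad_psolv {H : Type*} [Group H] [Finite H] {V : Type*} [CommGroup V]
    [Finite V] {p : ℕ} [hpF : Fact p.Prime] (hp2 : p ≠ 2) (hV : ∀ v : V, v ^ p = 1)
    (φ : H →* MulAut V) (hφ : Function.Injective φ) (hsol : IsPSolvable p H) (a : H)
    (hq : Quad φ a) (ha : ∀ N : Subgroup H, N.Normal → IsPGroup p N → a ∉ N) : p = 3 := by
  obtain ⟨g, hg⟩ := exists_conj_not_pGroup (p := p) a ha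
  set b := g * a * g⁻¹ with hb
  set H₁ := Subgroup.closure ({a, b} : Set H) with hH₁
  have haH₁ : a ∈ H₁ := Subgroup.subset_closure (by simp)
  have hbH₁ : b ∈ H₁ := Subgroup.subset_closure (by simp)
  have hgen : Subgroup.closure {(⟨a, haH₁⟩ : H₁), (⟨b, hbH₁⟩ : H₁)} = ⊤ :=
    Cfsg.Agent.Lib.Helper52.closure_pair_subtype_eq_top a b H₁ rfl haH₁ hbH₁
  have hφ₁ : Function.Injective (φ.comp H₁.subtype) := hφ.comp H₁.subtype_injective
  have hqb : Quad φ b := hq.conj g
  obtain ⟨E, _, _, _, ψ, hψ⟩ := QuadTransport.exists_hom_SL2 (p := p) hV (φ.comp H₁.subtype) hφ₁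
    (⟨a, haH₁⟩ : H₁) ⟨b, hbH₁⟩ hgen (fun v => hq v) (fun v => hqb v) hg
  have hap : a ^ p = 1 := hq.pow_eq_one hφ hV
  have hbp : b ^ p = 1 := hqb.pow_eq_one hφ hV
  have hαp : (⟨a, haH₁⟩ : H₁) ^ p = 1 := Subtype.ext (by simpa using hap)
  have hβp : (⟨b, hbH₁⟩ : H₁) ^ p = 1 := Subtype.ext (by simpa using hbp)
  have hsol₁ : IsPSolvable p H₁ := Cfsg.Agent.Lib.Helper40.isPSolvable_subgroup hpF.out hsol H₁
  haveI : Finite E := Finite.of_fintype E
  exact (QuadCore.core_psolv hp2 hsol₁ (⟨a, haH₁⟩ : H₁) ⟨b, hbH₁⟩ hgen hαp hβp ψ hψ).1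

section quot

variable {X : Type*} [Group X]

/-- the action of `X ⧸ C_X(V)` on a normal subgroup `V` -/
noncomputable def quotAct (V : Subgroup X) [V.Normal] :
    (X ⧸ Subgroup.centralizer (V : Set X)) →* MulAut V :=
  QuotientGroup.lift _ (MulAut.conjNormal (H := V)) (by
    intro x hx
    ext v
    rw [MulAut.conjNormal_apply, MulAut.one_apply]
    rw [Subgroup.mem_centralizer_iff] at hx
    rw [← hx v.1 v.2]
    group)

theorem quotAct_mk (V : Subgroup X) [V.Normal] (x : X) (v : V) :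
    ((quotAct V (QuotientGroup.mk x) v : V) : X) = x * v.1 * x⁻¹ := rfl

theorem quotAct_injective (V : Subgroup X) [V.Normal] : Function.Injective (quotAct V) := by
  rw [injective_iff_map_eq_one]
  intro q hq
  obtain ⟨x, rfl⟩ := QuotientGroup.mk_surjective q
  rw [QuotientGroup.eq_one_iff, Subgroup.mem_centralizer_iff]
  intro v hv
  have h1 := congrArg (fun f : MulAut V => ((f ⟨v, hv⟩ : V) : X)) hq
  simp only [quotAct_mk, MulAut.one_apply] at h1
  calc v * x = (x * v * x⁻¹) * x := by rw [h1]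
    _ = x * v := by group

theorem isPStableOn_of_psolv [Finite X] {p : ℕ} [hpF : Fact p.Prime] (hp2 : p ≠ 2) (hp3 : p ≠ 3)
    (hsol : IsPSolvable p X) (V : Subgroup X) [V.Normal] (hV : IsElementaryAbelian p V) :
    IsPStableOn p V := by
  intro a hqa
  by_contra hcon
  haveI hVc : IsMulCommutative V := hV.1
  letI : CommGroup V :=
    { (inferInstance : Group V) with
      mul_comm := fun x y => (IsMulCommutative.is_comm (M := V)).comm x y }
  have hVexp : ∀ v : V, v ^ p = 1 := fun v => Subtype.ext (by simpa using hV.2 v v.2)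
  have hsolY : IsPSolvable p (X ⧸ Subgroup.centralizer (V : Set X)) :=
    Cfsg.Agent.Lib.Helper81.IsPSolvable.quotient hpF.out hsol _
  have hq : Quad (quotAct V) (QuotientGroup.mk a : X ⧸ Subgroup.centralizer (V : Set X)) := by
    intro v
    apply Subtype.ext
    rw [quotAct_mk]
    have h1 : ((quotAct V (QuotientGroup.mk a) v / v : V) : X) = a * v.1 * a⁻¹ * v.1⁻¹ := by
      rw [div_eq_mul_inv, Subgroup.coe_mul, Subgroup.coe_inv, quotAct_mk]
    rw [h1]
    exact QuadInternal.quadratic_elem V a hqa v.1 v.2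
  apply hp3
  apply eq_three_of_quad_psolv hp2 hVexp (quotAct V) (quotAct_injective V) hsolY _ hq
  intro N hN hNp hmem
  exact hcon (Cfsg.Agent.Lib.Helper01.le_pCore hN hNp hmem)

theorem isPStableOnSection_of_psolv [Finite X] {p : ℕ} [hpF : Fact p.Prime] (hp2 : p ≠ 2)
    (hp3 : p ≠ 3) (hsol : IsPSolvable p X) (K N : Subgroup X) [hK : K.Normal] [hN : N.Normal]
    (hcomm : ∀ x ∈ K, ∀ y ∈ K, x * y * x⁻¹ * y⁻¹ ∈ N) (hpow : ∀ x ∈ K, x ^ p ∈ N) :
    IsPStableOnSection p K N := by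
  intro a hqa
  set π₁ := QuotientGroup.mk' N with hπ₁
  have hπ₁s : Function.Surjective π₁ := QuotientGroup.mk'_surjective N
  set Kb := K.map π₁ with hKb
  haveI hKbn : Kb.Normal := Subgroup.Normal.map hK π₁ hπ₁s
  have hKbea : IsElementaryAbelian p Kb := by
    refine ⟨⟨⟨?_⟩⟩, ?_⟩
    · rintro ⟨_, x, hx, rfl⟩ ⟨_, y, hy, rfl⟩
      apply Subtype.ext
      simp only [Subgroup.coe_mul]
      have h1 : π₁ (x * y * x⁻¹ * y⁻¹) = 1 := by
        rw [hπ₁, QuotientGroup.mk'_apply, QuotientGroup.eq_one_iff]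
        exact hcomm x hx y hy
      have h2 : π₁ x * π₁ y = (π₁ (x * y * x⁻¹ * y⁻¹)) * (π₁ y * π₁ x) := by
        rw [← map_mul, ← map_mul, ← map_mul]
        congr 1
        group
      rw [h2, h1, one_mul]
    · rintro _ ⟨x, hx, rfl⟩
      rw [← map_pow, hπ₁, QuotientGroup.mk'_apply, QuotientGroup.eq_one_iff]
      exact hpow x hx
  have hsolb : IsPSolvable p (X ⧸ N) := Cfsg.Agent.Lib.Helper81.IsPSolvable.quotient hpF.out hsol N
  have hst : IsPStableOn p Kb := isPStableOn_of_psolv hp2 hp3 hsolb Kb hKbea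
  have hqb : ⁅⁅Kb, Subgroup.zpowers (π₁ a)⁆, Subgroup.zpowers (π₁ a)⁆ = ⊥ := by
    rw [← MonoidHom.map_zpowers, hKb, ← Subgroup.map_commutator, ← Subgroup.map_commutator,
      eq_bot_iff]
    calc Subgroup.map π₁ ⁅⁅K, Subgroup.zpowers a⁆, Subgroup.zpowers a⁆ ≤ Subgroup.map π₁ N :=
          Subgroup.map_mono hqa
      _ = ⊥ := QuotientGroup.map_mk'_self N
  have hmem := hst (π₁ a) hqb
  set Cb := Subgroup.centralizer (Kb : Set (X ⧸ N)) with hCb
  set π := (QuotientGroup.mk' Cb).comp π₁ with hπ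
  have hπs : Function.Surjective π := (QuotientGroup.mk'_surjective Cb).comp hπ₁s
  have hker : sectionKernel K N = π.ker := by
    unfold sectionKernel
    rw [hπ, ← MonoidHom.comap_ker, QuotientGroup.ker_mk']
  refine ⟨(pCore p ((X ⧸ N) ⧸ Cb)).comap π, ?_, ?_, ?_, ?_⟩
  · exact Subgroup.Normal.comap (Cfsg.Agent.Lib.Helper01.pCore_normal p) π
  · rw [hker]
    exact MonoidHom.ker_le_comap π _
  · rw [hker, ← MonoidHom.comap_bot, Subgroup.relIndex_comap, Subgroup.relIndex_bot_left,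
      Subgroup.map_comap_eq_self_of_surjective hπs]
    exact (Cfsg.Agent.Lib.Helper01.pCore_isPGroup p).exists_card_eq
  · exact hmem

end quot

end Cfsg.Agent.Lib.Helper02.PStab3
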