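import Mathlib
import Cfsg.Prelude.Def_PLocal
import Cfsg.Prelude.Def_LocalEven
import Cfsg.Agent.Lib.Helper53.Qd
import Cfsg.Agent.Lib.Helper16.ZJ4
import Cfsg.Agent.Lib.Helper16.SL2Dickson1

set_option autoImplicit false

/-!
# `Qd(p)` is not `p`-stable (normalizer form)

* `isNormalizerPStable_of_mulEquiv`: `IsNormalizerPStable` is invariant under isomorphism.
* `not_isNormalizerPStable_qd`: `Qd(p)` is not normalizer-`p`-stable.
* `involves_qd_imp`: if `Qd(p)` is involved in `G`, some section of `G` is not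
  normalizer-`p`-stable.
-/

namespace Cfsg.Agent.Lib.Helper02.QdNotStable

open Cfsg Cfsg.Agent.Lib.Helper53 Cfsg.Agent.Lib.Helper16

open scoped commutatorElement

section transport

variable {X Y : Type*} [Group X] [Group Y]

theorem symm_mem_normalizer (e : X ≃* Y) (P' : Subgroup X) (y : Y)
    (hy : y ∈ Subgroup.normalizer ((P'.map e.toMonoidHom : Subgroup Y) : Set Y)) :
    e.symm y ∈ Subgroup.normalizer (P' : Set X) := by
  rw [Subgroup.mem_normalizer_iff] at hy ⊢
  intro h
  have h1 := hy (e h)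
  have e1 : ∀ z : X, e.toMonoidHom z ∈ P'.map e.toMonoidHom ↔ z ∈ P' :=
    fun z => Subgroup.mem_map_iff_mem e.injective
  have e2 : y * e h * y⁻¹ = e.toMonoidHom (e.symm y * h * (e.symm y)⁻¹) := by
    simp
  rw [e2, e1] at h1
  rw [← h1]
  exact (e1 h).symm

theorem isNormalizerPStable_of_mulEquiv {p : ℕ} (e : X ≃* Y)
    (h : Cfsg.IsNormalizerPStable p X) : Cfsg.IsNormalizerPStable p Y := by
  intro P
  obtain ⟨P', rfl⟩ : ∃ P' : Subgroup X, P'.map e.toMonoidHom = P := by
    refine ⟨P.map e.symm.toMonoidHom, ?_⟩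
    ext y
    constructor
    · rintro ⟨_, ⟨z, hz, rfl⟩, rfl⟩
      simpa using hz
    · intro hy
      exact ⟨e.symm y, ⟨y, hy, rfl⟩, by simp⟩
  intro hP g hg hquad
  have hP' : IsPGroup p P' :=
    hP.of_equiv (P'.equivMapOfInjective e.toMonoidHom e.injective).symm
  have hg' := symm_mem_normalizer e P' g hg
  have hquad' : ⁅⁅P', Subgroup.zpowers (e.symm g)⁆, Subgroup.zpowers (e.symm g)⁆ = ⊥ := by
    apply (Subgroup.map_eq_bot_iff_of_injective (f := e.toMonoidHom) _ e.injective).1
    rw [Subgroup.map_commutator, Subgroup.map_commutator, MonoidHom.map_zpowers]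
    have : e.toMonoidHom (e.symm g) = g := by simp
    rw [this]
    exact hquad
  have h1 := h P' hP' (e.symm g) hg' hquad'
  have hsurj : Function.Surjective (ZJ.normHom e.toMonoidHom P') := by
    intro y
    refine ⟨⟨e.symm y, symm_mem_normalizer e P' y y.2⟩, ?_⟩
    apply Subtype.ext
    rw [ZJ.normHom_coe]
    simp
  have h2 := ZJ.mem_pCore_of_surj (p := p) e.toMonoidHom P' hsurj h1
  have h3 : ZJ.normHom e.toMonoidHom P' ⟨e.symm g, hg'⟩ = ⟨g, hg⟩ := by
    apply Subtype.ext
    rw [ZJ.normHom_coe]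
    simp
  rw [h3] at h2
  exact h2

end transport

section qd

variable {p : ℕ} [Fact p.Prime]

local notation "Fp" => ZMod p

/-- the type of `Qd(p)` -/
abbrev QdT (p : ℕ) [Fact p.Prime] : Type := ↥(Cfsg.qdOver (ZMod p))

local notation "Q" => QdT p

theorem qtr_neg (u : Fin 2 → Fp) : (qtr u : Q)⁻¹ = qtr (-u) := by
  rw [inv_eq_iff_mul_eq_one, ← qtr_add, add_neg_cancel, qtr_zero]

/-- conjugation of a translation by any element -/
theorem centralizer_ker_le : Subgroup.centralizer (((qlin (F := Fp)).ker : Subgroup Q) : Set Q) ≤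
    (qlin (F := Fp)).ker := by
  intro c hc
  rw [Subgroup.mem_centralizer_iff] at hc
  rw [MonoidHom.mem_ker]
  apply sl2_eq_one_of_smul
  intro u
  have h1 := hc (qtr u) (by rw [SetLike.mem_coe, MonoidHom.mem_ker, qlin_qtr])
  have h2 := congrArg qtrans h1
  rw [qtrans_mul, qtrans_mul, qlin_qtr, one_smul, qtrans_qtr, add_comm] at h2
  exact (add_right_cancel h2).symm

theorem commutator_qtr_qemb (u : Fin 2 → Fp) (A : Matrix.SpecialLinearGroup (Fin 2) Fp) :
    ⁅(qtr u : Q), qemb A⁆ = qtr (u + A • (-u)) := by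
  rw [commutatorElement_def, qtr_neg, mul_assoc (qtr u), mul_assoc (qtr u), qemb_conj_qtr,
    ← qtr_add]

/-- a normal `p`-subgroup of the normalizer `N = ⊤` containing `g` forces `g ∈ ker qlin` -/
theorem qd_final (hp : p ≠ 2) (P : Subgroup Q) (hPp : IsPGroup p P)
    (hNtop : Subgroup.normalizer (P : Set Q) = ⊤) (g : Q)
    (hg : g ∈ Subgroup.normalizer (P : Set Q))
    (M : Subgroup ↥(Subgroup.normalizer (P : Set Q))) (hMn : M.Normal) (hMp : IsPGroup p M)
    (hgM : (⟨g, hg⟩ : ↥(Subgroup.normalizer (P : Set Q))) ∈ M)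
    (hgk : g ∉ (qlin (F := Fp)).ker) : False := by
  have hM'n : (M.map (Subgroup.normalizer (P : Set Q)).subtype).Normal := by
    constructor
    rintro _ ⟨m, hm, rfl⟩ q
    have hq : q ∈ Subgroup.normalizer (P : Set Q) := by rw [hNtop]; trivial
    exact ⟨⟨q, hq⟩ * m * ⟨q, hq⟩⁻¹, hMn.conj_mem m hm ⟨q, hq⟩, rfl⟩
  have hM'p : IsPGroup p (M.map (Subgroup.normalizer (P : Set Q)).subtype) := hMp.map _
  have hle : M.map (Subgroup.normalizer (P : Set Q)).subtype ≤ Cfsg.pCore p Q :=
    ZJ.le_pCore hM'n hM'p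
  rw [pCore_qdOver_eq_ker] at hle
  exact hgk (hle ⟨⟨g, hg⟩, hgM, rfl⟩)

/-- **`Qd(p)` is not `p`-stable.** -/
theorem not_isNormalizerPStable_qd (hp : p ≠ 2) : ¬ Cfsg.IsNormalizerPStable p ↥(Cfsg.qd p) := by
  classical
  show ¬ Cfsg.IsNormalizerPStable p Q
  intro hst
  set P : Subgroup Q := (qlin (F := Fp)).ker with hPdef
  have hPp : IsPGroup p P := ker_qlin_isPGroup
  set A : Matrix.SpecialLinearGroup (Fin 2) Fp := SL2Q.uu (1 : Fp) with hA
  set g : Q := qemb A with hgdef
  have hNtop : Subgroup.normalizer (P : Set Q) = ⊤ := Subgroup.normalizer_eq_top P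
  have hg : g ∈ Subgroup.normalizer (P : Set Q) := by rw [hNtop]; trivial
  -- the quadratic action
  set U : Subgroup Q := (SL2Q.unipU (F := Fp)).map (qemb (F := Fp)) with hU
  have hzU : Subgroup.zpowers g ≤ U := by
    rw [Subgroup.zpowers_le]
    exact ⟨A, SL2Q.uu_mem_unipU 1, rfl⟩
  have hcomm : ∀ x ∈ P, ∀ z ∈ U, ⁅x, z⁆ ∈ Subgroup.centralizer (U : Set Q) := by
    intro x hx z hz
    obtain ⟨B, hB, rfl⟩ := hz
    rw [(mem_ker_qlin_iff_eq_qtr x).1 hx, commutator_qtr_qemb]
    rw [Subgroup.mem_centralizer_iff]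
    rintro _ ⟨D, hD, rfl⟩
    have hB' := SL2Q.mem_unipU.1 hB
    have hD' := SL2Q.mem_unipU.1 hD
    set w : Fin 2 → Fp := qtrans x + B • (-qtrans x) with hw
    have hw1 : w 1 = 0 := by
      rw [hw, Pi.add_apply, sl2_smul_apply, hB'.1, hB'.2.2]
      simp
    have hDw : D • w = w := by
      ext i
      rw [sl2_smul_apply]
      fin_cases i
      · simp only [Fin.zero_eta]
        rw [hD'.2.1, hw1]; ring
      · simp only [Fin.mk_one]
        rw [hD'.1, hD'.2.2, hw1]; ring
    show qemb D * qtr w = qtr w * qemb D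
    rw [qemb_mul_qtr, hDw]
  have hquad : ⁅⁅P, Subgroup.zpowers g⁆, Subgroup.zpowers g⁆ = ⊥ := by
    rw [eq_bot_iff]
    have h1 : ⁅P, Subgroup.zpowers g⁆ ≤ Subgroup.centralizer (U : Set Q) := by
      rw [Subgroup.commutator_le]
      intro x hx z hz
      exact hcomm x hx z (hzU hz)
    calc ⁅⁅P, Subgroup.zpowers g⁆, Subgroup.zpowers g⁆
        ≤ ⁅Subgroup.centralizer (U : Set Q), U⁆ := Subgroup.commutator_mono h1 hzU
      _ ≤ ⊥ := by
        rw [Subgroup.commutator_le]
        intro c hc z hz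
        rw [Subgroup.mem_bot, commutatorElement_eq_one_iff_mul_comm]
        exact (Subgroup.mem_centralizer_iff.mp hc z hz).symm
  have h1 := hst P hPp g hg hquad
  -- pull back the `p`-core
  have hCp : IsPGroup p ((Subgroup.centralizer (P : Set Q)).subgroupOf
      (Subgroup.normalizer (P : Set Q))) := by
    have hle : (Subgroup.centralizer (P : Set Q)).subgroupOf (Subgroup.normalizer (P : Set Q)) ≤
        P.subgroupOf (Subgroup.normalizer (P : Set Q)) := by
      intro c hc
      rw [Subgroup.mem_subgroupOf] at hc ⊢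
      exact centralizer_ker_le hc
    exact (hPp.comap_subtype (K := Subgroup.normalizer (P : Set Q))).to_le hle
  have hMp : IsPGroup p ((Cfsg.pCore p (↥(Subgroup.normalizer (P : Set Q)) ⧸
      (Subgroup.centralizer (P : Set Q)).subgroupOf (Subgroup.normalizer (P : Set Q)))).comap
      (QuotientGroup.mk' ((Subgroup.centralizer (P : Set Q)).subgroupOf
        (Subgroup.normalizer (P : Set Q))))) := by
    apply IsPGroup.comap_of_ker_isPGroup (ZJ.pCore_isPGroup p)
    rw [QuotientGroup.ker_mk']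
    exact hCp
  have hMn : ((Cfsg.pCore p (↥(Subgroup.normalizer (P : Set Q)) ⧸
      (Subgroup.centralizer (P : Set Q)).subgroupOf (Subgroup.normalizer (P : Set Q)))).comap
      (QuotientGroup.mk' ((Subgroup.centralizer (P : Set Q)).subgroupOf
        (Subgroup.normalizer (P : Set Q))))).Normal := by
    haveI : (Cfsg.pCore p (↥(Subgroup.normalizer (P : Set Q)) ⧸
      (Subgroup.centralizer (P : Set Q)).subgroupOf (Subgroup.normalizer (P : Set Q)))).Normal :=
      ZJ.pCore_normal p
    exact Subgroup.Normal.comap inferInstance _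
  exact qd_final hp P hPp hNtop g hg _ hMn hMp h1 (by
    intro hgk
    rw [MonoidHom.mem_ker, hgdef, qlin_qemb, hA] at hgk
    exact SL2Q.uu_ne_one (one_ne_zero) hgk)

/-- if `Qd(p)` is involved in `G` then some section of `G` is not normalizer-`p`-stable -/
theorem not_involves_qd_of_sections {G : Type*} [Group G] (hp : p ≠ 2)
    (h : ∀ (K R : Subgroup G) [hR : (R.subgroupOf K).Normal],
      Cfsg.IsNormalizerPStable p (K ⧸ R.subgroupOf K)) :
    ¬ Cfsg.Involves ↥(Cfsg.qd p) G := by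
  rintro ⟨K, R, hR, ⟨e⟩⟩
  exact not_isNormalizerPStable_qd hp (isNormalizerPStable_of_mulEquiv e (h K R))

end qd

end Cfsg.Agent.Lib.Helper02.QdNotStable
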