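import Mathlib
import Cfsg.Agent.Lib.Helper73.RUDefs
import Cfsg.Agent.Lib.Helper73.RUHub

set_option autoImplicit false

/-!
# S2279: the pair `u = aMat`, `v = g u g⁻¹`, `g = 1 + l E_{last,0}`: definitions, first lemmas,
the step up (conjugation by `u⁻¹ v`) and the step down (a commutator of two transvections)
-/

namespace Cfsg.Agent.Lib.Helper02.RU4

open Matrix Cfsg.Agent.Lib.Helper73.RU Cfsg.Agent.Lib.Helper73.RUSpec

section defs
variable (m : ℕ) (F : Type*) [Field F]

/-- the index `last - 1` -/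
def pen : Fin (m + 3) := ⟨m + 1, by omega⟩

/-- the conjugator `g = 1 + l E_{last,0}` (a transvection) -/
def g4 (l : F) : Matrix (Fin (m + 3)) (Fin (m + 3)) F :=
  1 + Matrix.single (Fin.last (m + 2)) 0 l

/-- `v = g a g⁻¹ = a + l E_{last,1} - l E_{last-1,0}` -/
def v4 (l : F) : Matrix (Fin (m + 3)) (Fin (m + 3)) F :=
  aMat m F + Matrix.single (Fin.last (m + 2)) 1 l - Matrix.single (pen m) 0 l

/-- `c₁ = a e_last = e_last + e_{last-1}` -/
def c1 : Fin (m + 3) → F := Pi.single (Fin.last (m + 2)) 1 + Pi.single (pen m) 1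

/-- `φ₋₁ = e_0ᵀ a = e_0 + e_1` -/
def f1 : Fin (m + 3) → F := Pi.single 0 1 + Pi.single 1 1

/-- `c_k = a^k e_last` -/
def ck (k : ℕ) : Fin (m + 3) → F := (aMat m F ^ k) *ᵥ (Pi.single (Fin.last (m + 2)) 1)

end defs

/-- row `0` of `aMat` -/
theorem e0_vecMul_aMat (m : ℕ) (F : Type*) [Field F] :
    (Pi.single 0 1 : Fin (m + 3) → F) ᵥ* aMat m F = f1 m F := by
  ext j
  rw [single_vecMul, one_smul]
  unfold f1 aMat
  simp only [Matrix.row, of_apply, Pi.add_apply, Pi.single_apply]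
  by_cases h0 : j = 0
  · subst h0
    simp
  · by_cases h1 : j = 1
    · subst h1
      simp
    · have h4 : ¬ ((0 : Fin (m + 3)) = j) := fun h => h0 h.symm
      have h5 : ¬ ((0 : Fin (m + 3)).val + 1 = j.val) := by
        intro h
        apply h1
        ext
        simpa using h.symm
      rw [if_neg (by tauto), if_neg h0, if_neg h1, add_zero]

theorem aMat_mulVec_apply_zero (m : ℕ) (F : Type*) [Field F] (v : Fin (m + 3) → F) :
    (aMat m F *ᵥ v) 0 = v 0 + v 1 := by
  have h6 : (aMat m F *ᵥ v) 0 = (Pi.single 0 1 : Fin (m + 3) → F) ⬝ᵥ (aMat m F *ᵥ v) := by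
    rw [single_dotProduct, one_mul]
  rw [h6, dotProduct_mulVec, e0_vecMul_aMat]
  unfold f1
  rw [add_dotProduct, single_dotProduct, single_dotProduct, one_mul, one_mul]


theorem f1_dot (m : ℕ) (F : Type*) [Field F] (v : Fin (m + 3) → F) :
    f1 m F ⬝ᵥ v = v 0 + v 1 := by
  unfold f1
  rw [add_dotProduct, single_dotProduct, single_dotProduct, one_mul, one_mul]

theorem e0_dot (m : ℕ) (F : Type*) [Field F] (v : Fin (m + 3) → F) :
    (Pi.single 0 1 : Fin (m + 3) → F) ⬝ᵥ v = v 0 := by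
  rw [single_dotProduct, one_mul]

/-- the alternating column `a⁻¹ e_last` -/
def cm1 (m : ℕ) (F : Type*) [Field F] : Fin (m + 3) → F := fun i => (-1) ^ (m + 2 - i.val)

theorem aMat_mulVec_apply (m : ℕ) (F : Type*) [Field F] (v : Fin (m + 3) → F) (i : Fin (m + 3)) :
    (aMat m F *ᵥ v) i = v i + (if h : i.val + 1 < m + 3 then v ⟨i.val + 1, h⟩ else 0) := by
  unfold aMat
  rw [mulVec, dotProduct]
  simp only [of_apply]
  by_cases h : i.val + 1 < m + 3
  · rw [dif_pos h]
    have hne : i ≠ ⟨i.val + 1, h⟩ := by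
      intro h'
      have := congrArg Fin.val h'
      simp at this
    rw [Finset.sum_eq_add_of_mem i ⟨i.val + 1, h⟩ (Finset.mem_univ _) (Finset.mem_univ _) hne]
    · simp
    · intro c _ hc
      have h1 : ¬ (i = c ∨ i.val + 1 = c.val) := by
        rintro (h1 | h1)
        · exact hc.1 h1.symm
        · exact hc.2 (Fin.ext h1.symm)
      rw [if_neg h1, zero_mul]
  · rw [dif_neg h, add_zero]
    rw [Finset.sum_eq_single i]
    · simp
    · intro c _ hc
      have h1 : ¬ (i = c ∨ i.val + 1 = c.val) := by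
        rintro (h1 | h1)
        · exact hc h1.symm
        · have := c.isLt
          omega
      rw [if_neg h1, zero_mul]
    · intro h'
      exact absurd (Finset.mem_univ _) h'

theorem aMat_mulVec_cm1 (m : ℕ) (F : Type*) [Field F] :
    aMat m F *ᵥ cm1 m F = Pi.single (Fin.last (m + 2)) 1 := by
  ext i
  rw [aMat_mulVec_apply]
  unfold cm1
  by_cases h : i.val + 1 < m + 3
  · rw [dif_pos h]
    have hi : i ≠ Fin.last (m + 2) := by
      intro h'
      rw [h'] at h
      simp at h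
    rw [Pi.single_apply, if_neg hi]
    simp only
    have : m + 2 - i.val = (m + 2 - (i.val + 1)) + 1 := by omega
    rw [this, pow_succ]
    ring
  · rw [dif_neg h, add_zero]
    have hi : i = Fin.last (m + 2) := by
      ext
      simp
      omega
    rw [hi]
    simp

theorem aMat_mulVec_last (m : ℕ) (F : Type*) [Field F] :
    aMat m F *ᵥ (Pi.single (Fin.last (m + 2)) 1 : Fin (m + 3) → F) = c1 m F := by
  ext i
  rw [aMat_mulVec_apply]
  unfold c1 pen
  by_cases h : i.val + 1 < m + 3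
  · rw [dif_pos h]
    have hi : i ≠ Fin.last (m + 2) := by
      intro h'
      rw [h'] at h
      simp at h
    simp only [Pi.add_apply, Pi.single_apply, if_neg hi, zero_add]
    by_cases h2 : i.val = m + 1
    · have e1 : (⟨i.val + 1, h⟩ : Fin (m + 3)) = Fin.last (m + 2) := by
        ext; simp [h2]
      have e2 : i = ⟨m + 1, by omega⟩ := by
        ext; simp [h2]
      rw [if_pos e1, if_pos e2]
    · have e1 : (⟨i.val + 1, h⟩ : Fin (m + 3)) ≠ Fin.last (m + 2) := by
        intro h'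
        have := congrArg Fin.val h'
        simp at this
        omega
      have e2 : i ≠ ⟨m + 1, by omega⟩ := by
        intro h'
        have := congrArg Fin.val h'
        simp at this
        omega
      rw [if_neg e1, if_neg e2]
  · rw [dif_neg h, add_zero]
    have hi : i = Fin.last (m + 2) := by
      ext
      simp
      omega
    rw [hi]
    have e2 : Fin.last (m + 2) ≠ (⟨m + 1, by omega⟩ : Fin (m + 3)) := by
      intro h'
      have := congrArg Fin.val h'
      simp at this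
    simp [e2]

/-- the matrix of `u⁻¹ v` -/
def D1 (m : ℕ) (F : Type*) [Field F] (l : F) : Matrix (Fin (m + 3)) (Fin (m + 3)) F :=
  1 + l • (vecMulVec (cm1 m F) (f1 m F) -
    vecMulVec (Pi.single (Fin.last (m + 2)) 1) (Pi.single 0 1))

theorem single_eq_vecMulVec {n : ℕ} {F : Type*} [Field F] (i j : Fin n) (l : F) :
    Matrix.single i j l = l • vecMulVec (Pi.single i 1 : Fin n → F) (Pi.single j 1) := by
  ext a b
  rw [Matrix.smul_apply, vecMulVec_apply, Matrix.single_apply, Pi.single_apply, Pi.single_apply]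
  by_cases h1 : a = i <;> by_cases h2 : b = j
  · subst h1; subst h2; simp
  · subst h1
    have : ¬ (j = b) := fun h => h2 h.symm
    simp [h2, this]
  · subst h2
    have : ¬ (i = a) := fun h => h1 h.symm
    simp [h1, this]
  · have : ¬ (i = a) := fun h => h1 h.symm
    simp [h1, h2, this]

theorem aMat_mul_D1 (m : ℕ) (F : Type*) [Field F] (l : F) :
    aMat m F * D1 m F l = v4 m F l := by
  unfold D1 v4
  rw [Matrix.mul_add, Matrix.mul_one, Matrix.mul_smul, Matrix.mul_sub, mul_vecMulVec,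
    mul_vecMulVec, aMat_mulVec_cm1, aMat_mulVec_last, single_eq_vecMulVec, single_eq_vecMulVec]
  unfold f1 c1
  rw [vecMulVec_add, add_vecMulVec, smul_sub, smul_add, smul_add]
  abel


theorem cm1_zero (m : ℕ) (F : Type*) [Field F] : cm1 m F 0 = (-1) ^ m := by
  unfold cm1
  simp only [Fin.val_zero, Nat.sub_zero]
  rw [pow_add]
  simp

theorem cm1_one (m : ℕ) (F : Type*) [Field F] : cm1 m F 1 = -(-1) ^ m := by
  unfold cm1
  have : ((1 : Fin (m + 3)) : ℕ) = 1 := by simp
  rw [this]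
  have h2 : m + 2 - 1 = m + 1 := by omega
  rw [h2, pow_succ]
  ring

theorem D1_mulVec (m : ℕ) (F : Type*) [Field F] (l : F) (x : Fin (m + 3) → F)
    (hx0 : x 0 = 0) (hx1 : x 1 = 0) : D1 m F l *ᵥ x = x := by
  unfold D1
  rw [add_mulVec, one_mulVec, smul_mulVec, sub_mulVec, vecMulVec_mulVec, vecMulVec_mulVec,
    f1_dot, e0_dot, hx0, hx1]
  simp

theorem rho_vecMul_D1 (m : ℕ) (F : Type*) [Field F] (l : F) :
    ((Pi.single 0 1 : Fin (m + 3) → F) - (l * (-1) ^ m) • f1 m F) ᵥ* D1 m F l = Pi.single 0 1 := by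
  have hl0 : (Fin.last (m + 2) : Fin (m + 3)) ≠ 0 := by
    intro h; have := congrArg Fin.val h; simp at this
  have hl1 : (Fin.last (m + 2) : Fin (m + 3)) ≠ 1 := by
    intro h; have := congrArg Fin.val h; simp at this
  have e1 : ((Pi.single 0 1 : Fin (m + 3) → F) - (l * (-1) ^ m) • f1 m F) ⬝ᵥ cm1 m F = (-1) ^ m := by
    rw [sub_dotProduct, smul_dotProduct, f1_dot, e0_dot, cm1_zero, cm1_one]
    simp
  have e2 : ((Pi.single 0 1 : Fin (m + 3) → F) - (l * (-1) ^ m) • f1 m F) ⬝ᵥ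
      (Pi.single (Fin.last (m + 2)) 1 : Fin (m + 3) → F) = 0 := by
    rw [sub_dotProduct, smul_dotProduct, f1_dot, e0_dot]
    simp [hl0.symm, hl1.symm]
  unfold D1
  rw [Matrix.vecMul_add, vecMul_one, Matrix.vecMul_smul, Matrix.vecMul_sub, vecMul_vecMulVec,
    vecMul_vecMulVec, e1, e2]
  simp only [zero_smul, sub_zero]
  rw [smul_smul]
  abel

theorem up_step {m : ℕ} {F : Type*} [Field F]
    {G : Subgroup (SpecialLinearGroup (Fin (m + 3)) F)} (l : F)
    (ha : InG G (aMat m F)) (hv : InG G (v4 m F l))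
    (x : Fin (m + 3) → F) (hx0 : x 0 = 0) (hx1 : x 1 = 0)
    (hx : InG G (tvm x (Pi.single 0 1))) :
    InG G (tvm ((l * (-1) ^ (m + 1)) • (aMat m F *ᵥ x)) (Pi.single 0 1)) := by
  have hD : InG G (D1 m F l) := inG_of_mul_left ha (by rw [aMat_mul_D1]; exact hv)
  set ρ : Fin (m + 3) → F := (Pi.single 0 1 : Fin (m + 3) → F) - (l * (-1) ^ m) • f1 m F with hρ
  have h1 : InG G (tvm x ρ * D1 m F l) := by
    have := mul_tvm (D1 m F l) x ρ
    rw [rho_vecMul_D1, D1_mulVec m F l x hx0 hx1] at this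
    rw [← this]
    exact inG_mul hD hx
  have h2 : InG G (tvm x ρ) := inG_of_mul_right hD h1
  set y : Fin (m + 3) → F := (-(l * (-1) ^ m)) • x with hy
  have h3 : tvm x (Pi.single 0 1) * tvm y (f1 m F) = tvm x ρ := by
    have hQ : vecMulVec y (f1 m F) = -((l * (-1) ^ m) • vecMulVec x (f1 m F)) := by
      rw [hy, smul_vecMulVec, neg_smul]
    have hPQ : vecMulVec x (Pi.single 0 1) * vecMulVec y (f1 m F) = 0 := by
      rw [vecMulVec_mul_vecMulVec, hy, dotProduct_smul, e0_dot, hx0, smul_zero, zero_smul,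
        vecMulVec_zero]
    have hR : vecMulVec x ρ = vecMulVec x (Pi.single 0 1) - (l * (-1) ^ m) • vecMulVec x (f1 m F) := by
      rw [hρ, vecMulVec_sub, vecMulVec_smul]
    unfold tvm
    rw [Matrix.mul_add, Matrix.add_mul, Matrix.one_mul, Matrix.mul_one, Matrix.add_mul,
      Matrix.one_mul, hPQ, hR, hQ]
    abel
  have h4 : InG G (tvm y (f1 m F)) := inG_of_mul_left hx (by rw [h3]; exact h2)
  have h5 : InG G (tvm (aMat m F *ᵥ y) (Pi.single 0 1) * aMat m F) := by
    rw [← mul_tvm, e0_vecMul_aMat]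
    exact inG_mul ha h4
  have h6 : InG G (tvm (aMat m F *ᵥ y) (Pi.single 0 1)) := inG_of_mul_right ha h5
  have h7 : aMat m F *ᵥ y = (l * (-1) ^ (m + 1)) • (aMat m F *ᵥ x) := by
    rw [hy, mulVec_smul, pow_succ]
    congr 1
    ring
  rw [h7] at h6
  exact h6


theorem down_step {m : ℕ} {F : Type*} [Field F]
    {G : Subgroup (SpecialLinearGroup (Fin (m + 3)) F)}
    (ha : InG G (aMat m F))
    (y : Fin (m + 3) → F) (hy0 : y 0 = 0) (hy : InG G (tvm y (Pi.single 0 1)))
    (x : Fin (m + 3) → F) (hx0 : x 0 = 0) (hx1 : x 1 = 0)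
    (hx : InG G (tvm (aMat m F *ᵥ x) (Pi.single 0 1))) :
    InG G (tvm ((-(y 1)) • x) (Pi.single 0 1)) := by
  have h1 : InG G (aMat m F * tvm x ((Pi.single 0 1 : Fin (m + 3) → F) ᵥ* aMat m F)) := by
    rw [mul_tvm]
    exact inG_mul hx ha
  rw [e0_vecMul_aMat] at h1
  have h2 : InG G (tvm x (f1 m F)) := inG_of_mul_left ha h1
  have d1 : (Pi.single 0 1 : Fin (m + 3) → F) ⬝ᵥ y = 0 := by rw [e0_dot, hy0]
  have d2 : f1 m F ⬝ᵥ x = 0 := by rw [f1_dot, hx0, hx1, add_zero]
  have d3 : (Pi.single 0 1 : Fin (m + 3) → F) ⬝ᵥ x = 0 := by rw [e0_dot, hx0]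
  have hc := tvm_comm y (Pi.single 0 1) x (f1 m F) d1 d2 d3
  have h3 : InG G (tvm y (Pi.single 0 1) * tvm x (f1 m F) * tvm (-y) (Pi.single 0 1) *
      tvm (-x) (f1 m F)) :=
    inG_mul (inG_mul (inG_mul hy h2) (inG_tvm_neg d1 hy)) (inG_tvm_neg d2 h2)
  rw [hc, f1_dot, hy0, zero_add] at h3
  exact h3


end Cfsg.Agent.Lib.Helper02.RU4
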