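import Mathlib
import Cfsg.Agent.Lib.Helper73.RUDefs
import Cfsg.Agent.Lib.Helper73.RUHub
import Cfsg.Agent.Lib.Helper02.RU4Defs

set_option autoImplicit false

namespace Cfsg.Agent.Lib.Helper02.RU4

open Matrix Cfsg.Agent.Lib.Helper73.RU Cfsg.Agent.Lib.Helper73.RUSpec

/-- the alternating row `e_0ᵀ a⁻¹` -/
def p1 (m : ℕ) (F : Type*) [Field F] : Fin (m + 3) → F := fun i => (-1) ^ i.val

/-- the three columns `c₋₁, c₀, c₁` -/
def Cm (m : ℕ) (F : Type*) [Field F] : Matrix (Fin (m + 3)) (Fin 3) F :=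
  Matrix.of fun i j => ![cm1 m F i, (Pi.single (Fin.last (m + 2)) 1 : Fin (m + 3) → F) i, c1 m F i] j

/-- the three rows `φ₋₁, φ₀, φ₁` -/
def Pm (m : ℕ) (F : Type*) [Field F] : Matrix (Fin 3) (Fin (m + 3)) F :=
  Matrix.of fun i j => ![f1 m F j, (Pi.single 0 1 : Fin (m + 3) → F) j, p1 m F j] i

/-- `Φ X = 1 + C X P` -/
def Ph (m : ℕ) (F : Type*) [Field F] (X : Matrix (Fin 3) (Fin 3) F) :
    Matrix (Fin (m + 3)) (Fin (m + 3)) F := 1 + Cm m F * X * Pm m F

theorem Ph_mul (m : ℕ) (F : Type*) [Field F] (X Y : Matrix (Fin 3) (Fin 3) F) :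
    Ph m F X * Ph m F Y = Ph m F (X + Y + X * (Pm m F * Cm m F) * Y) := by
  unfold Ph
  rw [Matrix.mul_add, Matrix.add_mul, Matrix.add_mul, Matrix.one_mul, Matrix.mul_one, Matrix.one_mul]
  have : Cm m F * X * Pm m F * (Cm m F * Y * Pm m F) =
      Cm m F * (X * (Pm m F * Cm m F) * Y) * Pm m F := by
    simp only [Matrix.mul_assoc]
  rw [this, Matrix.mul_add, Matrix.mul_add, Matrix.add_mul, Matrix.add_mul]
  abel

theorem Ph_eq (m : ℕ) (F : Type*) [Field F] (X : Matrix (Fin 3) (Fin 3) F) :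
    Ph m F X = 1 + ∑ i : Fin 3, ∑ j : Fin 3, X i j •
      vecMulVec (fun a => Cm m F a i) (fun b => Pm m F j b) := by
  unfold Ph
  congr 1
  ext a b
  simp only [Matrix.mul_apply, Matrix.sum_apply, Matrix.smul_apply, vecMulVec_apply, smul_eq_mul,
    Finset.sum_mul]
  rw [Finset.sum_comm]
  refine Finset.sum_congr rfl fun i _ => Finset.sum_congr rfl fun j _ => ?_
  ring


theorem last_ne_zero' (m : ℕ) : (Fin.last (m + 2) : Fin (m + 3)) ≠ 0 := by
  intro h; have := congrArg Fin.val h; simp at this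

theorem last_ne_one' (m : ℕ) : (Fin.last (m + 2) : Fin (m + 3)) ≠ 1 := by
  intro h; have := congrArg Fin.val h; simp at this

theorem pen_ne_zero' (m : ℕ) : pen m ≠ 0 := by
  intro h; have := congrArg Fin.val h; simp [pen] at this

theorem pen_ne_one' (m : ℕ) (hm : 1 ≤ m) : pen m ≠ 1 := by
  intro h; have := congrArg Fin.val h; simp [pen] at this; omega

theorem c1_zero (m : ℕ) (F : Type*) [Field F] : c1 m F 0 = 0 := by
  unfold c1
  simp [Pi.single_apply, (last_ne_zero' m).symm, (pen_ne_zero' m).symm]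

theorem c1_one (m : ℕ) (F : Type*) [Field F] (hm : 1 ≤ m) : c1 m F 1 = 0 := by
  unfold c1
  simp [Pi.single_apply, (last_ne_one' m).symm, (pen_ne_one' m hm).symm]

theorem p1_dot_single (m : ℕ) (F : Type*) [Field F] (j : Fin (m + 3)) :
    p1 m F ⬝ᵥ (Pi.single j 1 : Fin (m + 3) → F) = (-1) ^ j.val := by
  rw [dotProduct_single, mul_one]
  rfl

theorem p1_dot_c1 (m : ℕ) (F : Type*) [Field F] : p1 m F ⬝ᵥ c1 m F = 0 := by
  unfold c1
  rw [dotProduct_add, p1_dot_single, p1_dot_single]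
  simp only [Fin.val_last, pen]
  rw [pow_succ]
  ring

theorem PmCm (m : ℕ) (F : Type*) [Field F] (hm : 1 ≤ m) :
    Pm m F * Cm m F = !![0, 0, 0; (-1) ^ m, 0, 0; p1 m F ⬝ᵥ cm1 m F, (-1) ^ m, 0] := by
  have hd : ∀ i j, (Pm m F * Cm m F) i j = (fun b => Pm m F i b) ⬝ᵥ (fun a => Cm m F a j) := by
    intro i j
    rw [Matrix.mul_apply]
    rfl
  have e2 : (-1 : F) ^ (m + 2) = (-1) ^ m := by
    rw [pow_add]; simp
  ext i j
  rw [hd]
  fin_cases i <;> fin_cases j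
  · show f1 m F ⬝ᵥ cm1 m F = 0
    rw [f1_dot, cm1_zero, cm1_one]; ring
  · show f1 m F ⬝ᵥ (Pi.single (Fin.last (m + 2)) 1 : Fin (m + 3) → F) = 0
    rw [f1_dot]; simp [Pi.single_apply, (last_ne_zero' m).symm, (last_ne_one' m).symm]
  · show f1 m F ⬝ᵥ c1 m F = 0
    rw [f1_dot, c1_zero, c1_one m F hm, add_zero]
  · show (Pi.single 0 1 : Fin (m + 3) → F) ⬝ᵥ cm1 m F = (-1) ^ m
    rw [e0_dot, cm1_zero]
  · show (Pi.single 0 1 : Fin (m + 3) → F) ⬝ᵥ (Pi.single (Fin.last (m + 2)) 1 : Fin (m + 3) → F) = 0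
    rw [e0_dot]; simp [Pi.single_apply, (last_ne_zero' m).symm]
  · show (Pi.single 0 1 : Fin (m + 3) → F) ⬝ᵥ c1 m F = 0
    rw [e0_dot, c1_zero]
  · show p1 m F ⬝ᵥ cm1 m F = p1 m F ⬝ᵥ cm1 m F
    rfl
  · show p1 m F ⬝ᵥ (Pi.single (Fin.last (m + 2)) 1 : Fin (m + 3) → F) = (-1) ^ m
    rw [p1_dot_single, Fin.val_last, e2]
  · show p1 m F ⬝ᵥ c1 m F = 0
    exact p1_dot_c1 m F


theorem vecMul_aMat_apply (m : ℕ) (F : Type*) [Field F] (v : Fin (m + 3) → F) (j : Fin (m + 3)) :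
    (v ᵥ* aMat m F) j =
      v j + (if h : 0 < j.val then v ⟨j.val - 1, by have := j.isLt; omega⟩ else 0) := by
  unfold aMat
  rw [vecMul, dotProduct]
  simp only [of_apply]
  by_cases h : 0 < j.val
  · rw [dif_pos h]
    have hne : j ≠ ⟨j.val - 1, by have := j.isLt; omega⟩ := by
      intro h'
      have := congrArg Fin.val h'
      simp at this
      omega
    rw [Finset.sum_eq_add_of_mem j ⟨j.val - 1, by have := j.isLt; omega⟩ (Finset.mem_univ _)
      (Finset.mem_univ _) hne]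
    · have h1 : (⟨j.val - 1, by have := j.isLt; omega⟩ : Fin (m + 3)).val + 1 = j.val := by
        simp; omega
      simp [h1]
    · intro c _ hc
      have h1 : ¬ (c = j ∨ c.val + 1 = j.val) := by
        rintro (h1 | h1)
        · exact hc.1 h1
        · apply hc.2
          ext
          simp
          omega
      rw [if_neg h1, mul_zero]
  · rw [dif_neg h, add_zero]
    rw [Finset.sum_eq_single j]
    · simp
    · intro c _ hc
      have h1 : ¬ (c = j ∨ c.val + 1 = j.val) := by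
        rintro (h1 | h1)
        · exact hc h1
        · omega
      rw [if_neg h1, mul_zero]
    · intro h'
      exact absurd (Finset.mem_univ _) h'

theorem p1_vecMul_aMat (m : ℕ) (F : Type*) [Field F] :
    p1 m F ᵥ* aMat m F = Pi.single 0 1 := by
  ext j
  rw [vecMul_aMat_apply]
  unfold p1
  by_cases h : 0 < j.val
  · rw [dif_pos h]
    have hj : j ≠ 0 := by
      intro h'
      rw [h'] at h
      simp at h
    rw [Pi.single_apply, if_neg hj]
    simp only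
    have : j.val = (j.val - 1) + 1 := by omega
    rw [this, pow_succ]
    simp
  · rw [dif_neg h, add_zero]
    have hj : j = 0 := by
      apply Fin.ext
      rw [Fin.val_zero]
      omega
    rw [hj]
    simp


def X1 (F : Type*) [Field F] (l : F) : Matrix (Fin 3) (Fin 3) F := !![l, 0, 0; 0, -l, 0; 0, 0, 0]

def X0 (F : Type*) [Field F] (l : F) : Matrix (Fin 3) (Fin 3) F := !![0, 0, 0; 0, l, 0; 0, 0, -l]

def Y3 (F : Type*) [Field F] (l ε ν : F) : Matrix (Fin 3) (Fin 3) F :=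
  !![0, 0, 0; -(l ^ 2 * ε), 0, 0; l ^ 2 * ν + l ^ 3, -(l ^ 2 * ε), 0]

def T3 (F : Type*) [Field F] (l : F) : Matrix (Fin 3) (Fin 3) F := !![0, 0, 0; 0, 0, 0; l ^ 3, 0, 0]

theorem col0 (m : ℕ) (F : Type*) [Field F] : (fun a => Cm m F a 0) = cm1 m F := rfl
theorem col1 (m : ℕ) (F : Type*) [Field F] :
    (fun a => Cm m F a 1) = (Pi.single (Fin.last (m + 2)) 1 : Fin (m + 3) → F) := rfl
theorem col2 (m : ℕ) (F : Type*) [Field F] : (fun a => Cm m F a 2) = c1 m F := rfl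
theorem row0 (m : ℕ) (F : Type*) [Field F] : (fun b => Pm m F 0 b) = f1 m F := rfl
theorem row1 (m : ℕ) (F : Type*) [Field F] :
    (fun b => Pm m F 1 b) = (Pi.single 0 1 : Fin (m + 3) → F) := rfl
theorem row2 (m : ℕ) (F : Type*) [Field F] : (fun b => Pm m F 2 b) = p1 m F := rfl

theorem Ph_X1 (m : ℕ) (F : Type*) [Field F] (l : F) : Ph m F (X1 F l) = D1 m F l := by
  rw [Ph_eq]
  unfold D1 X1
  simp only [Fin.sum_univ_three, col0, col1, col2, row0, row1, row2]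
  simp [smul_sub]
  abel

theorem Ph_X0 (m : ℕ) (F : Type*) [Field F] (l : F) :
    Ph m F (X0 F l) = 1 + l • (vecMulVec (Pi.single (Fin.last (m + 2)) 1) (Pi.single 0 1) -
      vecMulVec (c1 m F) (p1 m F)) := by
  rw [Ph_eq]
  unfold X0
  simp only [Fin.sum_univ_three, col0, col1, col2, row0, row1, row2]
  simp [smul_sub]
  abel

theorem Ph_X0_mul_aMat (m : ℕ) (F : Type*) [Field F] (l : F) :
    Ph m F (X0 F l) * aMat m F = v4 m F l := by
  rw [Ph_X0]
  unfold v4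
  rw [Matrix.add_mul, Matrix.one_mul, Matrix.smul_mul, Matrix.sub_mul, vecMulVec_mul,
    vecMulVec_mul, e0_vecMul_aMat, p1_vecMul_aMat, single_eq_vecMulVec, single_eq_vecMulVec]
  unfold f1 c1
  rw [vecMulVec_add, add_vecMulVec, smul_sub, smul_add, smul_add]
  abel

theorem Ph_T3 (m : ℕ) (F : Type*) [Field F] (l : F) :
    Ph m F (T3 F l) = tvm (l ^ 3 • c1 m F) (f1 m F) := by
  rw [Ph_eq]
  unfold T3 tvm
  simp only [Fin.sum_univ_three, col0, col1, col2, row0, row1, row2]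
  simp [smul_vecMulVec]


theorem ident1 (F : Type*) [Field F] (l ε ν : F) (hε : ε * ε = 1) :
    X1 F l + X0 F l + X1 F l * !![0, 0, 0; ε, 0, 0; ν, ε, 0] * X0 F l =
      (Y3 F l ε ν + X0 F l + Y3 F l ε ν * !![0, 0, 0; ε, 0, 0; ν, ε, 0] * X0 F l) + X1 F l +
        (Y3 F l ε ν + X0 F l + Y3 F l ε ν * !![0, 0, 0; ε, 0, 0; ν, ε, 0] * X0 F l) *
          !![0, 0, 0; ε, 0, 0; ν, ε, 0] * X1 F l := by
  unfold X1 X0 Y3
  ext i j
  fin_cases i <;> fin_cases j <;>
    simp [Matrix.mul_apply, Fin.sum_univ_three, Matrix.add_apply] <;>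
    first
      | ring1
      | linear_combination (l ^ 3) * hε


theorem ident2 (F : Type*) [Field F] (l ε ν : F) (hε : ε * ε = 1) :
    X1 F l + Y3 F l ε ν + X1 F l * !![0, 0, 0; ε, 0, 0; ν, ε, 0] * Y3 F l ε ν =
      (T3 F l + Y3 F l ε ν + T3 F l * !![0, 0, 0; ε, 0, 0; ν, ε, 0] * Y3 F l ε ν) + X1 F l +
        (T3 F l + Y3 F l ε ν + T3 F l * !![0, 0, 0; ε, 0, 0; ν, ε, 0] * Y3 F l ε ν) *
          !![0, 0, 0; ε, 0, 0; ν, ε, 0] * X1 F l := by
  unfold X1 T3 Y3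
  ext i j
  fin_cases i <;> fin_cases j <;>
    simp [Matrix.mul_apply, Fin.sum_univ_three, Matrix.add_apply] <;>
    first
      | ring1
      | linear_combination (l ^ 3) * hε



/-- LEAF B: the transvection `[d₋₁,[d₋₁,d₀]] = 1 + l³ c₁ φ₋₁ᵀ`, `d₋₁ = u⁻¹ v`, `d₀ = v u⁻¹` -/
theorem tv_mem {m : ℕ} {F : Type*} [Field F] (hm : 1 ≤ m)
    {G : Subgroup (SpecialLinearGroup (Fin (m + 3)) F)} (l : F)
    (ha : InG G (aMat m F)) (hv : InG G (v4 m F l)) :
    InG G (tvm (l ^ 3 • c1 m F) (f1 m F)) := by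
  set ε : F := (-1) ^ m with hε
  set ν : F := p1 m F ⬝ᵥ cm1 m F with hν
  have hεε : ε * ε = 1 := by
    rw [hε, ← pow_add, ← two_mul, pow_mul]
    simp
  have hK := PmCm m F hm
  rw [← hε, ← hν] at hK
  have hD1 : InG G (Ph m F (X1 F l)) := by
    rw [Ph_X1]
    exact inG_of_mul_left ha (by rw [aMat_mul_D1]; exact hv)
  have hD0 : InG G (Ph m F (X0 F l)) :=
    inG_of_mul_right ha (by rw [Ph_X0_mul_aMat]; exact hv)
  -- the inner commutator
  have hY : InG G (Ph m F (Y3 F l ε ν)) := by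
    have h1 : Ph m F (X1 F l) * Ph m F (X0 F l) =
        Ph m F (Y3 F l ε ν) * (Ph m F (X0 F l) * Ph m F (X1 F l)) := by
      rw [← Matrix.mul_assoc, Ph_mul, Ph_mul, Ph_mul, hK, ident1 F l ε ν hεε]
    refine inG_of_mul_right (inG_mul hD0 hD1) ?_
    rw [← h1]
    exact inG_mul hD1 hD0
  have hT : InG G (Ph m F (T3 F l)) := by
    have h1 : Ph m F (X1 F l) * Ph m F (Y3 F l ε ν) =
        Ph m F (T3 F l) * (Ph m F (Y3 F l ε ν) * Ph m F (X1 F l)) := by
      rw [← Matrix.mul_assoc, Ph_mul, Ph_mul, Ph_mul, hK, ident2 F l ε ν hεε]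
    refine inG_of_mul_right (inG_mul hY hD1) ?_
    rw [← h1]
    exact inG_mul hD1 hY
  rw [Ph_T3] at hT
  exact hT

end Cfsg.Agent.Lib.Helper02.RU4
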