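import Mathlib
import Cfsg.Agent.Lib.Helper73.RUDefs
import Cfsg.Agent.Lib.Helper73.RUHub
import Cfsg.Agent.Lib.Helper02.RU4Defs
import Cfsg.Agent.Lib.Helper02.RU4B
import Cfsg.Agent.Lib.Helper21.RU4A
import Cfsg.Agent.Lib.Helper27.RU4G
import Cfsg.Agent.Lib.Helper23.RU4H
import Cfsg.Agent.Lib.Helper23.RU4J
import Cfsg.Agent.Lib.Helper71.RU4K
import Cfsg.Agent.Lib.Helper45.RU4L
import Cfsg.Agent.Lib.Helper20.RU3F2

set_option autoImplicit false

/-!
# S2279: `SL_n(F)`, `n ≥ 4`, `F` any finite field, is generated by the upper Jordan block `u` and its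
conjugate `g u g⁻¹`, `g = 1 + l E_{last,0}`, `l` a generator of `Fˣ` (pack K-RU4, glue)
-/

namespace Cfsg.Agent.Lib.Helper02.RU4

open Matrix Cfsg.Agent.Lib.Helper73.RU Cfsg.Agent.Lib.Helper73.RUSpec

theorem det_g4 (m : ℕ) (F : Type*) [Field F] (l : F) : (g4 m F l).det = 1 :=
  Cfsg.Agent.Lib.Helper21.RU4.det_g4 m F l

theorem g4_mul_aMat (m : ℕ) (F : Type*) [Field F] (l : F) :
    g4 m F l * aMat m F = v4 m F l * g4 m F l :=
  Cfsg.Agent.Lib.Helper21.RU4.g4_mul_aMat m F l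

/-! ## GLUE -/

theorem ck_apply {m : ℕ} {F : Type*} [Field F]
    (hH : ∀ (k : ℕ) (i j : Fin (m + 3)),
      (aMat m F ^ k) i j = if i.val ≤ j.val then ((Nat.choose k (j.val - i.val) : ℕ) : F) else 0)
    (k : ℕ) (i : Fin (m + 3)) : ck m F k i = ((Nat.choose k (m + 2 - i.val) : ℕ) : F) := by
  unfold ck
  rw [mulVec_single_one]
  simp only [Matrix.col_apply]
  rw [hH, if_pos (by have := i.isLt; simp; omega)]
  simp

theorem ck_succ (m : ℕ) (F : Type*) [Field F] (k : ℕ) :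
    ck m F (k + 1) = aMat m F *ᵥ ck m F k := by
  unfold ck
  rw [pow_succ', mulVec_mulVec]

theorem ck_zero (m : ℕ) (F : Type*) [Field F] :
    ck m F 0 = Pi.single (Fin.last (m + 2)) 1 := by
  unfold ck
  rw [pow_zero, one_mulVec]

theorem ck_two (m : ℕ) (F : Type*) [Field F] : ck m F 2 = aMat m F *ᵥ c1 m F := by
  rw [ck_succ, ck_succ, ck_zero, aMat_mulVec_last]

/-- the matrix of a conjugate -/
theorem coe_conj_eq' {n : ℕ} {F : Type*} [Field F] (g u : SpecialLinearGroup (Fin n) F)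
    (B : Matrix (Fin n) (Fin n) F)
    (h : (g : Matrix (Fin n) (Fin n) F) * (u : Matrix (Fin n) (Fin n) F) =
      B * (g : Matrix (Fin n) (Fin n) F)) :
    ((g * u * g⁻¹ : SpecialLinearGroup (Fin n) F) : Matrix (Fin n) (Fin n) F) = B := by
  have h1 : (g : Matrix (Fin n) (Fin n) F) *
      ((g⁻¹ : SpecialLinearGroup (Fin n) F) : Matrix (Fin n) (Fin n) F) = 1 := by
    have hd := g.2
    simp [mul_adjugate, hd]
  have h2 : ((g * u * g⁻¹ : SpecialLinearGroup (Fin n) F) : Matrix (Fin n) (Fin n) F) =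
      (g : Matrix (Fin n) (Fin n) F) * (u : Matrix (Fin n) (Fin n) F) *
        ((g⁻¹ : SpecialLinearGroup (Fin n) F) : Matrix (Fin n) (Fin n) F) := by
    simp
  rw [h2, h, Matrix.mul_assoc, h1, Matrix.mul_one]

/-- `⟨a, v4 l⟩ = SL` for a generator `l` of `Fˣ` -/
theorem eq_top_of_gen {m : ℕ} {F : Type*} [Field F] [Fintype F] (hm : 1 ≤ m)
    (l : F) (hl0 : l ≠ 0) (hl : ∀ x : F, x ≠ 0 → ∃ k : ℕ, x = l ^ (k + 1))
    (G : Subgroup (SpecialLinearGroup (Fin (m + 3)) F))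
    (ha : InG G (aMat m F)) (hv : InG G (v4 m F l)) : G = ⊤ := by
  have hH := Cfsg.Agent.Lib.Helper23.RU4x.aMat_pow_apply m F
  set e : Fin (m + 3) → F := Pi.single 0 1 with he
  have hedot : ∀ v : Fin (m + 3) → F, e ⬝ᵥ v = v 0 := fun v => e0_dot m F v
  let M : Set (Fin (m + 3) → F) := {v | v 0 = 0 ∧ InG G (tvm v e)}
  have hadd : ∀ v w, v ∈ M → w ∈ M → v + w ∈ M := fun v w hv hw =>
    ⟨by rw [Pi.add_apply, hv.1, hw.1, add_zero], by
      rw [← tvm_mul_tvm v w e (by rw [hedot]; exact hw.1)]; exact inG_mul hv.2 hw.2⟩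
  have hneg : ∀ v, v ∈ M → -v ∈ M := fun v hv =>
    ⟨by rw [Pi.neg_apply, hv.1, neg_zero], inG_tvm_neg (by rw [hedot]; exact hv.1) hv.2⟩
  have h0M : (0 : Fin (m + 3) → F) ∈ M := ⟨rfl, by rw [tvm_zero]; exact inG_one⟩
  -- the coordinates of `c_k`
  have hck0 : ∀ k, k ≤ m + 1 → ck m F k 0 = 0 := by
    intro k hk
    rw [ck_apply hH]
    simp only [Fin.val_zero, Nat.sub_zero]
    rw [Nat.choose_eq_zero_of_lt (by omega), Nat.cast_zero]
  have hck1 : ∀ k, k ≤ m → ck m F k 1 = 0 := by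
    intro k hk
    rw [ck_apply hH]
    have : ((1 : Fin (m + 3)) : ℕ) = 1 := by simp
    rw [this, Nat.choose_eq_zero_of_lt (by omega), Nat.cast_zero]
  -- the additive groups `S k`
  let S : ℕ → AddSubgroup F := fun k =>
    { carrier := {s | k ≤ m + 1 → s • ck m F k ∈ M}
      zero_mem' := by
        intro _
        rw [zero_smul]
        exact h0M
      add_mem' := by
        intro a b ha' hb' hk
        rw [add_smul]
        exact hadd _ _ (ha' hk) (hb' hk)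
      neg_mem' := by
        intro a ha' hk
        rw [neg_smul]
        exact hneg _ (ha' hk) }
  have hSmem : ∀ k s, s ∈ S k ↔ (k ≤ m + 1 → s • ck m F k ∈ M) := fun k s => Iff.rfl
  have hpm : ∀ (k j : ℕ) (s : F), ((-1 : F) ^ j * s) ∈ S k → s ∈ S k := by
    intro k j s hs
    rcases neg_one_pow_eq_or F j with h | h
    · rwa [h, one_mul] at hs
    · rw [h, neg_one_mul] at hs
      simpa using (S k).neg_mem hs
  have hUP : ∀ k, k + 3 ≤ m + 3 → ∀ s ∈ S k, l * s ∈ S (k + 1) := by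
    intro k hk s hs
    have hk' : k ≤ m := by omega
    have hsM := (hSmem k s).1 hs (by omega)
    have h1 := up_step l ha hv (s • ck m F k) hsM.1
      (by rw [Pi.smul_apply, hck1 k hk', smul_zero]) hsM.2
    refine hpm (k + 1) (m + 1) _ ?_
    rw [hSmem]
    intro _
    refine ⟨by rw [Pi.smul_apply, hck0 (k + 1) (by omega), smul_zero], ?_⟩
    have h2 : (l * (-1) ^ (m + 1)) • (aMat m F *ᵥ (s • ck m F k)) =
        ((-1) ^ (m + 1) * (l * s)) • ck m F (k + 1) := by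
      rw [mulVec_smul, smul_smul, ck_succ]
      congr 1
      ring
    rw [← h2]
    exact h1
  have hR : ∀ i i' r : ℕ, i + 2 ≤ m + 3 → i' + 2 ≤ m + 3 → m + 3 - 1 + r ≤ i + i' →
      ∀ s ∈ S i, ∀ s' ∈ S i',
      ((Nat.choose (m + 3 - 1 + r) (m + 3 - 1) : ℕ) : F) * s * s' ∈ S (i + i' - (m + 3 - 1) - r) := by
    intro i i' r hi hi' hr s hs s' hs'
    have e1 : m + 3 - 1 = m + 2 := rfl
    rw [e1] at hr ⊢
    have hsM := (hSmem i s).1 hs (by omega)
    have hsM' := (hSmem i' s').1 hs' (by omega)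
    have h1 := Cfsg.Agent.Lib.Helper23.RU4x.rel_R hH ha i i' r (by omega) (by omega) hr s s' hsM.2 hsM'.2
    have h2 : -(((Nat.choose (m + 2 + r) (m + 2) : ℕ) : F) * s * s') ∈ S (i + i' - (m + 2) - r) := by
      rw [hSmem]
      intro hk
      exact ⟨by rw [Pi.smul_apply, hck0 _ hk, smul_zero], h1⟩
    simpa using (S _).neg_mem h2
  have h3 : l ^ 3 ∈ S 2 := by
    rw [hSmem]
    intro _
    have h := tv_mem hm l ha hv
    have h7 : InG G (tvm (aMat m F *ᵥ (l ^ 3 • c1 m F)) e * aMat m F) := by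
      rw [← mul_tvm, e0_vecMul_aMat]
      exact inG_mul ha h
    have h8 : InG G (tvm (aMat m F *ᵥ (l ^ 3 • c1 m F)) e) := inG_of_mul_right ha h7
    rw [mulVec_smul, ← ck_two] at h8
    exact ⟨by rw [Pi.smul_apply, hck0 2 (by omega), smul_zero], h8⟩
  have hfill := Cfsg.Agent.Lib.Helper20.RU3.fill_of_relations2 (m + 3) (by omega) hl0 hl S hUP hR h3
  have hck : ∀ k, k ≤ m + 1 → ∀ s : F, s • ck m F k ∈ M := by
    intro k hk s
    have : s ∈ S k := by
      rw [hfill k (by omega)]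
      exact AddSubgroup.mem_top s
    exact (hSmem k s).1 this hk
  have hall := Cfsg.Agent.Lib.Helper71.RU4.tri_fill hH M h0M hadd hneg hck
  have hAx0 : e ∈ Ax G := by
    intro v hv'
    rw [hedot] at hv'
    exact (hall v hv').2
  exact eq_top_of_single_mem_Ax G (Cfsg.Agent.Lib.Helper27.RU4x.single_mem_Ax_up ha hAx0)

/-- both halves of S2279 at once -/
theorem main {F : Type*} [Field F] [Fintype F] (n : ℕ) (hn : 4 ≤ n) :
    ∃ u g : Matrix.SpecialLinearGroup (Fin n) F,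
      (IsNilpotent ((u : Matrix (Fin n) (Fin n) F) - 1) ∧
        ((u : Matrix (Fin n) (Fin n) F) - 1) ^ (n - 1) ≠ 0) ∧
      Subgroup.closure ({u, g * u * g⁻¹} : Set (Matrix.SpecialLinearGroup (Fin n) F)) = ⊤ := by
  obtain ⟨m, rfl, hm⟩ : ∃ m, n = m + 3 ∧ 1 ≤ m := ⟨n - 3, by omega, by omega⟩
  obtain ⟨l, hl0, hl⟩ := exists_gen F
  let u : SpecialLinearGroup (Fin (m + 3)) F := ⟨aMat m F, det_aMat m F⟩
  let g : SpecialLinearGroup (Fin (m + 3)) F := ⟨g4 m F l, det_g4 m F l⟩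
  refine ⟨u, g, ⟨isNilpotent_aMat_sub_one m F, aMat_sub_one_pow_ne_zero m F⟩, ?_⟩
  set G := Subgroup.closure ({u, g * u * g⁻¹} :
    Set (Matrix.SpecialLinearGroup (Fin (m + 3)) F)) with hG
  have hu : InG G (aMat m F) := ⟨u, Subgroup.subset_closure (by simp), rfl⟩
  have hv : InG G (v4 m F l) :=
    ⟨g * u * g⁻¹, Subgroup.subset_closure (by simp), coe_conj_eq' g u _ (g4_mul_aMat m F l)⟩
  exact eq_top_of_gen hm l hl0 hl G hu hv

end Cfsg.Agent.Lib.Helper02.RU4
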