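import Mathlib
import Cfsg.Agent.Lib.Helper13.Wielandt

set_option autoImplicit false

namespace Cfsg.Agent.Lib.Helper02

open scoped Pointwise

variable {G : Type*} [Group G]

/-- Relative subnormality inside the ambient group `G`: `RSn A K` says that there is a chain
`A = A₀ ⊴ A₁ ⊴ ⋯ ⊴ Aᵣ = K`. Built with steps at the top. -/
inductive RSn : Subgroup G → Subgroup G → Prop
  | refl (K : Subgroup G) : RSn K K
  | step (A M K : Subgroup G) : RSn A M → M ≤ K → K ≤ Subgroup.normalizer (M : Set G) → RSn A K

namespace RSn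

theorem le {A K : Subgroup G} (h : RSn A K) : A ≤ K := by
  induction h with
  | refl => exact le_rfl
  | step M K _ hMK _ ih => exact ih.trans hMK

theorem single {A K : Subgroup G} (h1 : A ≤ K) (h2 : K ≤ Subgroup.normalizer (A : Set G)) :
    RSn A K :=
  RSn.step A A K (RSn.refl A) h1 h2

theorem trans {A B K : Subgroup G} (h1 : RSn A B) (h2 : RSn B K) : RSn A K := by
  induction h2 with
  | refl => exact h1
  | step M K _ hMK hKN ih => exact RSn.step A M K ih hMK hKN

theorem inf_right {A K : Subgroup G} (h : RSn A K) (H : Subgroup G) : RSn (A ⊓ H) (K ⊓ H) := by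
  induction h with
  | refl => exact RSn.refl _
  | step M K _ hMK hKN ih =>
    refine RSn.step _ (M ⊓ H) _ ih (inf_le_inf_right H hMK) ?_
    exact (inf_le_inf hKN Subgroup.le_normalizer).trans Subgroup.inf_normalizer_le_normalizer_inf

/-- restriction to an intermediate subgroup -/
theorem restrict {A K H : Subgroup G} (h : RSn A K) (hAH : A ≤ H) (hHK : H ≤ K) : RSn A H := by
  have := h.inf_right H
  rwa [inf_of_le_left hAH, inf_of_le_right hHK] at this

theorem conj_normalizer (g : G) (M : Subgroup G) :
    MulAut.conj g • Subgroup.normalizer (M : Set G) =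
      Subgroup.normalizer ((MulAut.conj g • M : Subgroup G) : Set G) := by
  ext x
  rw [Subgroup.mem_pointwise_smul_iff_inv_smul_mem, Subgroup.mem_normalizer_iff,
    Subgroup.mem_normalizer_iff]
  constructor
  · intro h y
    rw [Subgroup.mem_pointwise_smul_iff_inv_smul_mem, Subgroup.mem_pointwise_smul_iff_inv_smul_mem]
    have := h ((MulAut.conj g)⁻¹ • y)
    simpa [MulAut.smul_def, mul_assoc] using this
  · intro h y
    have := h (MulAut.conj g • y)
    rw [Subgroup.mem_pointwise_smul_iff_inv_smul_mem, Subgroup.mem_pointwise_smul_iff_inv_smul_mem]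
      at this
    simpa [MulAut.smul_def, mul_assoc] using this

theorem conj {A K : Subgroup G} (h : RSn A K) (g : G) :
    RSn (MulAut.conj g • A) (MulAut.conj g • K) := by
  induction h with
  | refl => exact RSn.refl _
  | step M K _ hMK hKN ih =>
    refine RSn.step _ (MulAut.conj g • M) _ ih
      (Subgroup.pointwise_smul_le_pointwise_smul_iff.mpr hMK) ?_
    rw [← conj_normalizer]
    exact Subgroup.pointwise_smul_le_pointwise_smul_iff.mpr hKN

theorem comap {G' : Type*} [Group G'] (f : G' →* G) {A K : Subgroup G} (h : RSn A K) :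
    RSn (A.comap f) (K.comap f) := by
  induction h with
  | refl => exact RSn.refl _
  | step M K _ hMK hKN ih =>
    exact RSn.step _ (M.comap f) _ ih (Subgroup.comap_mono hMK)
      ((Subgroup.comap_mono hKN).trans (Subgroup.le_normalizer_comap f))

theorem isSubnormal_of_isSubnormal {A K : Subgroup G} (h : RSn A K) (hK : K.IsSubnormal) :
    A.IsSubnormal := by
  induction h with
  | refl => exact hK
  | step M K _ hMK hKN ih =>
    exact ih (Subgroup.IsSubnormal.step M K hMK hK
      ((Subgroup.normal_subgroupOf_iff_le_normalizer hMK).mpr hKN))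

theorem isSubnormal_of_top {A : Subgroup G} (h : RSn A ⊤) : A.IsSubnormal :=
  h.isSubnormal_of_isSubnormal Subgroup.IsSubnormal.top

theorem isSubnormal_subgroupOf {A K : Subgroup G} (h : RSn A K) :
    (A.subgroupOf K).IsSubnormal := by
  have h1 := h.comap K.subtype
  have h2 : K.comap K.subtype = ⊤ := Subgroup.subgroupOf_self K
  rw [h2] at h1
  exact h1.isSubnormal_of_top

theorem of_isSubnormal_map {G' : Type*} [Group G'] (f : G' →* G) {X : Subgroup G'}
    (hX : X.IsSubnormal) : RSn (X.map f) f.range := by
  induction hX with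
  | top => rw [← MonoidHom.range_eq_map]; exact RSn.refl _
  | step H K hHK _ hN ih =>
    refine RSn.trans (RSn.single (Subgroup.map_mono hHK) ?_) ih
    rw [Subgroup.normal_subgroupOf_iff_le_normalizer hHK] at hN
    exact (Subgroup.map_mono hN).trans (Subgroup.le_normalizer_map f)

theorem of_isSubnormal_subgroupOf {A K : Subgroup G} (hAK : A ≤ K)
    (h : (A.subgroupOf K).IsSubnormal) : RSn A K := by
  have h1 := of_isSubnormal_map K.subtype h
  rwa [Subgroup.map_subgroupOf_eq_of_le hAK, Subgroup.range_subtype] at h1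

theorem iff_isSubnormal_subgroupOf {A K : Subgroup G} :
    RSn A K ↔ A ≤ K ∧ (A.subgroupOf K).IsSubnormal :=
  ⟨fun h => ⟨h.le, h.isSubnormal_subgroupOf⟩, fun h => of_isSubnormal_subgroupOf h.1 h.2⟩

/-- Wielandt's join theorem, relative form. -/
theorem sup [Finite G] {A B K : Subgroup G} (hA : RSn A K) (hB : RSn B K) : RSn (A ⊔ B) K := by
  apply of_isSubnormal_subgroupOf (sup_le hA.le hB.le)
  rw [Subgroup.subgroupOf_sup hA.le hB.le]
  exact Cfsg.Agent.Lib.Helper13.isSubnormal_sup _ _ hA.isSubnormal_subgroupOf
    hB.isSubnormal_subgroupOf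

end RSn

end Cfsg.Agent.Lib.Helper02
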