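import Mathlib

/-! Keystone K-SLO-4 (598104): pure arithmetic on the orders of `SL_n(q)` and the orthogonal
groups. -/

set_option autoImplicit false

namespace Cfsg.Agent.Lib.Helper02.SLO

theorem prod_gl_factor' (q d : ℕ) :
    ∏ i : Fin d, (q ^ d - q ^ (i : ℕ)) =
      (∏ i ∈ Finset.range d, q ^ i) * ∏ i ∈ Finset.range d, (q ^ (i + 1) - 1) := by
  rw [Fin.prod_univ_eq_prod_range (fun i => q ^ d - q ^ i) d,
    ← Finset.prod_range_reflect (fun i => q ^ (i + 1) - 1) d, ← Finset.prod_mul_distrib]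
  apply Finset.prod_congr rfl
  intro i hi
  rw [Finset.mem_range] at hi
  have h0 : d - 1 - i + 1 = d - i := by omega
  rw [h0, Nat.mul_sub, mul_one, ← pow_add]
  congr 2
  omega

theorem prod_range_two_mul' (g : ℕ → ℕ) (m : ℕ) :
    ∏ i ∈ Finset.range (2 * m), g i =
      (∏ j ∈ Finset.range m, g (2 * j)) * ∏ j ∈ Finset.range m, g (2 * j + 1) := by
  induction m with
  | zero => simp
  | succ m ih =>
    rw [show 2 * (m + 1) = 2 * m + 1 + 1 by ring, Finset.prod_range_succ, Finset.prod_range_succ,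
      Finset.prod_range_succ, Finset.prod_range_succ, ih]
    ring

/-- `r ∣ q^j - 1` gives `q^j = 1` in `ZMod r` -/
theorem pow_eq_one_of_dvd (q r j : ℕ) (hq : 1 ≤ q) (h : r ∣ q ^ j - 1) :
    (q : ZMod r) ^ j = 1 := by
  have := (ZMod.natCast_eq_zero_iff (q ^ j - 1) r).mpr h
  rw [Nat.cast_sub (Nat.one_le_pow _ _ hq)] at this
  push_cast at this
  exact sub_eq_zero.mp this

theorem order_dvd_of_dvd (q r j : ℕ) (hq : 1 ≤ q) (h : r ∣ q ^ j - 1) :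
    orderOf (q : ZMod r) ∣ j :=
  orderOf_dvd_of_pow_eq_one (pow_eq_one_of_dvd q r j hq h)

/-- with `i = ord_r(q)` even, `r` divides no `q^j - 1` with `j` odd -/
theorem not_dvd_odd (q r i j : ℕ) (hq : 1 ≤ q) (hi : i = orderOf (q : ZMod r)) (hev : Even i) :
    ¬ r ∣ q ^ (2 * j + 1) - 1 := by
  intro h
  have h1 := order_dvd_of_dvd q r (2 * j + 1) hq h
  rw [← hi] at h1
  have h2 : Even (2 * j + 1) := hev.trans_dvd h1
  rw [Nat.even_add_one] at h2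
  exact h2 (even_two_mul j)

theorem pos_prod_even (q m : ℕ) (hq : 2 ≤ q) :
    0 < ∏ i ∈ Finset.range m, (q ^ (2 * (i + 1)) - 1) := by
  apply Finset.prod_pos
  intro i _
  have : 2 ≤ q ^ (2 * (i + 1)) := le_trans hq (Nat.le_self_pow (by omega) q)
  omega

/-- a prime `r ∤ q` dividing `q^* · ∏ (q^(2j+1) - 1) · X` with `ord_r(q)` even divides `X` -/
theorem dvd_last (q r i X : ℕ) (N M : ℕ) (hq : 2 ≤ q) (hr : r.Prime) (hrq : ¬ r ∣ q)
    (hi : i = orderOf (q : ZMod r)) (hev : Even i)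
    (h : r ∣ (∏ i ∈ Finset.range N, q ^ i) * (∏ j ∈ Finset.range M, (q ^ (2 * j + 1) - 1)) * X) :
    r ∣ X := by
  rcases (Nat.Prime.dvd_mul hr).mp h with h | h
  · exfalso
    rcases (Nat.Prime.dvd_mul hr).mp h with h | h
    · obtain ⟨k, _, hk⟩ := (Prime.dvd_finset_prod_iff hr.prime _).mp h
      exact hrq (hr.dvd_of_dvd_pow hk)
    · obtain ⟨j, _, hj⟩ := (Prime.dvd_finset_prod_iff hr.prime _).mp h
      exact not_dvd_odd q r i j (by omega) hi hev hj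
  · exact h

theorem arith_odd_dim (q r i m S : ℕ) (hq : 2 ≤ q) (hr : r.Prime) (hr2 : r ≠ 2) (hrq : ¬ r ∣ q)
    (hi : i = orderOf (q : ZMod r)) (hev : Even i)
    (hS : (q - 1) * S = ∏ j : Fin (2 * m + 1), (q ^ (2 * m + 1) - q ^ (j : ℕ)))
    (h : r * (2 * q ^ (m ^ 2) * ∏ j ∈ Finset.range m, (q ^ (2 * (j + 1)) - 1)) ∣ 2 * S) :
    False := by
  rw [prod_gl_factor', Finset.prod_range_succ (fun i => q ^ (i + 1) - 1) (2 * m),
    prod_range_two_mul' (fun i => q ^ (i + 1) - 1) m] at hS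
  have hE : ∏ j ∈ Finset.range m, (q ^ (2 * j + 1 + 1) - 1) =
      ∏ i ∈ Finset.range m, (q ^ (2 * (i + 1)) - 1) := by
    apply Finset.prod_congr rfl
    intro i _
    congr 2
  rw [hE] at hS
  set A := ∏ i ∈ Finset.range m, (q ^ (2 * (i + 1)) - 1) with hA
  set B := ∏ j ∈ Finset.range m, (q ^ (2 * j + 1) - 1) with hB
  set P := ∏ i ∈ Finset.range (2 * m + 1), q ^ i with hP
  have hApos : 0 < A := pos_prod_even q m hq
  obtain ⟨k, hk⟩ := h
  have h3 : r * (q ^ (m ^ 2) * k * (q - 1)) = P * B * (q ^ (2 * m + 1) - 1) := by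
    apply Nat.eq_of_mul_eq_mul_left (show 0 < 2 * A by omega)
    calc 2 * A * (r * (q ^ (m ^ 2) * k * (q - 1)))
        = (q - 1) * (r * (2 * q ^ (m ^ 2) * A) * k) := by ring
      _ = (q - 1) * (2 * S) := by rw [hk]
      _ = 2 * ((q - 1) * S) := by ring
      _ = 2 * (P * (B * A * (q ^ (2 * m + 1) - 1))) := by rw [hS]
      _ = 2 * A * (P * B * (q ^ (2 * m + 1) - 1)) := by ring
  have h4 : r ∣ P * B * (q ^ (2 * m + 1) - 1) := ⟨_, h3.symm⟩
  have h5 := dvd_last q r i _ _ _ hq hr hrq hi hev h4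
  exact not_dvd_odd q r i m (by omega) hi hev h5

theorem arith_plus (q r i m S : ℕ) (hq : 2 ≤ q) (hr : r.Prime) (hr2 : r ≠ 2) (hrq : ¬ r ∣ q)
    (hi : i = orderOf (q : ZMod r)) (hev : Even i) (hm : 1 ≤ m)
    (hS : (q - 1) * S = ∏ j : Fin (2 * m), (q ^ (2 * m) - q ^ (j : ℕ)))
    (h : r * (2 * q ^ (m * (m - 1)) * (q ^ m - 1) *
      ∏ j ∈ Finset.range (m - 1), (q ^ (2 * (j + 1)) - 1)) ∣ 2 * S) :
    ∃ t, Odd t ∧ i * t = 2 * m := by
  obtain ⟨m', rfl⟩ : ∃ m', m = m' + 1 := ⟨m - 1, by omega⟩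
  rw [Nat.add_sub_cancel] at h
  rw [prod_gl_factor', prod_range_two_mul' (fun i => q ^ (i + 1) - 1) (m' + 1)] at hS
  have hE : ∏ j ∈ Finset.range (m' + 1), (q ^ (2 * j + 1 + 1) - 1) =
      (∏ i ∈ Finset.range m', (q ^ (2 * (i + 1)) - 1)) *
        ((q ^ (m' + 1) - 1) * (q ^ (m' + 1) + 1)) := by
    rw [Finset.prod_range_succ]
    congr 1
    have h1 : 1 ≤ q ^ (m' + 1) := Nat.one_le_pow _ _ (by omega)
    have h2 : q ^ (2 * m' + 1 + 1) = q ^ (m' + 1) * q ^ (m' + 1) := by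
      rw [← pow_add]; congr 1; ring
    rw [h2]
    zify [h1, Nat.one_le_iff_ne_zero.mpr (Nat.mul_ne_zero (by omega : q ^ (m' + 1) ≠ 0)
      (by omega : q ^ (m' + 1) ≠ 0))]
    ring
  rw [hE] at hS
  set A := ∏ i ∈ Finset.range m', (q ^ (2 * (i + 1)) - 1) with hA
  set B := ∏ j ∈ Finset.range (m' + 1), (q ^ (2 * j + 1) - 1) with hB
  set P := ∏ i ∈ Finset.range (2 * (m' + 1)), q ^ i with hP
  have hApos : 0 < A := pos_prod_even q m' hq
  have hCpos : 0 < q ^ (m' + 1) - 1 := by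
    have : 2 ≤ q ^ (m' + 1) := le_trans hq (Nat.le_self_pow (by omega) q)
    omega
  obtain ⟨k, hk⟩ := h
  have h3 : r * (q ^ ((m' + 1) * m') * k * (q - 1)) = P * B * (q ^ (m' + 1) + 1) := by
    apply Nat.eq_of_mul_eq_mul_left (show 0 < 2 * A * (q ^ (m' + 1) - 1) by positivity)
    calc 2 * A * (q ^ (m' + 1) - 1) * (r * (q ^ ((m' + 1) * m') * k * (q - 1)))
        = (q - 1) * (r * (2 * q ^ ((m' + 1) * m') * (q ^ (m' + 1) - 1) * A) * k) := by ring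
      _ = (q - 1) * (2 * S) := by rw [hk]
      _ = 2 * ((q - 1) * S) := by ring
      _ = 2 * (P * (B * (A * ((q ^ (m' + 1) - 1) * (q ^ (m' + 1) + 1))))) := by rw [hS]
      _ = 2 * A * (q ^ (m' + 1) - 1) * (P * B * (q ^ (m' + 1) + 1)) := by ring
  have h4 : r ∣ P * B * (q ^ (m' + 1) + 1) := ⟨_, h3.symm⟩
  have h5 := dvd_last q r i _ _ _ hq hr hrq hi hev h4
  -- `q^(m'+1) = -1` in `ZMod r`
  have h6 : (q : ZMod r) ^ (m' + 1) = -1 := by
    have := (ZMod.natCast_eq_zero_iff (q ^ (m' + 1) + 1) r).mpr h5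
    push_cast at this
    exact eq_neg_of_add_eq_zero_left this
  have h7 : (q : ZMod r) ^ (2 * (m' + 1)) = 1 := by
    rw [mul_comm, pow_mul, h6]; ring
  have h8 : i ∣ 2 * (m' + 1) := by rw [hi]; exact orderOf_dvd_of_pow_eq_one h7
  obtain ⟨t, ht⟩ := h8
  refine ⟨t, ?_, ht.symm⟩
  rw [← Nat.not_even_iff_odd]
  rintro ⟨t', rfl⟩
  have h9 : m' + 1 = i * t' := by
    have : 2 * (m' + 1) = 2 * (i * t') := by rw [ht]; ring
    omega
  have h10 : (q : ZMod r) ^ (m' + 1) = 1 := by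
    rw [h9, pow_mul, hi, pow_orderOf_eq_one, one_pow]
  rw [h6] at h10
  -- `-1 = 1` in `ZMod r` forces `r ∣ 2`
  have h11 : ((2 : ℕ) : ZMod r) = 0 := by
    have : (2 : ZMod r) = 1 + 1 := by norm_num
    push_cast
    rw [this]
    nth_rewrite 1 [← h10]
    ring
  have h12 := (ZMod.natCast_eq_zero_iff 2 r).mp h11
  exact hr2 ((Nat.prime_dvd_prime_iff_eq hr Nat.prime_two).mp h12)

theorem arith_minus (q r i m S : ℕ) (hq : 2 ≤ q) (hr : r.Prime) (hr2 : r ≠ 2) (hrq : ¬ r ∣ q)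
    (hi : i = orderOf (q : ZMod r)) (hev : Even i)
    (hS : (q - 1) * S = ∏ j : Fin (2 * m + 2), (q ^ (2 * m + 2) - q ^ (j : ℕ)))
    (h : r * (2 * q ^ ((m + 1) * m) * (q ^ (m + 1) + 1) *
      ∏ j ∈ Finset.range m, (q ^ (2 * (j + 1)) - 1)) ∣ 2 * S) :
    ∃ t, Even t ∧ i * t = 2 * m + 2 := by
  rw [show 2 * m + 2 = 2 * (m + 1) by ring] at hS ⊢
  rw [prod_gl_factor', prod_range_two_mul' (fun i => q ^ (i + 1) - 1) (m + 1)] at hS
  have hE : ∏ j ∈ Finset.range (m + 1), (q ^ (2 * j + 1 + 1) - 1) =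
      (∏ i ∈ Finset.range m, (q ^ (2 * (i + 1)) - 1)) *
        ((q ^ (m + 1) - 1) * (q ^ (m + 1) + 1)) := by
    rw [Finset.prod_range_succ]
    congr 1
    have h1 : 1 ≤ q ^ (m + 1) := Nat.one_le_pow _ _ (by omega)
    have h2 : q ^ (2 * m + 1 + 1) = q ^ (m + 1) * q ^ (m + 1) := by
      rw [← pow_add]; congr 1; ring
    rw [h2]
    zify [h1, Nat.one_le_iff_ne_zero.mpr (Nat.mul_ne_zero (by omega : q ^ (m + 1) ≠ 0)
      (by omega : q ^ (m + 1) ≠ 0))]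
    ring
  rw [hE] at hS
  set A := ∏ i ∈ Finset.range m, (q ^ (2 * (i + 1)) - 1) with hA
  set B := ∏ j ∈ Finset.range (m + 1), (q ^ (2 * j + 1) - 1) with hB
  set P := ∏ i ∈ Finset.range (2 * (m + 1)), q ^ i with hP
  have hApos : 0 < A := pos_prod_even q m hq
  have hCpos : 0 < q ^ (m + 1) + 1 := by omega
  obtain ⟨k, hk⟩ := h
  have h3 : r * (q ^ ((m + 1) * m) * k * (q - 1)) = P * B * (q ^ (m + 1) - 1) := by
    apply Nat.eq_of_mul_eq_mul_left (show 0 < 2 * A * (q ^ (m + 1) + 1) by positivity)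
    calc 2 * A * (q ^ (m + 1) + 1) * (r * (q ^ ((m + 1) * m) * k * (q - 1)))
        = (q - 1) * (r * (2 * q ^ ((m + 1) * m) * (q ^ (m + 1) + 1) * A) * k) := by ring
      _ = (q - 1) * (2 * S) := by rw [hk]
      _ = 2 * ((q - 1) * S) := by ring
      _ = 2 * (P * (B * (A * ((q ^ (m + 1) - 1) * (q ^ (m + 1) + 1))))) := by rw [hS]
      _ = 2 * A * (q ^ (m + 1) + 1) * (P * B * (q ^ (m + 1) - 1)) := by ring
  have h4 : r ∣ P * B * (q ^ (m + 1) - 1) := ⟨_, h3.symm⟩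
  have h5 := dvd_last q r i _ _ _ hq hr hrq hi hev h4
  have h6 := order_dvd_of_dvd q r (m + 1) (by omega) h5
  rw [← hi] at h6
  obtain ⟨t', ht'⟩ := h6
  exact ⟨2 * t', even_two_mul t', by rw [ht']; ring⟩

theorem order_le_of_dvd (q r n S : ℕ) (hq : 2 ≤ q) (hr : r.Prime) (hrq : ¬ r ∣ q) (hn : 1 ≤ n)
    (hS : (q - 1) * S = ∏ j : Fin n, (q ^ n - q ^ (j : ℕ))) (h : r ∣ S) :
    orderOf (q : ZMod r) ≤ n := by
  rw [prod_gl_factor'] at hS
  have h1 : r ∣ (∏ i ∈ Finset.range n, q ^ i) * ∏ i ∈ Finset.range n, (q ^ (i + 1) - 1) := by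
    rw [← hS]; exact dvd_mul_of_dvd_right h _
  rcases (Nat.Prime.dvd_mul hr).mp h1 with h2 | h2
  · obtain ⟨k, _, hk⟩ := (Prime.dvd_finset_prod_iff hr.prime _).mp h2
    exact absurd (hr.dvd_of_dvd_pow hk) hrq
  · obtain ⟨j, hj, hrj⟩ := (Prime.dvd_finset_prod_iff hr.prime _).mp h2
    rw [Finset.mem_range] at hj
    have h3 := order_dvd_of_dvd q r (j + 1) (by omega) hrj
    exact le_trans (Nat.le_of_dvd (by omega) h3) (by omega)

end Cfsg.Agent.Lib.Helper02.SLO
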