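import Mathlib
import Cfsg.Prelude.Def_PLocal
import Cfsg.Agent.S0622
import Cfsg.Agent.Lib.Helper15.Transport
import Cfsg.Agent.Lib.Helper15.Thompson
import Cfsg.Agent.Lib.Helper16.ZJ
import Cfsg.Agent.Lib.Helper52.QuadSylow

set_option autoImplicit false

/-!
# The stable normal closure `W(S)`

* `snc_mem_fam` : `W(S)` belongs to its defining family; in particular its image under every stable
  embedding is normal.
* `commutator_eq_bot_of_quadratic` : an element of `S` acting quadratically on `W(S)` centralizes it.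
-/

universe u

namespace Cfsg.Agent.Lib.Helper02.StableW

open Cfsg
open scoped commutatorElement

variable {S : Type u} [Group S] {p : ℕ}

/-- the family whose infimum is the stable normal closure -/
def fam (p : ℕ) (S : Type u) [Group S] : Set (Subgroup S) :=
  {W : Subgroup S | Cfsg.omegaOne p (Subgroup.center S) ≤ W ∧
    ∀ (H : Type u) [Group H] (τ : S →* H), Cfsg.IsStableEmbedding p τ → (W.map τ).Normal}

theorem snc_eq (p : ℕ) (S : Type u) [Group S] :
    Cfsg.stableNormalClosure p S = sInf (fam p S) := rfl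

theorem omegaCenterThompson_mem_fam [Finite S] (p : ℕ) :
    Cfsg.omegaCenterThompson p S ∈ fam p S := by
  refine ⟨Cfsg.Agent.Lib.Helper15.omegaOne_center_le_omegaCenterThompson p, ?_⟩
  intro H _ τ hτ
  obtain ⟨hinj, _, _, _, hJ, _⟩ := hτ
  unfold Cfsg.omegaCenterThompson
  rw [Cfsg.Agent.Lib.Helper15.omegaOne_map p _ hinj,
    Cfsg.Agent.Lib.Helper15.map_inf_centralizer _ hinj]
  haveI := hJ
  exact Cfsg.Agent.Lib.Helper15.omegaOne_center_normal p _

theorem snc_mem_fam [Finite S] (p : ℕ) : Cfsg.stableNormalClosure p S ∈ fam p S := by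
  refine ⟨?_, ?_⟩
  · rw [snc_eq]
    exact le_sInf (fun W hW => hW.1)
  · intro H _ τ hτ
    have hinj : Function.Injective τ := hτ.1
    refine ⟨fun n hn h => ?_⟩
    obtain ⟨w, hw, rfl⟩ := hn
    rw [SetLike.mem_coe, snc_eq, Subgroup.mem_sInf] at hw
    have h0 := (omegaCenterThompson_mem_fam (S := S) p).2 H τ hτ
    have h1 : h * τ w * h⁻¹ ∈ (Cfsg.omegaCenterThompson p S).map τ :=
      h0.conj_mem _ (Subgroup.mem_map_of_mem τ (hw _ (omegaCenterThompson_mem_fam p))) h
    obtain ⟨w', -, hw'⟩ := h1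
    refine ⟨w', ?_, hw'⟩
    rw [SetLike.mem_coe, snc_eq, Subgroup.mem_sInf]
    intro W' hW'
    have h2 := hW'.2 H τ hτ
    have h3 : h * τ w * h⁻¹ ∈ W'.map τ :=
      h2.conj_mem _ (Subgroup.mem_map_of_mem τ (hw _ hW')) h
    obtain ⟨w'', hw''1, hw''2⟩ := h3
    have : w'' = w' := hinj (hw''2.trans hw'.symm)
    rw [← this]
    exact hw''1

theorem snc_map_normal [Finite S] {H : Type u} [Group H] (τ : S →* H)
    (hτ : Cfsg.IsStableEmbedding p τ) : ((Cfsg.stableNormalClosure p S).map τ).Normal :=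
  (snc_mem_fam p).2 H τ hτ

theorem commutator_eq_bot_of_quadratic [Finite S] [Fact p.Prime] (hS : IsPGroup p S) (x : S)
    (hq : ⁅⁅Cfsg.stableNormalClosure p S, Subgroup.zpowers x⁆, Subgroup.zpowers x⁆ = ⊥) :
    ⁅Cfsg.stableNormalClosure p S, Subgroup.zpowers x⁆ = ⊥ := by
  set W := Cfsg.stableNormalClosure p S with hW
  set Q : Set S := {y | ⁅⁅W, Subgroup.zpowers y⁆, Subgroup.zpowers y⁆ = ⊥} with hQ
  set U := W ⊓ Subgroup.centralizer Q with hU
  have hWΩ : W ≤ Cfsg.omegaCenterThompson p S := (Cfsg.Agent.S0622.result hS).2.2.1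
  have hUfam : U ∈ fam p S := by
    refine ⟨?_, ?_⟩
    · apply le_inf (snc_mem_fam p).1
      have h1 : Cfsg.omegaOne p (Subgroup.center S) ≤ Subgroup.center S := by
        unfold Cfsg.omegaOne
        rw [Subgroup.closure_le]
        intro z hz
        exact hz.1
      exact h1.trans (Subgroup.center_le_centralizer Q)
    · intro H _ τ hτ
      have hWn : (W.map τ).Normal := snc_map_normal τ hτ
      obtain ⟨hinj, hfin, ⟨P, hP⟩, hcent, hJ, hV⟩ := hτ
      haveI := hfin
      set Ut := U.map τ with hUt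
      set V := Subgroup.normalClosure (Ut : Set H) with hVdef
      have hUtW : Ut ≤ W.map τ := Subgroup.map_mono inf_le_left
      have hVW : V ≤ W.map τ := Subgroup.normalClosure_le_normal hUtW
      have hVΩ : V ≤ (Cfsg.omegaCenterThompson p S).map τ := hVW.trans (Subgroup.map_mono hWΩ)
      have hUtV : Ut ≤ V := Subgroup.le_normalClosure
      have hst : Cfsg.IsPStableOn p V := hV V hVΩ
      set C := Subgroup.centralizer (V : Set H) with hC
      have key : ∀ y ∈ Q, ∀ v ∈ V, τ y * v = v * τ y := by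
        intro y hy
        have hqy : ⁅⁅V, Subgroup.zpowers (τ y)⁆, Subgroup.zpowers (τ y)⁆ = ⊥ := by
          rw [eq_bot_iff]
          calc ⁅⁅V, Subgroup.zpowers (τ y)⁆, Subgroup.zpowers (τ y)⁆
              ≤ ⁅⁅W.map τ, Subgroup.zpowers (τ y)⁆, Subgroup.zpowers (τ y)⁆ :=
                Subgroup.commutator_mono (Subgroup.commutator_mono hVW le_rfl) le_rfl
            _ = Subgroup.map τ ⁅⁅W, Subgroup.zpowers y⁆, Subgroup.zpowers y⁆ := by
                rw [Subgroup.map_commutator, Subgroup.map_commutator, MonoidHom.map_zpowers]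
            _ = ⊥ := by rw [hy, Subgroup.map_bot]
        have hmem := hst (τ y) hqy
        set T₀ := (P : Subgroup H) ⊓ (Cfsg.pCore p (H ⧸ C)).comap (QuotientGroup.mk' C) with hT₀
        have hyT₀ : τ y ∈ T₀ := by
          refine ⟨?_, hmem⟩
          rw [hP]
          exact ⟨y, rfl⟩
        have hcentral : V ≤ Subgroup.centralizer ({τ y} : Set H) := by
          rw [hVdef, Subgroup.normalClosure, Subgroup.closure_le]
          intro a ha
          rw [Group.mem_conjugatesOfSet_iff] at ha
          obtain ⟨u, hu, hconj⟩ := ha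
          rw [isConj_iff] at hconj
          obtain ⟨h, rfl⟩ := hconj
          rw [SetLike.mem_coe, Subgroup.mem_centralizer_iff]
          intro t ht
          rw [Set.mem_singleton_iff] at ht
          subst ht
          obtain ⟨n, hn, c, hc, rfl⟩ := Cfsg.Agent.Lib.Helper16.ZJ.factor_of_pCore P C h
          have huV : u ∈ V := hUtV hu
          have hcu : c * u * c⁻¹ = u := by
            rw [hC, Subgroup.mem_centralizer_iff] at hc
            rw [← hc u huV]
            group
          have e1 : n * c * u * (n * c)⁻¹ = n * u * n⁻¹ := by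
            calc n * c * u * (n * c)⁻¹ = n * (c * u * c⁻¹) * n⁻¹ := by group
              _ = n * u * n⁻¹ := by rw [hcu]
          rw [e1]
          -- z = n⁻¹ τ y n ∈ T₀
          have hn' : n⁻¹ ∈ Subgroup.normalizer (T₀ : Set H) := Subgroup.inv_mem _ hn
          have hz : n⁻¹ * τ y * n⁻¹⁻¹ ∈ T₀ := (Subgroup.mem_normalizer_iff.mp hn' (τ y)).mp hyT₀
          have hzP : n⁻¹ * τ y * n⁻¹⁻¹ ∈ (P : Subgroup H) := hz.1
          rw [hP] at hzP
          obtain ⟨y', hy'⟩ := hzP
          have hy'Q : y' ∈ Q := by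
            show ⁅⁅W, Subgroup.zpowers y'⁆, Subgroup.zpowers y'⁆ = ⊥
            have h1 : ⁅⁅W.map τ, Subgroup.zpowers (τ y)⁆, Subgroup.zpowers (τ y)⁆ = ⊥ := by
              rw [← MonoidHom.map_zpowers, ← Subgroup.map_commutator, ← Subgroup.map_commutator, hy,
                Subgroup.map_bot]
            have h2 := Cfsg.Agent.Lib.Helper52.quadratic_conj (W.map τ) (τ y) n⁻¹
              (by rw [Subgroup.normalizer_eq_top]; exact Subgroup.mem_top _) h1
            rw [← hy', ← MonoidHom.map_zpowers, ← Subgroup.map_commutator,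
              ← Subgroup.map_commutator] at h2
            exact (Subgroup.map_eq_bot_iff_of_injective _ hinj).mp h2
          obtain ⟨u₀, hu₀, rfl⟩ := hu
          have hu₀c : u₀ ∈ Subgroup.centralizer Q := hu₀.2
          rw [Subgroup.mem_centralizer_iff] at hu₀c
          have h3 : y' * u₀ = u₀ * y' := hu₀c y' hy'Q
          have h4 : (n⁻¹ * τ y * n⁻¹⁻¹) * τ u₀ = τ u₀ * (n⁻¹ * τ y * n⁻¹⁻¹) := by
            rw [← hy', ← map_mul, ← map_mul, h3]
          calc τ y * (n * τ u₀ * n⁻¹)
              = n * ((n⁻¹ * τ y * n⁻¹⁻¹) * τ u₀) * n⁻¹ := by group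
            _ = n * (τ u₀ * (n⁻¹ * τ y * n⁻¹⁻¹)) * n⁻¹ := by rw [h4]
            _ = n * τ u₀ * n⁻¹ * τ y := by group
        intro v hv
        have := hcentral hv
        rw [Subgroup.mem_centralizer_iff] at this
        exact this (τ y) (Set.mem_singleton _)
      have hVUt : V ≤ Ut := by
        intro v hv
        obtain ⟨w, hw, rfl⟩ := hVW hv
        refine ⟨w, ⟨hw, ?_⟩, rfl⟩
        show w ∈ Subgroup.centralizer Q
        rw [Subgroup.mem_centralizer_iff]
        intro y hy
        exact hinj (by rw [map_mul, map_mul]; exact key y hy _ hv)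
      have hEq : Ut = V := le_antisymm hUtV hVUt
      rw [hEq]
      exact Subgroup.normalClosure_normal
  have hWU : W ≤ U := by
    rw [hW, snc_eq]
    exact sInf_le hUfam
  rw [Subgroup.commutator_eq_bot_iff_le_centralizer]
  intro w hw
  have hwc : w ∈ Subgroup.centralizer Q := (hWU hw).2
  rw [Subgroup.mem_centralizer_iff] at hwc
  have hxw : x * w = w * x := hwc x hq
  rw [Subgroup.mem_centralizer_iff]
  intro t ht
  obtain ⟨i, rfl⟩ := Subgroup.mem_zpowers_iff.mp ht
  have hc : Commute w x := hxw.symm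
  exact (hc.zpow_right i).eq.symm

end Cfsg.Agent.Lib.Helper02.StableW
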