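import Mathlib
import Cfsg.Prelude.Def_PLocal
import Cfsg.Agent.S0607
import Cfsg.Agent.Lib.Helper02.StableW
import Cfsg.Agent.Lib.Helper02.ThompsonJ
import Cfsg.Agent.Lib.Helper02.QuadCore
import Cfsg.Agent.Lib.Helper15.ThompsonOf
import Cfsg.Agent.Lib.Helper16.ZJ3
import Cfsg.Agent.Lib.Helper54.PReduced
import Cfsg.Agent.Lib.Helper75.FrattiniFaithful

set_option autoImplicit false

/-!
# `W(S)` is normal in an action-`p`-stable group of characteristic `p`
-/

universe u

namespace Cfsg.Agent.Lib.Helper02.StableW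

open Cfsg
open scoped commutatorElement

section lemmas

variable {G : Type*} [Group G]

theorem isElementaryAbelian_closure {p : ℕ} (s : Set G)
    (hcomm : ∀ a ∈ s, ∀ b ∈ s, a * b = b * a) (hpow : ∀ a ∈ s, a ^ p = 1) :
    IsElementaryAbelian p (Subgroup.closure s) := by
  haveI hI : IsMulCommutative (Subgroup.closure s) := Subgroup.isMulCommutative_closure hcomm
  have hc : ∀ x ∈ Subgroup.closure s, ∀ y ∈ Subgroup.closure s, x * y = y * x := by
    intro x hx y hy
    have := mul_comm' (⟨x, hx⟩ : Subgroup.closure s) ⟨y, hy⟩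
    exact congrArg Subtype.val this
  refine ⟨hI, ?_⟩
  intro a ha
  induction ha using Subgroup.closure_induction with
  | mem x hx => exact hpow x hx
  | one => exact one_pow p
  | mul x y hx hy ihx ihy =>
    have hcm : Commute x y := hc x hx y hy
    rw [hcm.mul_pow, ihx, ihy, one_mul]
  | inv x hx ih => rw [inv_pow, ih, inv_one]

/-- modulo the centralizer of a normal subgroup `V`, commutators with subgroups of `V` only depend
on the coset -/
theorem commutator_zpowers_mul_centralizer (V : Subgroup G) [V.Normal] (B : Subgroup G)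
    (hB : B ≤ V) (a c : G) (hc : c ∈ Subgroup.centralizer (V : Set G)) :
    ⁅B, Subgroup.zpowers (a * c)⁆ = ⁅B, Subgroup.zpowers a⁆ := by
  set C := Subgroup.centralizer (V : Set G) with hC
  have hpow : ∀ i : ℤ, (a ^ i)⁻¹ * (a * c) ^ i ∈ C := by
    intro i
    rw [← QuotientGroup.eq]
    have h1 : ((c : G) : G ⧸ C) = 1 := (QuotientGroup.eq_one_iff c).mpr hc
    rw [QuotientGroup.mk_zpow, QuotientGroup.mk_zpow, QuotientGroup.mk_mul, h1, mul_one]
  have hid : ∀ b ∈ B, ∀ i : ℤ, ⁅b, (a * c) ^ i⁆ = ⁅b, a ^ i⁆ := by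
    intro b hb i
    have hci := hpow i
    set ci := (a ^ i)⁻¹ * (a * c) ^ i with hcidef
    have e : (a * c) ^ i = a ^ i * ci := by rw [hcidef]; group
    have hbi : b⁻¹ * ci = ci * b⁻¹ := by
      rw [hC, Subgroup.mem_centralizer_iff] at hci
      exact hci b⁻¹ (V.inv_mem (hB hb))
    rw [e, commutatorElement_def, commutatorElement_def]
    calc b * (a ^ i * ci) * b⁻¹ * (a ^ i * ci)⁻¹
        = b * a ^ i * (ci * b⁻¹) * ci⁻¹ * (a ^ i)⁻¹ := by group
      _ = b * a ^ i * (b⁻¹ * ci) * ci⁻¹ * (a ^ i)⁻¹ := by rw [hbi]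
      _ = b * a ^ i * b⁻¹ * (a ^ i)⁻¹ := by group
  apply le_antisymm
  · rw [Subgroup.commutator_le]
    intro b hb t ht
    obtain ⟨i, rfl⟩ := Subgroup.mem_zpowers_iff.mp ht
    rw [hid b hb i]
    exact Subgroup.commutator_mem_commutator hb (Subgroup.zpow_mem _ (Subgroup.mem_zpowers a) i)
  · rw [Subgroup.commutator_le]
    intro b hb t ht
    obtain ⟨i, rfl⟩ := Subgroup.mem_zpowers_iff.mp ht
    rw [← hid b hb i]
    exact Subgroup.commutator_mem_commutator hb
      (Subgroup.zpow_mem _ (Subgroup.mem_zpowers (a * c)) i)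

theorem quadratic_mul_centralizer (V : Subgroup G) [V.Normal] (a c : G)
    (hc : c ∈ Subgroup.centralizer (V : Set G))
    (hq : ⁅⁅V, Subgroup.zpowers (a * c)⁆, Subgroup.zpowers (a * c)⁆ = ⊥) :
    ⁅⁅V, Subgroup.zpowers a⁆, Subgroup.zpowers a⁆ = ⊥ := by
  rw [commutator_zpowers_mul_centralizer V V le_rfl a c hc] at hq
  rw [commutator_zpowers_mul_centralizer V ⁅V, Subgroup.zpowers a⁆
    (Subgroup.commutator_le_left V _) a c hc] at hq
  exact hq

end lemmas

section main

variable {G : Type u} [Group G] [Finite G] {p : ℕ} [Fact p.Prime]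

/-- `W(S)` viewed inside `G` -/
def WG (S : Sylow p G) : Subgroup G :=
  (Cfsg.stableNormalClosure p ↥(S : Subgroup G)).map (S : Subgroup G).subtype

theorem WG_le (S : Sylow p G) : WG S ≤ (S : Subgroup G) := Subgroup.map_subtype_le _

theorem WG_normalized (S : Sylow p G) {s : G} (hs : s ∈ (S : Subgroup G)) :
    s ∈ Subgroup.normalizer (WG S : Set G) := by
  haveI hch : (Cfsg.stableNormalClosure p ↥(S : Subgroup G)).Characteristic :=
    (Cfsg.Agent.S0622.result S.2).1
  haveI : (Cfsg.stableNormalClosure p ↥(S : Subgroup G)).Normal :=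
    Subgroup.normal_of_characteristic _
  exact QuadCore.mem_normalizer_map_of_normal (S : Subgroup G).subtype _ ⟨s, hs⟩

theorem WG_conj_mem (S : Sylow p G) {s w : G} (hs : s ∈ (S : Subgroup G)) (hw : w ∈ WG S) :
    s * w * s⁻¹ ∈ WG S :=
  (Subgroup.mem_normalizer_iff.mp (WG_normalized S hs) w).mp hw

theorem WG_elementaryAbelian (S : Sylow p G) : IsElementaryAbelian p (WG S) := by
  have hΩ : IsElementaryAbelian p (Cfsg.omegaCenterThompson p ↥(S : Subgroup G)) :=
    Cfsg.Agent.Lib.Helper54.isElementaryAbelian_omegaOne_center p _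
  have hle : Cfsg.stableNormalClosure p ↥(S : Subgroup G) ≤
      Cfsg.omegaCenterThompson p ↥(S : Subgroup G) := (Cfsg.Agent.S0622.result S.2).2.2.1
  haveI := hΩ.1
  refine ⟨⟨⟨?_⟩⟩, ?_⟩
  · rintro ⟨_, a, ha, rfl⟩ ⟨_, b, hb, rfl⟩
    apply Subtype.ext
    have h1 := mul_comm' (⟨a, hle ha⟩ : Cfsg.omegaCenterThompson p ↥(S : Subgroup G)) ⟨b, hle hb⟩
    have h2 : a * b = b * a := congrArg Subtype.val h1
    show (S : Subgroup G).subtype a * (S : Subgroup G).subtype b =
      (S : Subgroup G).subtype b * (S : Subgroup G).subtype a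
    rw [← map_mul, ← map_mul, h2]
  · rintro _ ⟨a, ha, rfl⟩
    rw [← map_pow, hΩ.2 a (hle ha), map_one]

theorem WG_comm (S : Sylow p G) {a b : G} (ha : a ∈ WG S) (hb : b ∈ WG S) : a * b = b * a := by
  haveI := (WG_elementaryAbelian S).1
  have h1 := mul_comm' (⟨a, ha⟩ : WG S) ⟨b, hb⟩
  exact congrArg Subtype.val h1

/-- an element of `S` acting quadratically on `W(S)` centralizes it (ambient form) -/
theorem WG_centralized_of_quadratic (S : Sylow p G) (y : G) (hy : y ∈ (S : Subgroup G))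
    (hq : ⁅⁅WG S, Subgroup.zpowers y⁆, Subgroup.zpowers y⁆ = ⊥) : ∀ w ∈ WG S, y * w = w * y := by
  have hinj : Function.Injective (S : Subgroup G).subtype := Subgroup.subtype_injective _
  have hy' : (S : Subgroup G).subtype ⟨y, hy⟩ = y := rfl
  have h1 : ⁅⁅Cfsg.stableNormalClosure p ↥(S : Subgroup G), Subgroup.zpowers (⟨y, hy⟩ : S)⁆,
      Subgroup.zpowers (⟨y, hy⟩ : S)⁆ = ⊥ := by
    apply (Subgroup.map_eq_bot_iff_of_injective _ hinj).mp
    rw [Subgroup.map_commutator, Subgroup.map_commutator, MonoidHom.map_zpowers, hy']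
    exact hq
  have h2 := commutator_eq_bot_of_quadratic S.2 (⟨y, hy⟩ : S) h1
  have h3 : ⁅WG S, Subgroup.zpowers y⁆ = ⊥ := by
    have := congrArg (Subgroup.map (S : Subgroup G).subtype) h2
    rw [Subgroup.map_commutator, MonoidHom.map_zpowers, hy', Subgroup.map_bot] at this
    exact this
  rw [Subgroup.commutator_eq_bot_iff_le_centralizer] at h3
  intro w hw
  have := h3 hw
  rw [Subgroup.mem_centralizer_iff] at this
  exact this y (Subgroup.mem_zpowers y)

theorem mem_sectionKernel {K N : Subgroup G} [N.Normal] {g : G}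
    (hg : g ∈ Cfsg.sectionKernel K N) : ∀ y ∈ K, g * y * g⁻¹ * y⁻¹ ∈ N := by
  intro y hy
  unfold Cfsg.sectionKernel at hg
  rw [Subgroup.mem_comap, Subgroup.mem_centralizer_iff] at hg
  have h1 := hg (QuotientGroup.mk' N y) (Subgroup.mem_map_of_mem _ hy)
  rw [← QuotientGroup.eq_one_iff]
  have h2 : ((g * y * g⁻¹ * y⁻¹ : G) : G ⧸ N) =
      QuotientGroup.mk' N g * QuotientGroup.mk' N y * (QuotientGroup.mk' N g)⁻¹ *
        (QuotientGroup.mk' N y)⁻¹ := by
    simp
  rw [h2, ← h1]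
  group

theorem WG_le_pCore (hst : Cfsg.IsActionPStable p G)
    (hc : Subgroup.centralizer (Cfsg.pCore p G : Set G) ≤ Cfsg.pCore p G) (S : Sylow p G) :
    WG S ≤ Cfsg.pCore p G := by
  obtain ⟨-, h2, -⟩ := hst
  haveI hQn : (Cfsg.pCore p G).Normal := Cfsg.Agent.Lib.Helper01.pCore_normal p
  have hQp : IsPGroup p (Cfsg.pCore p G) := Cfsg.Agent.Lib.Helper01.pCore_isPGroup p
  have hQS : Cfsg.pCore p G ≤ (S : Subgroup G) := Cfsg.Agent.Lib.Helper01.pCore_le_sylow S
  intro a ha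
  have hqa : ⁅⁅Cfsg.pCore p G, Subgroup.zpowers a⁆, Subgroup.zpowers a⁆ ≤
      (frattini ↥(Cfsg.pCore p G)).map (Cfsg.pCore p G).subtype := by
    have h3 : ⁅Cfsg.pCore p G, Subgroup.zpowers a⁆ ≤ WG S := by
      rw [Subgroup.commutator_le]
      intro q hq t ht
      have htW : t ∈ WG S := (Subgroup.zpowers_le.mpr ha) ht
      rw [commutatorElement_def]
      exact (WG S).mul_mem (WG_conj_mem S (hQS hq) htW) ((WG S).inv_mem htW)
    have h4 : ⁅WG S, Subgroup.zpowers a⁆ = ⊥ := by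
      rw [eq_bot_iff, Subgroup.commutator_le]
      intro w hw t ht
      have htW : t ∈ WG S := (Subgroup.zpowers_le.mpr ha) ht
      rw [Subgroup.mem_bot, commutatorElement_eq_one_iff_mul_comm]
      exact WG_comm S hw htW
    calc ⁅⁅Cfsg.pCore p G, Subgroup.zpowers a⁆, Subgroup.zpowers a⁆
        ≤ ⁅WG S, Subgroup.zpowers a⁆ := Subgroup.commutator_mono h3 le_rfl
      _ = ⊥ := h4
      _ ≤ _ := bot_le
  obtain ⟨D, hDn, hKD, ⟨k, hk⟩, haD⟩ := h2 a hqa
  have hKQ : Cfsg.sectionKernel (Cfsg.pCore p G)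
      ((frattini ↥(Cfsg.pCore p G)).map (Cfsg.pCore p G).subtype) ≤ Cfsg.pCore p G := by
    intro g hg
    exact Cfsg.Agent.Lib.Helper75.mem_pCore_of_trivial_on_frattini_quotient (Cfsg.pCore p G) hQp hc g
      (mem_sectionKernel hg)
  have hDp : IsPGroup p D := by
    obtain ⟨j, hj⟩ := (hQp.to_le hKQ).exists_card_eq
    have h1 := Subgroup.card_mul_index ((Cfsg.sectionKernel (Cfsg.pCore p G)
      ((frattini ↥(Cfsg.pCore p G)).map (Cfsg.pCore p G).subtype)).subgroupOf D)
    rw [Nat.card_congr (Subgroup.subgroupOfEquivOfLe hKD).toEquiv, hj] at h1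
    have h5 : Nat.card D = p ^ (j + k) := by
      rw [← h1, pow_add, ← hk]
      rfl
    exact IsPGroup.of_card h5
  exact Cfsg.Agent.Lib.Helper01.le_pCore hDn hDp haD

/-- conjugates of `W(S)` centralize each other -/
theorem WG_conj_commute (hst : Cfsg.IsActionPStable p G)
    (hc : Subgroup.centralizer (Cfsg.pCore p G : Set G) ≤ Cfsg.pCore p G) (S : Sylow p G)
    (g : G) {x w : G} (hx : x ∈ WG S) (hw : w ∈ WG S) :
    (g * x * g⁻¹) * w = w * (g * x * g⁻¹) := by
  haveI hQn : (Cfsg.pCore p G).Normal := Cfsg.Agent.Lib.Helper01.pCore_normal p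
  have hQS : Cfsg.pCore p G ≤ (S : Subgroup G) := Cfsg.Agent.Lib.Helper01.pCore_le_sylow S
  have hWQ := WG_le_pCore hst hc S
  set x' := g * x * g⁻¹ with hx'
  have hx'Q : x' ∈ Cfsg.pCore p G := hQn.conj_mem x (hWQ hx) g
  set Wg := (WG S).map (MulAut.conj g).toMonoidHom with hWg
  have hmemWg : ∀ u, u ∈ Wg ↔ ∃ v ∈ WG S, g * v * g⁻¹ = u := by
    intro u
    rw [hWg, Subgroup.mem_map]
    rfl
  have hWgcomm : ∀ u ∈ Wg, ∀ v ∈ Wg, u * v = v * u := by
    intro u hu v hv
    obtain ⟨u₀, hu₀, rfl⟩ := (hmemWg u).mp hu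
    obtain ⟨v₀, hv₀, rfl⟩ := (hmemWg v).mp hv
    have := WG_comm S hu₀ hv₀
    calc g * u₀ * g⁻¹ * (g * v₀ * g⁻¹) = g * (u₀ * v₀) * g⁻¹ := by group
      _ = g * (v₀ * u₀) * g⁻¹ := by rw [this]
      _ = g * v₀ * g⁻¹ * (g * u₀ * g⁻¹) := by group
  have hzpWg : Subgroup.zpowers x' ≤ Wg := by
    rw [Subgroup.zpowers_le]
    exact (hmemWg x').mpr ⟨x, hx, rfl⟩
  have hq : ⁅⁅WG S, Subgroup.zpowers x'⁆, Subgroup.zpowers x'⁆ = ⊥ := by
    have h3 : ⁅WG S, Subgroup.zpowers x'⁆ ≤ Wg := by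
      rw [Subgroup.commutator_le]
      intro w₁ hw₁ t ht
      have htWg : t ∈ Wg := hzpWg ht
      obtain ⟨t₀, ht₀, rfl⟩ := (hmemWg t).mp htWg
      rw [commutatorElement_def]
      apply Wg.mul_mem _ (Wg.inv_mem htWg)
      have hw₁' : g⁻¹ * w₁ * g⁻¹⁻¹ ∈ Cfsg.pCore p G := hQn.conj_mem w₁ (hWQ hw₁) g⁻¹
      have h5 := WG_conj_mem S (hQS hw₁') ht₀
      refine (hmemWg _).mpr ⟨_, h5, ?_⟩
      group
    have h4 : ⁅Wg, Subgroup.zpowers x'⁆ = ⊥ := by
      rw [eq_bot_iff, Subgroup.commutator_le]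
      intro u hu t ht
      rw [Subgroup.mem_bot, commutatorElement_eq_one_iff_mul_comm]
      exact hWgcomm u hu t (hzpWg ht)
    rw [eq_bot_iff]
    calc ⁅⁅WG S, Subgroup.zpowers x'⁆, Subgroup.zpowers x'⁆
        ≤ ⁅Wg, Subgroup.zpowers x'⁆ := Subgroup.commutator_mono h3 le_rfl
      _ = ⊥ := h4
  exact WG_centralized_of_quadratic S x' (hQS hx'Q) hq w hw

/-- the normal closure of `W(S)` -/
def V1 (S : Sylow p G) : Subgroup G := Subgroup.normalClosure (WG S : Set G)

instance V1_normal (S : Sylow p G) : (V1 S).Normal := Subgroup.normalClosure_normal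

theorem WG_le_V1 (S : Sylow p G) : WG S ≤ V1 S := Subgroup.le_normalClosure

theorem V1_elementaryAbelian (hst : Cfsg.IsActionPStable p G)
    (hc : Subgroup.centralizer (Cfsg.pCore p G : Set G) ≤ Cfsg.pCore p G) (S : Sylow p G) :
    IsElementaryAbelian p (V1 S) := by
  unfold V1 Subgroup.normalClosure
  apply isElementaryAbelian_closure
  · intro a ha b hb
    rw [Group.mem_conjugatesOfSet_iff] at ha hb
    obtain ⟨a₀, ha₀, hca⟩ := ha
    obtain ⟨b₀, hb₀, hcb⟩ := hb
    rw [isConj_iff] at hca hcb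
    obtain ⟨g, rfl⟩ := hca
    obtain ⟨h, rfl⟩ := hcb
    have := WG_conj_commute hst hc S (h⁻¹ * g) ha₀ hb₀
    calc g * a₀ * g⁻¹ * (h * b₀ * h⁻¹)
        = h * ((h⁻¹ * g) * a₀ * (h⁻¹ * g)⁻¹ * b₀) * h⁻¹ := by group
      _ = h * (b₀ * ((h⁻¹ * g) * a₀ * (h⁻¹ * g)⁻¹)) * h⁻¹ := by rw [this]
      _ = h * b₀ * h⁻¹ * (g * a₀ * g⁻¹) := by group
  · intro a ha
    rw [Group.mem_conjugatesOfSet_iff] at ha
    obtain ⟨a₀, ha₀, hca⟩ := ha
    rw [isConj_iff] at hca
    obtain ⟨g, rfl⟩ := hca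
    rw [conj_pow, (WG_elementaryAbelian S).2 a₀ ha₀]
    group

/-- every element acting quadratically on `V₁ = ⟨W(S)^G⟩` centralizes it -/
theorem V1_centralized_of_quadratic (hst : Cfsg.IsActionPStable p G)
    (hc : Subgroup.centralizer (Cfsg.pCore p G : Set G) ≤ Cfsg.pCore p G) (S : Sylow p G) (a : G)
    (hq : ⁅⁅V1 S, Subgroup.zpowers a⁆, Subgroup.zpowers a⁆ = ⊥) : ∀ v ∈ V1 S, a * v = v * a := by
  have hV1ea := V1_elementaryAbelian hst hc S
  have hstV : Cfsg.IsPStableOn p (V1 S) := hst.1 (V1 S) hV1ea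
  set C₁ := Subgroup.centralizer (V1 S : Set G) with hC₁
  haveI hpn : (Cfsg.pCore p (G ⧸ C₁)).Normal := Cfsg.Agent.Lib.Helper01.pCore_normal p
  have hle : V1 S ≤ Subgroup.centralizer ({a} : Set G) := by
    unfold V1 Subgroup.normalClosure
    rw [Subgroup.closure_le]
    intro u hu
    rw [Group.mem_conjugatesOfSet_iff] at hu
    obtain ⟨w, hw, hcu⟩ := hu
    rw [isConj_iff] at hcu
    obtain ⟨g, rfl⟩ := hcu
    rw [SetLike.mem_coe, Subgroup.mem_centralizer_iff]
    intro t ht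
    rw [Set.mem_singleton_iff] at ht
    subst ht
    -- a' = g⁻¹ t g
    have hq' : ⁅⁅V1 S, Subgroup.zpowers (g⁻¹ * t * g⁻¹⁻¹)⁆, Subgroup.zpowers (g⁻¹ * t * g⁻¹⁻¹)⁆ = ⊥ :=
      Cfsg.Agent.Lib.Helper52.quadratic_conj (V1 S) t g⁻¹
        (by rw [Subgroup.normalizer_eq_top]; exact Subgroup.mem_top _) hq
    have hmem := hstV (g⁻¹ * t * g⁻¹⁻¹) hq'
    obtain ⟨y, hy, c, hcC, hyc⟩ := Cfsg.Agent.Lib.Helper16.ZJ.exists_mul_of_mem_comap S C₁
      (Cfsg.pCore p (G ⧸ C₁)) (Cfsg.Agent.Lib.Helper01.pCore_isPGroup p)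
      (m := g⁻¹ * t * g⁻¹⁻¹) hmem
    rw [hyc] at hq'
    have hqy := quadratic_mul_centralizer (V1 S) y c hcC hq'
    have hqyW : ⁅⁅WG S, Subgroup.zpowers y⁆, Subgroup.zpowers y⁆ = ⊥ := by
      rw [eq_bot_iff, ← hqy]
      exact Subgroup.commutator_mono (Subgroup.commutator_mono (WG_le_V1 S) le_rfl) le_rfl
    have hyw := WG_centralized_of_quadratic S y hy.1 hqyW w hw
    have hcw : w * c = c * w := by
      rw [hC₁, Subgroup.mem_centralizer_iff] at hcC
      exact hcC w (WG_le_V1 S hw)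
    have h7 : (g⁻¹ * t * g⁻¹⁻¹) * w = w * (g⁻¹ * t * g⁻¹⁻¹) := by
      rw [hyc]
      calc y * c * w = y * (c * w) := by group
        _ = y * (w * c) := by rw [hcw]
        _ = (y * w) * c := by group
        _ = (w * y) * c := by rw [hyw]
        _ = w * (y * c) := by group
    symm
    calc g * w * g⁻¹ * t = g * (w * (g⁻¹ * t * g⁻¹⁻¹)) * g⁻¹ := by group
      _ = g * ((g⁻¹ * t * g⁻¹⁻¹) * w) * g⁻¹ := by rw [h7]
      _ = t * (g * w * g⁻¹) := by group
  intro v hv
  have := hle hv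
  rw [Subgroup.mem_centralizer_iff] at this
  exact this a (Set.mem_singleton a)

theorem thompson_le_centralizer_V1 (hst : Cfsg.IsActionPStable p G)
    (hc : Subgroup.centralizer (Cfsg.pCore p G : Set G) ≤ Cfsg.pCore p G) (S : Sylow p G) :
    Cfsg.thompsonSubgroupOf p (S : Subgroup G) ≤ Subgroup.centralizer (V1 S : Set G) := by
  by_contra h
  obtain ⟨A₁, hA₁, hnot⟩ := Cfsg.Agent.Lib.Helper02.exists_maxEA_not_le h
  have hAmax : A₁.map (S : Subgroup G).subtype ∈ Cfsg.maxElementaryAbelianSubgroups p G :=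
    Cfsg.Agent.Lib.Helper15.maxElemIn_sylow_subset S
      (Cfsg.Agent.Lib.Helper15.map_subtype_mem_maxElemIn hA₁)
  have hV1ea := V1_elementaryAbelian hst hc S
  obtain ⟨-, hquad, hnt⟩ := Cfsg.Agent.S0607.result (V1 S) hV1ea _ hAmax
  have hne : ⁅V1 S, A₁.map (S : Subgroup G).subtype⁆ ≠ ⊥ := by
    intro hbot
    rw [Subgroup.commutator_eq_bot_iff_le_centralizer] at hbot
    exact hnot (Subgroup.le_centralizer_iff.mp hbot)
  apply hnt hne
  rw [Subgroup.commutator_eq_bot_iff_le_centralizer, Subgroup.le_centralizer_iff]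
  intro a ha
  rw [Subgroup.mem_centralizer_iff]
  intro v hv
  have hz := Subgroup.zpowers_le.mpr ha
  have hqa : ⁅⁅V1 S, Subgroup.zpowers a⁆, Subgroup.zpowers a⁆ = ⊥ := by
    rw [eq_bot_iff, ← hquad]
    exact Subgroup.commutator_mono (Subgroup.commutator_mono le_rfl hz) hz
  exact (V1_centralized_of_quadratic hst hc S a hqa v hv).symm

theorem normalizer_thompson_le (hst : Cfsg.IsActionPStable p G)
    (hc : Subgroup.centralizer (Cfsg.pCore p G : Set G) ≤ Cfsg.pCore p G) (S : Sylow p G) :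
    Subgroup.normalizer (Cfsg.thompsonSubgroupOf p (S : Subgroup G) : Set G) ≤
      Subgroup.normalizer (WG S : Set G) := by
  haveI hQn : (Cfsg.pCore p G).Normal := Cfsg.Agent.Lib.Helper01.pCore_normal p
  have hQp : IsPGroup p (Cfsg.pCore p G) := Cfsg.Agent.Lib.Helper01.pCore_isPGroup p
  have hQS : Cfsg.pCore p G ≤ (S : Subgroup G) := Cfsg.Agent.Lib.Helper01.pCore_le_sylow S
  have hSN : (S : Subgroup G) ≤
      Subgroup.normalizer (Cfsg.thompsonSubgroupOf p (S : Subgroup G) : Set G) :=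
    Subgroup.le_normalizer.trans
      (Cfsg.Agent.Lib.Helper15.normalizer_le_normalizer_thompsonSubgroupOf p (S : Subgroup G))
  have hcomp : (Subgroup.normalizer (Cfsg.thompsonSubgroupOf p (S : Subgroup G) : Set G)).subtype.comp
      (Subgroup.inclusion hSN) = (S : Subgroup G).subtype := Subgroup.subtype_comp_inclusion hSN
  have hτ : Cfsg.IsStableEmbedding p (Subgroup.inclusion hSN) := by
    refine ⟨Subgroup.inclusion_injective hSN, inferInstance, ⟨S.subtype hSN, ?_⟩, ?_, ?_, ?_⟩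
    · rw [Sylow.coe_subtype, Subgroup.inclusion_range]
    · intro x hx
      rw [Subgroup.mem_centralizer_iff] at hx
      have hQNle : (Cfsg.pCore p G).subgroupOf
          (Subgroup.normalizer (Cfsg.thompsonSubgroupOf p (S : Subgroup G) : Set G)) ≤
          Cfsg.pCore p ↥(Subgroup.normalizer (Cfsg.thompsonSubgroupOf p (S : Subgroup G) : Set G)) :=
        Cfsg.Agent.Lib.Helper01.le_pCore (Subgroup.Normal.subgroupOf hQn _) hQp.comap_subtype
      apply hQNle
      rw [Subgroup.mem_subgroupOf]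
      apply hc
      rw [Subgroup.mem_centralizer_iff]
      intro q hq
      have hqN : q ∈ Subgroup.normalizer (Cfsg.thompsonSubgroupOf p (S : Subgroup G) : Set G) :=
        hSN (hQS hq)
      have h1 := hx ⟨q, hqN⟩ (hQNle (Subgroup.mem_subgroupOf.mpr hq))
      exact congrArg Subtype.val h1
    · have h1 : (Cfsg.thompsonSubgroup p ↥(S : Subgroup G)).map (Subgroup.inclusion hSN) =
          (Cfsg.thompsonSubgroupOf p (S : Subgroup G)).subgroupOf
            (Subgroup.normalizer (Cfsg.thompsonSubgroupOf p (S : Subgroup G) : Set G)) := by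
        have h0 : ((Cfsg.thompsonSubgroup p ↥(S : Subgroup G)).map (Subgroup.inclusion hSN)).map
            (Subgroup.normalizer (Cfsg.thompsonSubgroupOf p (S : Subgroup G) : Set G)).subtype =
            Cfsg.thompsonSubgroupOf p (S : Subgroup G) := by
          rw [Subgroup.map_map, hcomp]
          rfl
        calc (Cfsg.thompsonSubgroup p ↥(S : Subgroup G)).map (Subgroup.inclusion hSN)
            = (((Cfsg.thompsonSubgroup p ↥(S : Subgroup G)).map (Subgroup.inclusion hSN)).map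
                (Subgroup.normalizer
                  (Cfsg.thompsonSubgroupOf p (S : Subgroup G) : Set G)).subtype).comap
                (Subgroup.normalizer
                  (Cfsg.thompsonSubgroupOf p (S : Subgroup G) : Set G)).subtype :=
              (Subgroup.comap_map_eq_self_of_injective (Subgroup.subtype_injective _) _).symm
          _ = _ := by rw [h0]; rfl
      rw [h1]
      exact Subgroup.normal_in_normalizer
    · intro V' _ hV'
      apply hst.2.2 S V'
      calc V'.map (Subgroup.normalizer (Cfsg.thompsonSubgroupOf p (S : Subgroup G) : Set G)).subtype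
          ≤ ((Cfsg.omegaCenterThompson p ↥(S : Subgroup G)).map (Subgroup.inclusion hSN)).map
              (Subgroup.normalizer (Cfsg.thompsonSubgroupOf p (S : Subgroup G) : Set G)).subtype :=
            Subgroup.map_mono hV'
        _ = (Cfsg.omegaCenterThompson p ↥(S : Subgroup G)).map (S : Subgroup G).subtype := by
            rw [Subgroup.map_map, hcomp]
  haveI hWn := snc_map_normal (Subgroup.inclusion hSN) hτ
  intro n hn
  have h2 := QuadCore.mem_normalizer_map_of_normal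
    (Subgroup.normalizer (Cfsg.thompsonSubgroupOf p (S : Subgroup G) : Set G)).subtype
    ((Cfsg.stableNormalClosure p ↥(S : Subgroup G)).map (Subgroup.inclusion hSN)) ⟨n, hn⟩
  rw [Subgroup.map_map, hcomp] at h2
  exact h2

theorem WG_normal (hst : Cfsg.IsActionPStable p G)
    (hc : Subgroup.centralizer (Cfsg.pCore p G : Set G) ≤ Cfsg.pCore p G) (S : Sylow p G) :
    (WG S).Normal := by
  refine ⟨fun w hw g => ?_⟩
  obtain ⟨n, hn, c, hcC, rfl⟩ := Cfsg.Agent.Lib.Helper16.ZJ.frattini_inf_normal S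
    (Subgroup.centralizer (V1 S : Set G)) g
  have hJ : Cfsg.thompsonSubgroupOf p (S : Subgroup G) ≤
      (S : Subgroup G) ⊓ Subgroup.centralizer (V1 S : Set G) :=
    le_inf (Cfsg.Agent.Lib.Helper15.thompsonSubgroupOf_le p _) (thompson_le_centralizer_V1 hst hc S)
  have hJeq := Cfsg.Agent.Lib.Helper15.thompsonSubgroupOf_eq_of_le p
    (inf_le_left : (S : Subgroup G) ⊓ Subgroup.centralizer (V1 S : Set G) ≤ (S : Subgroup G)) hJ
  have hnJ : n ∈ Subgroup.normalizer (Cfsg.thompsonSubgroupOf p (S : Subgroup G) : Set G) := by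
    rw [← hJeq]
    exact Cfsg.Agent.Lib.Helper15.normalizer_le_normalizer_thompsonSubgroupOf p _ hn
  have hnW := normalizer_thompson_le hst hc S hnJ
  have hcw : c * w * c⁻¹ = w := by
    rw [Subgroup.mem_centralizer_iff] at hcC
    rw [← hcC w (WG_le_V1 S hw)]
    group
  have e : n * c * w * (n * c)⁻¹ = n * (c * w * c⁻¹) * n⁻¹ := by group
  rw [e, hcw]
  exact (Subgroup.mem_normalizer_iff.mp hnW w).mp hw

end main

end Cfsg.Agent.Lib.Helper02.StableW
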