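import Mathlib
import Cfsg.Agent.Lib.Helper02.StableW2
import Cfsg.Agent.Lib.Helper20.SylowNormal

set_option autoImplicit false

/-!
# `W(S)` and quotients by normal `p'`-subgroups
-/

universe u

namespace Cfsg.Agent.Lib.Helper02.StableW

open Cfsg
open scoped commutatorElement

variable {G : Type u} [Group G] [Finite G] {p : ℕ} [Fact p.Prime]

/-- a `p`-subgroup meets a `p'`-subgroup trivially -/
theorem eq_one_of_mem_of_coprime {P R : Subgroup G} (hP : IsPGroup p P)
    (hR : (Nat.card R).Coprime p) {x : G} (hxP : x ∈ P) (hxR : x ∈ R) : x = 1 := by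
  obtain ⟨k, hk⟩ := hP ⟨x, hxP⟩
  have hk' : x ^ p ^ k = 1 := by
    have h5 := congrArg Subtype.val hk
    simp only [Subgroup.coe_pow, Subgroup.coe_one] at h5
    exact h5
  have h3 : (⟨x, hxR⟩ : R) ^ Nat.card R = 1 := pow_card_eq_one'
  have h4 : x ^ Nat.card R = 1 := by
    have h5 := congrArg Subtype.val h3
    simp only [Subgroup.coe_pow, Subgroup.coe_one] at h5
    exact h5
  exact QuadCore.eq_one_of_pow_of_coprime x hk' h4 (Nat.Coprime.pow_right k hR)

theorem WG_map_quotient (S : Sylow p G) (R : Subgroup G) [R.Normal]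
    (hR : (Nat.card R).Coprime p) :
    WG (S.mapSurjective (QuotientGroup.mk'_surjective R)) = (WG S).map (QuotientGroup.mk' R) := by
  set π := QuotientGroup.mk' R with hπ
  set f : ↥(S : Subgroup G) →* G ⧸ R := π.comp (S : Subgroup G).subtype with hf
  have hfinj : Function.Injective f := by
    rw [injective_iff_map_eq_one]
    intro x hx
    have hxR : (x : G) ∈ R := by
      rw [← QuotientGroup.eq_one_iff]
      exact hx
    exact Subtype.ext (eq_one_of_mem_of_coprime S.2 hR x.2 hxR)
  have hrange : f.range = ((S.mapSurjective (QuotientGroup.mk'_surjective R) : Sylow p (G ⧸ R)) :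
      Subgroup (G ⧸ R)) := by
    rw [Sylow.coe_mapSurjective, hf, MonoidHom.range_comp, Subgroup.range_subtype]
  set η : ↥(S : Subgroup G) ≃*
      ↥((S.mapSurjective (QuotientGroup.mk'_surjective R) : Sylow p (G ⧸ R)) : Subgroup (G ⧸ R)) :=
    (MonoidHom.ofInjective hfinj).trans (MulEquiv.subgroupCongr hrange) with hη
  have hcomp : (((S.mapSurjective (QuotientGroup.mk'_surjective R) : Sylow p (G ⧸ R)) :
      Subgroup (G ⧸ R))).subtype.comp η.toMonoidHom = f := by
    ext x
    rfl
  have h1 := (Cfsg.Agent.S0622.result S.2).2.2.2.2 _ η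
  unfold WG
  rw [← h1, Subgroup.map_map, hcomp, hf, ← Subgroup.map_map]

/-- If `G / O_{p'}(G)` is action-`p`-stable of characteristic `p`, then `G = O_{p'}(G) N_G(W(S))`. -/
theorem pPrimeCore_sup_normalizer_WG (S : Sylow p G)
    (hst : haveI := Cfsg.Agent.Lib.Helper01.pPrimeCore_normal (G := G) p
      Cfsg.IsActionPStable p (G ⧸ Cfsg.pPrimeCore p G))
    (hc : haveI := Cfsg.Agent.Lib.Helper01.pPrimeCore_normal (G := G) p
      Subgroup.centralizer (Cfsg.pCore p (G ⧸ Cfsg.pPrimeCore p G) : Set (G ⧸ Cfsg.pPrimeCore p G)) ≤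
        Cfsg.pCore p (G ⧸ Cfsg.pPrimeCore p G)) :
    Cfsg.pPrimeCore p G ⊔ Subgroup.normalizer (WG S : Set G) = ⊤ := by
  haveI hRn := Cfsg.Agent.Lib.Helper01.pPrimeCore_normal (G := G) p
  set R := Cfsg.pPrimeCore p G with hRdef
  have hRcop : (Nat.card R).Coprime p := Cfsg.Agent.Lib.Helper01.pPrimeCore_card_coprime p
  have hWb := WG_normal hst hc (S.mapSurjective (QuotientGroup.mk'_surjective R))
  rw [WG_map_quotient S R hRcop] at hWb
  set M := WG S ⊔ R with hM
  haveI hMn : M.Normal := by
    have h1 : M = ((WG S).map (QuotientGroup.mk' R)).comap (QuotientGroup.mk' R) := by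
      rw [Subgroup.comap_map_eq, QuotientGroup.ker_mk']
    rw [h1]
    exact Subgroup.Normal.comap hWb _
  have hWM : WG S ≤ M := le_sup_left
  have hWp : IsPGroup p (WG S) := S.2.to_le (WG_le S)
  -- `W` is a Sylow `p`-subgroup of `M`
  have hidx : ¬ p ∣ ((WG S).subgroupOf M).index := by
    have h1 : ((WG S).subgroupOf M).index = (WG S).relIndex M := rfl
    rw [h1, hM, Cfsg.Agent.Lib.Helper20.relIndex_sup_eq_relIndex_inf]
    intro hdvd
    have h2 : (WG S ⊓ R).relIndex R ∣ Nat.card R := by
      rw [Subgroup.relIndex]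
      exact Subgroup.index_dvd_card _
    have h3 : p ∣ Nat.card R := hdvd.trans h2
    have hp : p.Prime := Fact.out
    exact (Nat.Prime.coprime_iff_not_dvd hp).mp hRcop.symm h3
  have hWMp : IsPGroup p ((WG S).subgroupOf M) := hWp.comap_subtype
  set PM : Sylow p M := hWMp.toSylow hidx with hPM
  have h4 := Sylow.normalizer_sup_eq_top PM
  have h5 : (PM : Subgroup M).map M.subtype = WG S := by
    rw [hPM, IsPGroup.toSylow_coe, Subgroup.subgroupOf_map_subtype, inf_of_le_left hWM]
  rw [h5] at h4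
  rw [eq_top_iff, ← h4]
  apply sup_le
  · exact le_sup_right
  · rw [hM]
    apply sup_le
    · exact (Subgroup.le_normalizer).trans le_sup_right
    · exact le_sup_left

end Cfsg.Agent.Lib.Helper02.StableW
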