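import Mathlib

set_option autoImplicit false

namespace Cfsg.Agent.Lib.Helper02

open scoped Pointwise

variable {G : Type*} [Group G]

/-- Sylow conjugation inside an overgroup: if `P` and `g P g⁻¹` both lie in `K`, then some
`h ∈ K` has `h * g ∈ N_G(P)`. -/
theorem exists_mem_mul_mem_normalizer {p : ℕ} [Fact p.Prime] [Finite G] (P : Sylow p G)
    (K : Subgroup G) (g : G) (h1 : (P : Subgroup G) ≤ K) (h2 : ∀ x ∈ P, g * x * g⁻¹ ∈ K) :
    ∃ h ∈ K, h * g ∈ Subgroup.normalizer ((P : Subgroup G) : Set G) := by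
  have h2' : ((g • P : Sylow p G) : Subgroup G) ≤ K := by
    intro y hy
    rw [Sylow.coe_subgroup_smul, Subgroup.mem_pointwise_smul_iff_inv_smul_mem] at hy
    have := h2 _ hy
    simpa [MulAut.smul_def, mul_assoc] using this
  obtain ⟨h, hh⟩ := MulAction.exists_smul_eq K ((g • P).subtype h2') (P.subtype h1)
  simp_rw [Sylow.smul_subtype, Subgroup.smul_def, smul_smul] at hh
  exact ⟨h, h.2, Sylow.smul_eq_iff_mem_normalizer.mp (Sylow.subtype_injective hh)⟩

end Cfsg.Agent.Lib.Helper02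

namespace Cfsg.Agent.Lib.Helper02

open scoped Pointwise

variable {G : Type*} [Group G]

/-- Two `p`-subgroups `A`, `B` of `K` lie, after conjugating `B` by an element of `K`, in a common
Sylow `p`-subgroup of `G`. -/
theorem exists_common_sylow {p : ℕ} [Fact p.Prime] [Finite G] (K A B : Subgroup G)
    (hA : A ≤ K) (hB : B ≤ K) (hpA : IsPGroup p A) (hpB : IsPGroup p B) :
    ∃ k ∈ K, ∃ Q : Sylow p G, A ≤ (Q : Subgroup G) ∧ ∀ b ∈ B, k * b * k⁻¹ ∈ (Q : Subgroup G) := by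
  have hA' : IsPGroup p (A.subgroupOf K) := hpA.comap_subtype
  have hB' : IsPGroup p (B.subgroupOf K) := hpB.comap_subtype
  obtain ⟨R, hR⟩ := hA'.exists_le_sylow
  obtain ⟨S, hS⟩ := hB'.exists_le_sylow
  obtain ⟨c, hc⟩ := MulAction.exists_smul_eq K S R
  have hRp : IsPGroup p ((R : Subgroup K).map K.subtype) := R.isPGroup'.map _
  obtain ⟨Q, hQ⟩ := hRp.exists_le_sylow
  refine ⟨c, c.2, Q, ?_, ?_⟩
  · intro a ha
    apply hQ
    exact ⟨⟨a, hA ha⟩, hR (by simpa [Subgroup.mem_subgroupOf] using ha), rfl⟩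
  · intro b hb
    apply hQ
    have hbS : (⟨b, hB hb⟩ : K) ∈ (S : Subgroup K) :=
      hS (by simpa [Subgroup.mem_subgroupOf] using hb)
    have h1 : MulAut.conj c • (⟨b, hB hb⟩ : K) ∈ MulAut.conj c • (S : Subgroup K) :=
      Subgroup.smul_mem_pointwise_smul _ _ _ hbS
    have h2 : (c • S : Sylow p K) = R := hc
    have h3 : MulAut.conj c • (⟨b, hB hb⟩ : K) ∈ (R : Subgroup K) := by
      rw [← h2]; exact h1
    refine ⟨_, h3, ?_⟩
    simp [MulAut.smul_def]

end Cfsg.Agent.Lib.Helper02
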