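import Mathlib
import Cfsg.Agent.Lib.Lead.ThompsonE
import Cfsg.Agent.Lib.Helper02.StableW3
import Cfsg.Agent.S0626

set_option autoImplicit false

/-!
# Thompson's normal `p`-complement theorem, `W(S)`-form

The reduction follows `Cfsg.Agent.Lib.Lead.ThompsonA/E` (steps A–E2) with the hypothesis
"`N_G(W(P))` has a normal `p`-complement"; the final contradiction comes from `p`-stability
(`S0626`) and `WG_normal` (`S0624`).
-/

universe u

namespace Cfsg.Agent.Lib.Helper02.ThompsonW

open Cfsg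
open Cfsg.Agent.Lib.Helper02 Cfsg.Agent.Lib.Helper97 Cfsg.Agent.Lib.Lead
open Cfsg.Agent.Lib.Helper02.StableW

/-- `W(P)` of a subgroup `P ≤ G`, viewed inside `G` -/
def Wf {G : Type u} [Group G] (p : ℕ) (P : Subgroup G) : Subgroup G :=
  (Cfsg.stableNormalClosure p ↥P).map P.subtype

/-- hypothesis of the `W`-form of Thompson's theorem -/
def hypW {G : Type u} [Group G] (p : ℕ) (P : Subgroup G) : Prop :=
  HasNormalPComplement p ↥(Subgroup.normalizer (Wf p P : Set G))

section Wf
variable {G : Type u} [Group G] [Finite G] {p : ℕ} [Fact p.Prime]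

theorem Wf_le (P : Subgroup G) : Wf p P ≤ P := Subgroup.map_subtype_le _

theorem Wf_ne_bot {P : Subgroup G} (hP : IsPGroup p P) (h : P ≠ ⊥) : Wf p P ≠ ⊥ := by
  haveI : Nontrivial ↥P := (Subgroup.nontrivial_iff_ne_bot P).mpr h
  have h1 := (Cfsg.Agent.S0622.result hP).2.2.2.1 inferInstance
  intro h2
  apply h1
  exact (Subgroup.map_eq_bot_iff_of_injective _ P.subtype_injective).mp h2

theorem Wf_map_of_injOn {G' : Type u} [Group G'] (f : G →* G') (P : Subgroup G)
    (hP : IsPGroup p P) (hf : Set.InjOn f (P : Set G)) : Wf p (P.map f) = (Wf p P).map f := by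
  set g : ↥P →* G' := f.comp P.subtype with hg
  have hginj : Function.Injective g := by
    intro x y hxy
    exact Subtype.ext (hf x.2 y.2 hxy)
  have hrange : g.range = P.map f := by
    rw [hg, MonoidHom.range_comp, Subgroup.range_subtype]
  set η : ↥P ≃* ↥(P.map f) :=
    (MonoidHom.ofInjective hginj).trans (MulEquiv.subgroupCongr hrange) with hη
  have hcomp : (P.map f).subtype.comp η.toMonoidHom = g := by
    ext x
    rfl
  have h1 := (Cfsg.Agent.S0622.result hP).2.2.2.2 _ η
  unfold Wf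
  rw [← h1, Subgroup.map_map, hcomp, hg, ← Subgroup.map_map]

theorem normalizer_le_normalizer_Wf {P : Subgroup G} (hP : IsPGroup p P) :
    Subgroup.normalizer (P : Set G) ≤ Subgroup.normalizer (Wf p P : Set G) := by
  intro n hn
  apply Cfsg.Agent.Lib.Helper15.mem_normalizer_of_map_conj_eq
  have h1 := Wf_map_of_injOn (MulAut.conj n).toMonoidHom P hP (MulAut.conj n).injective.injOn
  rw [Cfsg.Agent.Lib.Helper15.map_conj_eq_of_mem_normalizer hn] at h1
  exact h1.symm

theorem Wf_eq_WG (S : Sylow p G) : Wf p (S : Subgroup G) = WG S := rfl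

end Wf

section Hyp
variable {G : Type u} [Group G] [Finite G] {p : ℕ} [Fact p.Prime]

theorem hypW_of_map {H : Type u} [Group H] [Finite H] (f : H →* G) (hf : Function.Injective f)
    (R : Subgroup H) (hR : IsPGroup p R) (h : hypW p (R.map f)) : hypW p R := by
  refine pn_of_map_le f hf _ _ ?_ h
  rw [Wf_map_of_injOn f R hR hf.injOn]
  exact Subgroup.le_normalizer_map f

theorem hypW_conj {P : Subgroup G} (hP : IsPGroup p P) (h : hypW p P) (g : G) :
    hypW p (P.map (MulAut.conj g).toMonoidHom) := by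
  apply hypW_of_map (MulAut.conj g⁻¹).toMonoidHom (MulAut.conj g⁻¹).injective _
    (hP.map (MulAut.conj g).toMonoidHom)
  have : (P.map (MulAut.conj g).toMonoidHom).map (MulAut.conj g⁻¹).toMonoidHom = P := by
    rw [Subgroup.map_map]
    ext x
    simp only [Subgroup.mem_map, MonoidHom.coe_comp, MulEquiv.coe_toMonoidHom, Function.comp_apply,
      MulAut.conj_apply]
    constructor
    · rintro ⟨y, hy, rfl⟩
      have : g⁻¹ * (g * y * g⁻¹) * g⁻¹⁻¹ = y := by group
      rw [this]; exact hy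
    · intro hx
      exact ⟨x, hx, by group⟩
  rw [this]
  exact h

theorem hypW_sylow (P P' : Sylow p G) (h : hypW p (P : Subgroup G)) :
    hypW p (P' : Subgroup G) := by
  obtain ⟨g, rfl⟩ := MulAction.exists_smul_eq G P P'
  have := hypW_conj P.2 h g
  rw [Sylow.coe_subgroup_smul, Subgroup.pointwise_smul_def]
  exact this

end Hyp

section Main
variable {G : Type u} [Group G] [Finite G] {p : ℕ} [Fact p.Prime]

/-- the induction hypothesis -/
def IHypW (p : ℕ) (G : Type u) [Group G] : Prop :=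
  ∀ (G' : Type u) [Group G'] [Finite G'], Nat.card G' < Nat.card G →
    ∀ P' : Sylow p G', hypW p (P' : Subgroup G') → HasNormalPComplement p G'

/-- (A) proper subgroups containing a Sylow p-subgroup have a normal p-complement -/
theorem stepA (IH : IHypW p G) (hall : ∀ P' : Sylow p G, hypW p (P' : Subgroup G))
    (M : Subgroup G) (hM : M ≠ ⊤) (P' : Sylow p G) (hPM : (P' : Subgroup G) ≤ M) :
    HasNormalPComplement p ↥M := by
  apply IH ↥M (card_lt_of_ne_top hM) (P'.subtype hPM)
  apply hypW_of_map M.subtype M.subtype_injective _ (P'.subtype hPM).2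
  rw [Sylow.coe_subtype, Subgroup.subgroupOf_map_subtype, inf_of_le_left hPM]
  exact hall P'

/-- (B) in a minimal counterexample `O_p(G) ≠ 1` -/
theorem stepB (IH : IHypW p G) (hall : ∀ P' : Sylow p G, hypW p (P' : Subgroup G))
    (hG : ¬ HasNormalPComplement p G) : pCore p G ≠ ⊥ := by
  classical
  have hp : p.Prime := Fact.out
  intro hbot
  have hex : ∃ Q : Subgroup G, IsPGroup p Q ∧ Q ≠ ⊥ ∧
      ¬ HasNormalPComplement p ↥(Subgroup.normalizer (Q : Set G)) := by
    by_contra hne
    push Not at hne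
    exact hG (Helper41.hasNormalPComplement_of_local hne)
  let 𝒰 := {Q : Subgroup G // IsPGroup p Q ∧ Q ≠ ⊥ ∧
      ¬ HasNormalPComplement p ↥(Subgroup.normalizer (Q : Set G))}
  haveI : Nonempty 𝒰 := let ⟨Q, hQ⟩ := hex; ⟨⟨Q, hQ⟩⟩
  obtain ⟨⟨U, hUp, hUne, hUbad⟩, hmax⟩ := Finite.exists_max
    (fun Q : 𝒰 => (Nat.card (Subgroup.normalizer (Q.1 : Set G))).factorization p)
  set N := Subgroup.normalizer (U : Set G) with hN
  have hNtop : N ≠ ⊤ := by
    intro h
    have hUn : U.Normal := Subgroup.normalizer_eq_top_iff.mp h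
    have := Helper81.le_pCore hUn hUp
    rw [hbot] at this
    exact hUne (le_bot_iff.mp this)
  obtain ⟨S'⟩ : Nonempty (Sylow p ↥N) := inferInstance
  set S := (S' : Subgroup ↥N).map N.subtype with hS
  have hSp : IsPGroup p S := S'.2.map _
  have hScard : Nat.card S = p ^ (Nat.card N).factorization p := by
    rw [hS, Subgroup.card_map_of_injective N.subtype_injective]
    exact S'.card_eq_multiplicity
  have hUS : U ≤ S := by
    haveI : (U.subgroupOf N).Normal := Subgroup.normal_in_normalizer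
    have hUp' : IsPGroup p (U.subgroupOf N) := hUp.comap_subtype
    have h1 : U.subgroupOf N ≤ S' := IsPGroup.le_sylow_of_normal hUp' S'
    intro x hx
    refine ⟨⟨x, Subgroup.le_normalizer hx⟩, h1 ?_, rfl⟩
    rw [Subgroup.mem_subgroupOf]
    exact hx
  have hSne : S ≠ ⊥ := fun h => hUne (le_bot_iff.mp (h ▸ hUS))
  have hnh : ¬ hypW p (S' : Subgroup ↥N) :=
    fun h => hUbad (IH ↥N (card_lt_of_ne_top hNtop) S' h)
  have hnh' : ¬ hypW p S := fun h => hnh (hypW_of_map N.subtype N.subtype_injective _ S'.2 h)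
  have hX : ∃ X : Subgroup G, IsPGroup p X ∧ X ≠ ⊥ ∧
      Subgroup.normalizer (S : Set G) ≤ Subgroup.normalizer (X : Set G) ∧
      ¬ HasNormalPComplement p ↥(Subgroup.normalizer (X : Set G)) :=
    ⟨Wf p S, hSp.to_le (Wf_le S), Wf_ne_bot hSp hSne, normalizer_le_normalizer_Wf hSp, hnh'⟩
  obtain ⟨X, hXp, hXne, hSX, hXbad⟩ := hX
  have hle : (Nat.card (Subgroup.normalizer (X : Set G))).factorization p ≤
      (Nat.card N).factorization p := hmax ⟨X, hXp, hXne, hXbad⟩
  obtain ⟨P', hSP'⟩ := hSp.exists_le_sylow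
  by_cases hEq : S = (P' : Subgroup G)
  · apply hUbad
    apply stepA IH hall N hNtop P'
    rw [← hEq]
    exact Subgroup.map_subtype_le _
  · have hlt : S < (P' : Subgroup G) := lt_of_le_of_ne hSP' hEq
    obtain ⟨x, hxP, hxS, hxN⟩ :=
      Helper69.exists_mem_normalizer_notMem (P' : Subgroup G) S P'.2 hlt
    set T := (P' : Subgroup G) ⊓ Subgroup.normalizer (S : Set G) with hT
    have hTp : IsPGroup p T := P'.2.to_le inf_le_left
    have hST : S < T := by
      refine lt_of_le_of_ne (le_inf hSP' Subgroup.le_normalizer) ?_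
      intro h
      apply hxS
      rw [h]
      exact ⟨hxP, hxN⟩
    have hTX : T ≤ Subgroup.normalizer (X : Set G) := inf_le_right.trans hSX
    obtain ⟨t, ht⟩ := IsPGroup.iff_card.mp hTp
    have h1 : Nat.card S < Nat.card T := card_lt_of_lt' hST
    rw [hScard, ht] at h1
    have h2 : (Nat.card N).factorization p < t := (Nat.pow_lt_pow_iff_right hp.one_lt).mp h1
    have h3 : p ^ t ∣ Nat.card (Subgroup.normalizer (X : Set G)) := by
      rw [← ht]
      exact Subgroup.card_dvd_of_le hTX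
    have h4 : t ≤ (Nat.card (Subgroup.normalizer (X : Set G))).factorization p :=
      (hp.pow_dvd_iff_le_factorization Nat.card_pos.ne').mp h3
    omega

/-- (C) the quotient by `O_p(G)` has a normal p-complement -/
theorem stepC (IH : IHypW p G) (hall : ∀ P' : Sylow p G, hypW p (P' : Subgroup G))
    (H₀ : Subgroup G) [H₀.Normal] (hHp : IsPGroup p H₀)
    (hHmax : ∀ X : Subgroup G, X.Normal → IsPGroup p X → X ≤ H₀) (hHne : H₀ ≠ ⊥) :
    HasNormalPComplement p (G ⧸ H₀) := by
  classical
  have hp : p.Prime := Fact.out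
  obtain ⟨P⟩ : Nonempty (Sylow p G) := inferInstance
  set f := QuotientGroup.mk' H₀ with hf
  have hfs : Function.Surjective f := QuotientGroup.mk'_surjective H₀
  have hlt := card_quotient_lt' H₀ hHne
  have hHP : H₀ ≤ P := hHp.le_sylow_of_normal P
  have hPbp : IsPGroup p ((P : Subgroup G).map f) := P.2.map f
  by_cases hPb : (P : Subgroup G).map f = ⊥
  · apply pn_of_coprime_card
    have h1 := (P.mapSurjective hfs).card_eq_multiplicity
    rw [Sylow.coe_mapSurjective, hPb, Subgroup.card_bot] at h1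
    have h2 : (Nat.card (G ⧸ H₀)).factorization p = 0 := by
      by_contra h
      have : 1 < p ^ (Nat.card (G ⧸ H₀)).factorization p := Nat.one_lt_pow h hp.one_lt
      omega
    rw [Nat.coprime_comm, hp.coprime_iff_not_dvd]
    intro hd
    have := (hp.pow_dvd_iff_le_factorization (Nat.card_pos (α := G ⧸ H₀)).ne').mp
      (by simpa using hd : p ^ 1 ∣ _)
    omega
  · have key : ∀ Y' : Subgroup (G ⧸ H₀), Y' ≤ (P : Subgroup G).map f → Y' ≠ ⊥ →
        Subgroup.normalizer (((P : Subgroup G).map f : Subgroup (G ⧸ H₀)) : Set (G ⧸ H₀)) ≤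
          Subgroup.normalizer (Y' : Set (G ⧸ H₀)) →
        HasNormalPComplement p ↥(Subgroup.normalizer (Y' : Set (G ⧸ H₀))) := by
      intro Y' hY'P hY'ne hnorm
      set Y := Y'.comap f with hY
      have hYP : Y ≤ P := by
        intro y hy
        obtain ⟨x, hx, hxy⟩ := hY'P (Subgroup.mem_comap.mp hy)
        have h1 : x⁻¹ * y ∈ H₀ := by
          rw [← QuotientGroup.eq_one_iff, ← QuotientGroup.mk'_apply, ← hf, map_mul, map_inv, hxy]
          simp
        have : y = x * (x⁻¹ * y) := by group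
        rw [this]
        exact (P : Subgroup G).mul_mem hx (hHP h1)
      have hYp : IsPGroup p Y := P.2.to_le hYP
      have hNY : Subgroup.normalizer (Y : Set G) =
          (Subgroup.normalizer (Y' : Set (G ⧸ H₀))).comap f :=
        (Subgroup.comap_normalizer_eq_of_surjective Y' hfs).symm
      have hPN : (P : Subgroup G) ≤ Subgroup.normalizer (Y : Set G) := by
        intro x hx
        rw [hNY, Subgroup.mem_comap]
        exact hnorm (Subgroup.le_normalizer (Subgroup.mem_map_of_mem f hx))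
      have hne : Subgroup.normalizer (Y : Set G) ≠ ⊤ := by
        intro h
        have hYn : Y.Normal := Subgroup.normalizer_eq_top_iff.mp h
        have hYH := hHmax Y hYn hYp
        apply hY'ne
        rw [← Subgroup.map_comap_eq_self_of_surjective hfs Y', ← hY, Subgroup.map_eq_bot_iff,
          hf, QuotientGroup.ker_mk']
        exact hYH
      have h1 := stepA IH hall _ hne P hPN
      have h2 := pn_map f _ h1
      rwa [hNY, Subgroup.map_comap_eq_self_of_surjective hfs] at h2
    apply IH (G ⧸ H₀) hlt (P.mapSurjective hfs)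
    rw [Sylow.coe_mapSurjective]
    exact key _ (Wf_le _) (Wf_ne_bot hPbp hPb) (normalizer_le_normalizer_Wf hPbp)

/-- (D) in a minimal counterexample `O_{p'}(G) = 1` -/
theorem stepD (IH : IHypW p G) (hG : ¬ HasNormalPComplement p G) (P : Sylow p G)
    (hP : hypW p (P : Subgroup G)) : pPrimeCore p G = ⊥ := by
  by_contra hne
  haveI := Helper81.pPrimeCore_normal (G := G) p
  have hOc : (Nat.card (pPrimeCore p G)).Coprime p := Helper81.card_pPrimeCore_coprime p
  set f := QuotientGroup.mk' (pPrimeCore p G) with hf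
  have hfs : Function.Surjective f := QuotientGroup.mk'_surjective _
  have hlt := card_quotient_lt' (pPrimeCore p G) hne
  have hinj : Set.InjOn f ((P : Subgroup G) : Set G) := by
    intro x hx y hy hxy
    have h1 : x⁻¹ * y ∈ (P : Subgroup G) ⊓ pPrimeCore p G :=
      ⟨(P : Subgroup G).mul_mem ((P : Subgroup G).inv_mem hx) hy, QuotientGroup.eq.mp hxy⟩
    rw [Helper15.isPGroup_inf_coprime_eq_bot P.2 hOc, Subgroup.mem_bot] at h1
    exact inv_mul_eq_one.mp h1
  apply hG
  apply pn_of_quotient_coprime (pPrimeCore p G) hOc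
  apply IH (G ⧸ pPrimeCore p G) hlt (P.mapSurjective hfs)
  rw [Sylow.coe_mapSurjective]
  unfold hypW
  rw [Wf_map_of_injOn f P P.2 hinj, Helper15.normalizer_map_mk_of_coprime (pPrimeCore p G) hOc _
    (P.2.to_le (Wf_le _))]
  exact pn_map f _ hP

/-- (E1) a `P`-invariant subgroup between `H₀` and `K` is `H₀` or `K` -/
theorem stepE1 (IH : IHypW p G) (hall : ∀ P' : Sylow p G, hypW p (P' : Subgroup G))
    (H₀ : Subgroup G) [H₀.Normal] (hHp : IsPGroup p H₀)
    (hCH : Subgroup.centralizer (H₀ : Set G) ≤ H₀) (P : Sylow p G)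
    (K : Subgroup G) (hKP : K ⊓ P ≤ H₀) (hKc : (H₀.relIndex K).Coprime p)
    (L : Subgroup G) (hHL : H₀ ≤ L) (hLK : L ≤ K)
    (hPL : (P : Subgroup G) ≤ Subgroup.normalizer (L : Set G)) :
    L = H₀ ∨ L = K := by
  have hp : p.Prime := Fact.out
  by_cases hM : L ⊔ (P : Subgroup G) = ⊤
  · right
    apply le_antisymm hLK
    intro k hk
    have hkM : k ∈ L ⊔ (P : Subgroup G) := by rw [hM]; exact Subgroup.mem_top _
    rw [sup_comm] at hkM
    obtain ⟨x, hx, l, hl, rfl⟩ := Helper67.mem_sup_of_le_normalizer hPL hkM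
    have hxK : x ∈ K := by
      have : x = (x * l) * l⁻¹ := by group
      rw [this]
      exact K.mul_mem hk (K.inv_mem (hLK hl))
    exact L.mul_mem (hHL (hKP ⟨hxK, hx⟩)) hl
  · left
    set M := L ⊔ (P : Subgroup G) with hMdef
    have hPN : HasNormalPComplement p ↥M := stepA IH hall M hM P le_sup_right
    obtain ⟨D, hD⟩ := (Helper74.hasNormalPComplement_iff_exists_isNPC M).mp hPN
    have hHM : H₀ ≤ M := hHL.trans le_sup_left
    have hDbot : D = ⊥ := by
      have hinf : H₀ ⊓ D = ⊥ := Helper15.isPGroup_inf_coprime_eq_bot hHp hD.cop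
      rw [eq_bot_iff]
      intro d hd
      have hdC : d ∈ Subgroup.centralizer (H₀ : Set G) := by
        rw [Subgroup.mem_centralizer_iff]
        intro h hh
        have h1 : d * h * d⁻¹ * h⁻¹ ∈ H₀ ⊓ D := by
          constructor
          · exact H₀.mul_mem (‹H₀.Normal›.conj_mem h hh d) (H₀.inv_mem hh)
          · have hn := hD.norm (hHM hh)
            have h2 : h * d⁻¹ * h⁻¹ ∈ D :=
              (Subgroup.mem_normalizer_iff.mp hn d⁻¹).mp (D.inv_mem hd)
            have : d * h * d⁻¹ * h⁻¹ = d * (h * d⁻¹ * h⁻¹) := by group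
            rw [this]
            exact D.mul_mem hd h2
        rw [hinf, Subgroup.mem_bot] at h1
        have : h * d = (d * h * d⁻¹ * h⁻¹)⁻¹ * (d * h) := by group
        rw [this, h1]
        simp
      have : d ∈ H₀ ⊓ D := ⟨hCH hdC, hd⟩
      rwa [hinf] at this
    have hMp : IsPGroup p M := by
      obtain ⟨j, hj⟩ := hD.idx
      rw [hDbot, Subgroup.relIndex_bot_left] at hj
      exact IsPGroup.of_card hj
    exact eq_of_isPGroup_between H₀ K L hKc hHL hLK (hMp.to_le le_sup_left)

end Main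

section Final
variable {G : Type u} [Group G] [Finite G] {p : ℕ} [Fact p.Prime]

theorem coe_pow_eq_one {H : Subgroup G} {x : G} {hx : x ∈ H} {n : ℕ}
    (h : (⟨x, hx⟩ : H) ^ n = 1) : x ^ n = 1 := by
  have h5 := congrArg Subtype.val h
  simp only [Subgroup.coe_pow, Subgroup.coe_one] at h5
  exact h5

/-- `G = H₀.(K/H₀).(G/K)` with `H₀`, `G/K` `p`-groups (`p` odd) and `K/H₀` abelian has abelian
Sylow 2-subgroups -/
theorem sylow_two_comm (hp2 : p ≠ 2) (H₀ K : Subgroup G) [H₀.Normal] [K.Normal]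
    (hHp : IsPGroup p H₀) (hKi : ∃ n : ℕ, K.index = p ^ n)
    (hKab : ∀ x ∈ K.map (QuotientGroup.mk' H₀), ∀ y ∈ K.map (QuotientGroup.mk' H₀), x * y = y * x)
    (T : Sylow 2 G) : IsMulCommutative T := by
  have hp : p.Prime := Fact.out
  have hcop : ∀ k n : ℕ, Nat.Coprime (2 ^ k) (p ^ n) := fun k n =>
    Nat.Coprime.pow k n ((Nat.coprime_primes Nat.prime_two hp).mpr (Ne.symm hp2))
  have hTK : ∀ t ∈ T, t ∈ K := by
    intro t ht
    obtain ⟨k, hk⟩ := T.2 ⟨t, ht⟩
    have hk' : t ^ 2 ^ k = 1 := coe_pow_eq_one hk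
    obtain ⟨n, hn⟩ := hKi
    rw [← QuotientGroup.eq_one_iff]
    apply QuadCore.eq_one_of_pow_of_coprime (p := p ^ n) (n := 2 ^ k)
    · rw [← QuotientGroup.mk_pow, QuotientGroup.eq_one_iff, ← hn]
      exact Subgroup.pow_index_mem K t
    · rw [← QuotientGroup.mk_pow, hk']
      rfl
    · exact hcop k n
  refine ⟨⟨fun a b => ?_⟩⟩
  apply Subtype.ext
  rw [Subgroup.coe_mul, Subgroup.coe_mul]
  have ha := hTK a.1 a.2
  have hb := hTK b.1 b.2
  have h1 : QuotientGroup.mk' H₀ (a.1 * b.1) = QuotientGroup.mk' H₀ (b.1 * a.1) := by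
    rw [map_mul, map_mul]
    exact hKab _ (Subgroup.mem_map_of_mem _ ha) _ (Subgroup.mem_map_of_mem _ hb)
  have h2 : (a.1 * b.1)⁻¹ * (b.1 * a.1) ∈ H₀ := QuotientGroup.eq.mp h1
  have h3 : (a.1 * b.1)⁻¹ * (b.1 * a.1) ∈ (T : Subgroup G) :=
    Subgroup.mul_mem _ (Subgroup.inv_mem _ (Subgroup.mul_mem _ a.2 b.2)) (Subgroup.mul_mem _ b.2 a.2)
  obtain ⟨k, hk⟩ := T.2 ⟨_, h3⟩
  obtain ⟨j, hj⟩ := hHp ⟨_, h2⟩
  have h4 : (a.1 * b.1)⁻¹ * (b.1 * a.1) = 1 :=
    QuadCore.eq_one_of_pow_of_coprime _ (coe_pow_eq_one hj) (coe_pow_eq_one hk) (hcop k j)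
  exact inv_mul_eq_one.mp h4

theorem thompsonW_step (hp2 : p ≠ 2) (IH : IHypW p G) (P : Sylow p G)
    (hP : hypW p (P : Subgroup G)) : HasNormalPComplement p G := by
  by_contra hG
  have hall : ∀ P' : Sylow p G, hypW p (P' : Subgroup G) := fun P' => hypW_sylow P P' hP
  have hOp := stepB IH hall hG
  haveI := Helper81.pCore_normal (G := G) p
  have hHp : IsPGroup p (pCore p G) := Helper81.isPGroup_pCore p
  have hHmax : ∀ X : Subgroup G, X.Normal → IsPGroup p X → X ≤ pCore p G :=
    fun X hn hx => Helper81.le_pCore hn hx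
  have hC := stepC IH hall (pCore p G) hHp hHmax hOp
  have hO := stepD IH hG P hP
  have hHP : pCore p G ≤ P := hHp.le_sylow_of_normal P
  obtain ⟨K, hKn, hHK, hKP, hG_KP, hKc, hKi⟩ := exists_K (pCore p G) P hHP hC
  haveI := hKn
  have hKc' : ((pCore p G).relIndex K).Coprime p := by
    rw [← card_map_mk_eq_relIndex _ _ hHK]; exact hKc
  have hCH := stepE0 (pCore p G) hHp hHmax hO K hHK hKc' hKi
  have hE1 := fun L h1 h2 h3 => stepE1 IH hall (pCore p G) hHp hCH P K hKP hKc' L h1 h2 h3
  have hKab := stepE2 (pCore p G) P K hHK hKc hE1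
  have hab := sylow_two_comm hp2 (pCore p G) K hHp hKi hKab
  have hst := Cfsg.Agent.S0626.result hp2 hab
  have hWn : (WG P).Normal := WG_normal hst hCH P
  have h4 := hP
  unfold hypW at h4
  rw [Wf_eq_WG, Subgroup.normalizer_eq_top_iff.mpr hWn] at h4
  exact hG (pn_top_iff.mp h4)

theorem thompsonW_aux (hp2 : p ≠ 2) : ∀ (n : ℕ) (G : Type u) [Group G] [Finite G],
    Nat.card G = n → ∀ P : Sylow p G, hypW p (P : Subgroup G) → HasNormalPComplement p G := by
  intro n
  induction n using Nat.strong_induction_on with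
  | _ n ih =>
    intro G _ _ hn P hP
    apply thompsonW_step hp2 _ P hP
    intro G' _ _ hlt P' hP'
    exact ih (Nat.card G') (hn ▸ hlt) G' rfl P' hP'

/-- Thompson's normal `p`-complement theorem, `W(S)`-form -/
theorem thompsonW (hp2 : p ≠ 2) (S : Sylow p G)
    (hN : HasNormalPComplement p ↥(Subgroup.normalizer
      (((Cfsg.stableNormalClosure p ↥(S : Subgroup G)).map (S : Subgroup G).subtype) : Set G))) :
    HasNormalPComplement p G :=
  thompsonW_aux hp2 (Nat.card G) G rfl S hN

end Final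

end Cfsg.Agent.Lib.Helper02.ThompsonW
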