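import Mathlib
import Cfsg.Prelude.Def_Transfer
import Cfsg.Agent.Lib.Helper16.ZJ2
import Cfsg.Agent.Lib.Helper57.ElemWW
import Cfsg.Agent.Lib.Helper40.OmegaLemma
import Cfsg.Agent.Lib.Helper02.ThompsonJ

/-!
# Glauberman's ZJ-theorem for the full centre of the elementary abelian Thompson subgroup

`Cfsg.centerThompsonOf p P` is `Z(J_e(P))`, where `J_e(P)` is generated by the elementary abelian
subgroups of `P` of largest order.  The generic machinery of `Lib.Helper16.ZJ` gives normality of the
intersection of that family, which is only `Ω₁(Z(J_e(P)))`.  Here we prove normality of the full centre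
`Z(J_e(P))` in a `p`-stable group with `C_G(O_p(G)) ≤ O_p(G)`, `p` odd.

The proof follows Glauberman's induction on normal `p`-subgroups `B`; when `B` is the normal closure of
`Z ∩ B` it has class at most two, `B₁ = Ω₁(B)` has exponent `p`, and the replacement theorem is applied
to `B₁`; the `Ω`-lemma for `p'`-elements links `C_G(B₁)` with `C_G(B)`.
-/

set_option autoImplicit false
open Cfsg
open Cfsg.Agent.Lib.Helper16

namespace Cfsg.Agent.Lib.Helper02.ZJe

open scoped commutatorElement

variable {G : Type*} [Group G]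

/-- the predicate "elementary abelian" -/
abbrev QE (p : ℕ) : Subgroup G → Prop := fun U => Cfsg.IsElementaryAbelian p U

theorem goodQE (p : ℕ) : ZJ.GoodPred (QE (G := G) p) :=
  Cfsg.Agent.Lib.Helper57.ElemWW.goodPred_elem p

theorem fam_iff (p : ℕ) (D U : Subgroup G) :
    U ∈ Set.image (fun A : Subgroup ↥D => A.map D.subtype)
        (Cfsg.maxElementaryAbelianSubgroups p ↥D) ↔ U ∈ ZJ.Fam (QE p) D :=
  GR.mem_image_max_iff D (fun A' => Cfsg.IsElementaryAbelian p A')
    (fun U => Cfsg.IsElementaryAbelian p U) (Cfsg.Agent.Lib.Helper57.ElemWW.isElem_map_iff p D) U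

/-- `J_e(D)` is the join of the ambient family -/
theorem thompsonOf_eq_sSup (p : ℕ) (D : Subgroup G) :
    Cfsg.thompsonSubgroupOf p D = sSup (ZJ.Fam (QE p) D) := by
  apply le_antisymm
  · unfold Cfsg.thompsonSubgroupOf Cfsg.thompsonSubgroup
    rw [Subgroup.map_le_iff_le_comap]
    apply sSup_le
    intro A' hA'
    rw [← Subgroup.map_le_iff_le_comap]
    exact le_sSup ((fam_iff p D _).mp ⟨A', hA', rfl⟩)
  · apply sSup_le
    intro U hU
    obtain ⟨A', hA', rfl⟩ := (fam_iff p D U).mpr hU
    exact Subgroup.map_mono (le_sSup hA')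

theorem le_thompsonOf_of_mem {p : ℕ} {D U : Subgroup G} (hU : U ∈ ZJ.Fam (QE p) D) :
    U ≤ Cfsg.thompsonSubgroupOf p D := by
  rw [thompsonOf_eq_sSup]; exact le_sSup hU

/-- an element of order dividing `p` of `D` centralizing a member of the family lies in it -/
theorem mem_of_fam_of_comm [Finite G] {p : ℕ} {D U : Subgroup G} (hU : U ∈ ZJ.Fam (QE p) D) {x : G}
    (hxD : x ∈ D) (hx : x ^ p = 1) (hc : ∀ u ∈ U, u * x = x * u) : x ∈ U := by
  obtain ⟨A', hA', rfl⟩ := (fam_iff p D U).mpr hU
  have : (⟨x, hxD⟩ : ↥D) ∈ A' := by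
    apply Cfsg.Agent.Lib.Helper57.ElemWW.mem_of_max hA'
    · apply Subtype.ext; simpa using hx
    · intro a ha
      apply Subtype.ext
      exact hc _ (Subgroup.mem_map_of_mem D.subtype ha)
  exact ⟨⟨x, hxD⟩, this, rfl⟩

/-- monotonicity of `J_e` along subgroups containing a member of the family -/
theorem thompsonOf_mono {p : ℕ} {P R A : Subgroup G} (hRP : R ≤ P) (hA : A ∈ ZJ.Fam (QE p) P)
    (hAR : A ≤ R) : Cfsg.thompsonSubgroupOf p R ≤ Cfsg.thompsonSubgroupOf p P := by
  rw [thompsonOf_eq_sSup, thompsonOf_eq_sSup]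
  exact sSup_le_sSup (ZJ.Fam_mono hRP hA hAR).2

/-- `J_e(P) ≤ R ≤ P` gives `J_e(R) = J_e(P)` -/
theorem thompsonOf_eq_of_between [Finite G] {p : ℕ} {P R : Subgroup G} (hRP : R ≤ P)
    (hJ : Cfsg.thompsonSubgroupOf p P ≤ R) :
    Cfsg.thompsonSubgroupOf p R = Cfsg.thompsonSubgroupOf p P := by
  obtain ⟨A, hA⟩ := ZJ.Fam_nonempty (goodQE (G := G) p).bot P
  have hAR : A ≤ R := (le_thompsonOf_of_mem hA).trans hJ
  apply le_antisymm (thompsonOf_mono hRP hA hAR)
  rw [thompsonOf_eq_sSup p P]
  apply sSup_le
  intro U hU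
  have hUR : U ≤ R := (le_thompsonOf_of_mem hU).trans hJ
  exact le_thompsonOf_of_mem (ZJ.Fam_mono hRP hU hUR).1

/-! ### normalizers -/

theorem normalizer_le_normalizer_centralizer (H : Subgroup G) :
    Subgroup.normalizer (H : Set G) ≤
      Subgroup.normalizer ((Subgroup.centralizer (H : Set G) : Subgroup G) : Set G) := by
  intro g hg
  rw [Subgroup.mem_normalizer_iff] at hg ⊢
  intro x
  constructor
  · intro hx
    rw [Subgroup.mem_centralizer_iff] at hx ⊢
    intro y hy
    have hy' : g⁻¹ * y * g ∈ H := by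
      rw [hg]; simpa [mul_assoc] using hy
    have := hx _ hy'
    calc y * (g * x * g⁻¹) = g * ((g⁻¹ * y * g) * x) * g⁻¹ := by group
      _ = g * (x * (g⁻¹ * y * g)) * g⁻¹ := by rw [this]
      _ = g * x * g⁻¹ * y := by group
  · intro hx
    rw [Subgroup.mem_centralizer_iff] at hx ⊢
    intro y hy
    have hy' : g * y * g⁻¹ ∈ H := (hg y).mp hy
    have := hx _ hy'
    calc y * x = g⁻¹ * ((g * y * g⁻¹) * (g * x * g⁻¹)) * g := by group
      _ = g⁻¹ * ((g * x * g⁻¹) * (g * y * g⁻¹)) * g := by rw [this]
      _ = x * y := by group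

theorem normalizer_inf_le {H K : Subgroup G} {g : G} (hH : g ∈ Subgroup.normalizer (H : Set G))
    (hK : g ∈ Subgroup.normalizer (K : Set G)) :
    g ∈ Subgroup.normalizer ((H ⊓ K : Subgroup G) : Set G) := by
  rw [Subgroup.mem_normalizer_iff] at hH hK ⊢
  intro x
  exact ⟨fun h => ⟨(hH x).mp h.1, (hK x).mp h.2⟩, fun h => ⟨(hH x).mpr h.1, (hK x).mpr h.2⟩⟩

theorem normalizer_le_of_normal (K : Subgroup G) [hK : K.Normal] (g : G) :
    g ∈ Subgroup.normalizer (K : Set G) := by
  rw [Subgroup.normalizer_eq_top]; trivial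

/-- the normalizer of `J_e(P)` normalizes `Z(J_e(P))` -/
theorem normalizer_thompson_le (p : ℕ) (P : Subgroup G) :
    Subgroup.normalizer (Cfsg.thompsonSubgroupOf p P : Set G) ≤
      Subgroup.normalizer (Cfsg.centerThompsonOf p P : Set G) := by
  intro g hg
  unfold Cfsg.centerThompsonOf
  exact normalizer_inf_le hg (normalizer_le_normalizer_centralizer _ hg)

theorem centerThompsonOf_le (p : ℕ) (P : Subgroup G) : Cfsg.centerThompsonOf p P ≤ P :=
  inf_le_left.trans (Cfsg.Agent.Lib.Helper02.thompsonOf_le P)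

theorem centerThompsonOf_comm {p : ℕ} {P : Subgroup G} {x y : G}
    (hx : x ∈ Cfsg.centerThompsonOf p P) (hy : y ∈ Cfsg.centerThompsonOf p P) : x * y = y * x :=
  (Subgroup.mem_centralizer_iff.mp hy.2 x hx.1)

/-! ### `Ω₁` of a class two group, `p` odd -/

theorem dvd_tri {p : ℕ} (hp : p.Prime) (hp2 : p ≠ 2) : p ∣ Cl2.tri p := by
  have h := Cl2.two_mul_tri p
  have h2 : p ∣ 2 * Cl2.tri p := by
    have : 2 * Cl2.tri p = p * (p - 1) := by
      have hp1 : 1 ≤ p := hp.one_lt.le
      have : p * p = p * (p - 1) + p := by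
        have : p = (p - 1) + 1 := by omega
        nlinarith [this]
      omega
    rw [this]; exact dvd_mul_right _ _
  have hcop : Nat.Coprime p 2 := by
    rw [Nat.Prime.coprime_iff_not_dvd hp]
    intro h
    exact hp2 ((Nat.prime_dvd_prime_iff_eq hp Nat.prime_two).mp h)
  exact hcop.dvd_of_dvd_mul_left h2

/-- the elements of order dividing `p` in a subgroup of class at most two, `p` odd -/
def omegaSub (p : ℕ) (hp : p.Prime) (hp2 : p ≠ 2) (B D : Subgroup G) (c : Cl2 B D) : Subgroup G where
  carrier := {x | x ∈ B ∧ x ^ p = 1}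
  one_mem' := ⟨B.one_mem, one_pow p⟩
  mul_mem' := by
    rintro x y ⟨hx, hxp⟩ ⟨hy, hyp⟩
    refine ⟨B.mul_mem hx hy, ?_⟩
    rw [c.mul_pow_formula hx hy p, hxp, hyp, one_mul, one_mul]
    obtain ⟨k, hk⟩ := dvd_tri hp hp2
    rw [hk, pow_mul, ← c.pow_left hy hx p, hyp]
    simp
  inv_mem' := by
    rintro x ⟨hx, hxp⟩
    exact ⟨B.inv_mem hx, by rw [inv_pow, hxp, inv_one]⟩

theorem mem_omegaSub {p : ℕ} {hp : p.Prime} {hp2 : p ≠ 2} {B D : Subgroup G} {c : Cl2 B D} {x : G} :
    x ∈ omegaSub p hp hp2 B D c ↔ x ∈ B ∧ x ^ p = 1 := Iff.rfl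

theorem omegaSub_normal {p : ℕ} {hp : p.Prime} {hp2 : p ≠ 2} {B D : Subgroup G} (c : Cl2 B D)
    [hB : B.Normal] : (omegaSub p hp hp2 B D c).Normal := by
  constructor
  rintro x ⟨hx, hxp⟩ g
  refine ⟨hB.conj_mem x hx g, ?_⟩
  rw [conj_pow, hxp]; simp

/-! ### from `C_G(Ω₁(B))` to `C_G(B)` -/

/-- some `p`-power of an element centralizing the elements of order `p` of the normal `p`-subgroup `B`
centralizes `B` -/
theorem exists_pow_mem_centralizer [Finite G] {p : ℕ} [Fact p.Prime] (hp2 : p ≠ 2) (B : Subgroup G)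
    [hBn : B.Normal] (hB : IsPGroup p ↥B) (c : G)
    (hc : ∀ a ∈ B, a ^ p = 1 → c * a = a * c) :
    ∃ k : ℕ, c ^ (p ^ k) ∈ Subgroup.centralizer (B : Set G) := by
  have hp : p.Prime := Fact.out
  obtain ⟨k, m', hm', hm⟩ := Nat.exists_eq_pow_mul_and_not_dvd (orderOf_pos c).ne' p hp.ne_one
  refine ⟨k, ?_⟩
  set g := c ^ (p ^ k) with hg
  have hgo : orderOf g ∣ m' := by
    apply orderOf_dvd_of_pow_eq_one
    rw [hg, ← pow_mul, ← hm, pow_orderOf_eq_one]
  have hcop : (orderOf g).Coprime p := by
    have : Nat.Coprime m' p := ((Nat.Prime.coprime_iff_not_dvd hp).mpr hm').symm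
    exact Nat.Coprime.coprime_dvd_left hgo this
  have hgc : ∀ a ∈ B, a ^ p = 1 → g * a = a * g := by
    intro a ha hap
    have : Commute c a := hc a ha hap
    exact (this.pow_left _).eq
  have := Cfsg.Agent.Lib.Helper40.omega_lemma g hcop (Nat.card B) B rfl hB
    (normalizer_le_of_normal B g)
    (fun a ha h => by
      rcases h with h | ⟨h, _⟩
      · exact hgc a ha h
      · exact absurd h hp2)
  rw [Subgroup.mem_centralizer_iff]
  intro q hq
  exact (this q hq).symm

/-- a normal subgroup all of whose elements have a `p`-power in `D` lies in the preimage of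
`O_p(G/D)` -/
theorem le_comap_pCore_of_pow [Finite G] {p : ℕ} [Fact p.Prime] (D : Subgroup G) [D.Normal]
    (N : Subgroup G) [hN : N.Normal] (h : ∀ x ∈ N, ∃ k : ℕ, x ^ (p ^ k) ∈ D) :
    N ≤ (Cfsg.pCore p (G ⧸ D)).comap (QuotientGroup.mk' D) := by
  have hn : (N.map (QuotientGroup.mk' D)).Normal :=
    hN.map _ (QuotientGroup.mk'_surjective D)
  have hpg : IsPGroup p ↥(N.map (QuotientGroup.mk' D)) := by
    rintro ⟨y, hy⟩
    obtain ⟨x, hx, rfl⟩ := hy
    obtain ⟨k, hk⟩ := h x hx
    refine ⟨k, Subtype.ext ?_⟩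
    rw [Subgroup.coe_pow, Subgroup.coe_one]
    show (QuotientGroup.mk' D x) ^ (p ^ k) = 1
    rw [← map_pow]
    exact (QuotientGroup.eq_one_iff _).mpr hk
  intro x hx
  exact ZJ.le_pCore hn hpg (Subgroup.mem_map_of_mem _ hx)

/-! ### the main induction -/

theorem claimZ [Finite G] {p : ℕ} [Fact p.Prime] (hp : p ≠ 2) (P : Sylow p G)
    (hst : ZJ.StableFor p (P : Subgroup G)) :
    ∀ (n : ℕ) (B : Subgroup G) [B.Normal], IsPGroup p ↥B → Nat.card ↥B ≤ n →
      (Cfsg.centerThompsonOf p (P : Subgroup G) ⊓ B).Normal := by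
  have hpp : p.Prime := Fact.out
  intro n
  induction n with
  | zero =>
    intro B _ _ hcard
    have := Nat.card_pos (α := ↥B)
    omega
  | succ n ih =>
    intro B hBn hB hcard
    have hBP : B ≤ P := hB.le_sylow_of_normal P
    have hZP : Cfsg.centerThompsonOf p (P : Subgroup G) ≤ P := centerThompsonOf_le p _
    have hPW : (P : Subgroup G) ≤
        Subgroup.normalizer (Cfsg.centerThompsonOf p (P : Subgroup G) : Set G) :=
      (Subgroup.le_normalizer.trans
        (Cfsg.Agent.Lib.Helper02.normalizer_le_normalizer_thompsonOf (p := p) (P : Subgroup G))).trans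
        (normalizer_thompson_le p _)
    have hB₁B : Subgroup.normalClosure
        ((Cfsg.centerThompsonOf p (P : Subgroup G) ⊓ B : Subgroup G) : Set G) ≤ B :=
      Subgroup.normalClosure_le_normal (inf_le_right)
    have hZB₁ : Cfsg.centerThompsonOf p (P : Subgroup G) ⊓ B ≤
        Subgroup.normalClosure ((Cfsg.centerThompsonOf p (P : Subgroup G) ⊓ B : Subgroup G) : Set G) :=
      Subgroup.subset_normalClosure
    by_cases hlt : Subgroup.normalClosure
        ((Cfsg.centerThompsonOf p (P : Subgroup G) ⊓ B : Subgroup G) : Set G) = B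
    swap
    · have hc1 : Nat.card ↥(Subgroup.normalClosure
          ((Cfsg.centerThompsonOf p (P : Subgroup G) ⊓ B : Subgroup G) : Set G)) ≤ n := by
        by_contra hcon
        push Not at hcon
        exact hlt (Subgroup.eq_of_le_of_card_ge hB₁B (by omega))
      have := ih _ (hB.to_le hB₁B) hc1
      have heq : Cfsg.centerThompsonOf p (P : Subgroup G) ⊓ Subgroup.normalClosure
          ((Cfsg.centerThompsonOf p (P : Subgroup G) ⊓ B : Subgroup G) : Set G) =
          Cfsg.centerThompsonOf p (P : Subgroup G) ⊓ B :=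
        le_antisymm (inf_le_inf_left _ hB₁B) (le_inf inf_le_left hZB₁)
      rw [heq] at this; exact this
    · by_cases hbot : B = ⊥
      · rw [hbot, inf_bot_eq]; infer_instance
      have hB'lt : ⁅B, B⁆ < B := ZJ.commutator_lt_self hB hbot
      have hB'B : ⁅B, B⁆ ≤ B := le_of_lt hB'lt
      have hc2 : Nat.card ↥⁅B, B⁆ ≤ n := by
        by_contra hcon
        push Not at hcon
        exact (ne_of_lt hB'lt) (Subgroup.eq_of_le_of_card_ge hB'B (by omega))
      have hN₀ : (Cfsg.centerThompsonOf p (P : Subgroup G) ⊓ ⁅B, B⁆).Normal :=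
        ih ⁅B, B⁆ (hB.to_le hB'B) hc2
      have h1 : ∀ z ∈ ((Cfsg.centerThompsonOf p (P : Subgroup G) ⊓ B : Subgroup G) : Set G), ∀ y ∈ B,
          ⁅z, y⁆ ∈ Cfsg.centerThompsonOf p (P : Subgroup G) ⊓ ⁅B, B⁆ := by
        intro z hz y hy
        refine ⟨?_, Subgroup.commutator_mem_commutator hz.2 hy⟩
        have hyN := hPW (hBP hy)
        have : ⁅z, y⁆ = z * (y * z⁻¹ * y⁻¹) := by simp [commutatorElement_def, mul_assoc]
        rw [this]
        exact Subgroup.mul_mem _ hz.1
          ((Subgroup.mem_normalizer_iff.mp hyN _).mp (Subgroup.inv_mem _ hz.1))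
      have h2 := ZJ.comm_mem_of_normalClosure
        (N₀ := Cfsg.centerThompsonOf p (P : Subgroup G) ⊓ ⁅B, B⁆) (B := B) h1
      have hB'W : ⁅B, B⁆ ≤ Cfsg.centerThompsonOf p (P : Subgroup G) := by
        rw [Subgroup.commutator_le]
        intro x hx y hy
        exact (h2 x (by rw [hlt]; exact hx) y hy).1
      -- `B` has class at most two
      have hcent : B ≤ Subgroup.centralizer
          ((Cfsg.centerThompsonOf p (P : Subgroup G) ⊓ ⁅B, B⁆ : Subgroup G) : Set G) := by
        have hn : (Subgroup.centralizer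
            ((Cfsg.centerThompsonOf p (P : Subgroup G) ⊓ ⁅B, B⁆ : Subgroup G) : Set G)).Normal :=
          Subgroup.normal_centralizer
        conv_lhs => rw [← hlt]
        apply Subgroup.normalClosure_le_normal
        intro z hz
        rw [SetLike.mem_coe, Subgroup.mem_centralizer_iff]
        intro y hy
        exact centerThompsonOf_comm hy.1 hz.1
      have hcl : Cl2 B ⁅B, B⁆ := by
        refine ⟨hB'B, ?_, fun h hh k hk => Subgroup.commutator_mem_commutator hh hk⟩
        intro d hd h hh
        exact Subgroup.mem_centralizer_iff.mp (hcent hh) d ⟨hB'W hd, hd⟩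
      set B₁ := omegaSub p hpp hp B ⁅B, B⁆ hcl with hB₁def
      have hB₁n : B₁.Normal := omegaSub_normal hcl
      have hB₁B' : B₁ ≤ B := fun x hx => hx.1
      have hB₁P : B₁ ≤ P := hB₁B'.trans hBP
      have hB₁p : IsPGroup p ↥B₁ := hB.to_le hB₁B'
      have hB₁exp : ∀ x ∈ B₁, x ^ p = 1 := fun x hx => hx.2
      haveI hDn : (Subgroup.centralizer (B : Set G)).Normal := Subgroup.normal_centralizer
      haveI hC₁n : (Subgroup.centralizer (B₁ : Set G)).Normal := Subgroup.normal_centralizer
      -- `C_G(B₁)` lies in the preimage `K` of `O_p(G / C_G(B))`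
      have hC₁pow : ∀ c ∈ Subgroup.centralizer (B₁ : Set G),
          ∃ k : ℕ, c ^ (p ^ k) ∈ Subgroup.centralizer (B : Set G) := by
        intro c hc
        apply exists_pow_mem_centralizer hp B hB c
        intro a ha hap
        exact (Subgroup.mem_centralizer_iff.mp hc a ⟨ha, hap⟩).symm
      have hC₁K : Subgroup.centralizer (B₁ : Set G) ≤
          (Cfsg.pCore p (G ⧸ Subgroup.centralizer (B : Set G))).comap
            (QuotientGroup.mk' (Subgroup.centralizer (B : Set G))) :=
        le_comap_pCore_of_pow _ _ hC₁pow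
      have hfac := ZJ.factor_of_pCore P (Subgroup.centralizer (B : Set G))
      have hRP : (P : Subgroup G) ⊓ (Cfsg.pCore p (G ⧸ Subgroup.centralizer (B : Set G))).comap
          (QuotientGroup.mk' (Subgroup.centralizer (B : Set G))) ≤ P := inf_le_left
      -- the key claim
      have hJK : Cfsg.thompsonSubgroupOf p (P : Subgroup G) ≤
          (Cfsg.pCore p (G ⧸ Subgroup.centralizer (B : Set G))).comap
            (QuotientGroup.mk' (Subgroup.centralizer (B : Set G))) := by
        by_cases hall : ∀ A ∈ ZJ.Fam (QE p) (P : Subgroup G), B₁ ≤ A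
        · -- every member of the family contains `B₁`, hence centralizes it
          rw [thompsonOf_eq_sSup]
          apply sSup_le
          intro A hA
          refine le_trans ?_ hC₁K
          intro a ha
          rw [Subgroup.mem_centralizer_iff]
          intro b hb
          have hAc := hA.2.1.1
          have := hAc.is_comm.comm ⟨b, hall A hA hb⟩ ⟨a, ha⟩
          exact congrArg Subtype.val this
        · exfalso
          push Not at hall
          obtain ⟨U, hUF, hUnot⟩ := hall
          -- commutators of `B₁` lie in every member of the family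
          have hB₁'all : ∀ A ∈ ZJ.Fam (QE p) (P : Subgroup G), ⁅B₁, B₁⁆ ≤ A := by
            intro A hA x hx
            have hxB₁ : x ∈ B₁ := (Subgroup.commutator_le_right B₁ B₁) hx
            have hxZ : x ∈ Cfsg.centerThompsonOf p (P : Subgroup G) :=
              hB'W (Subgroup.commutator_mono hB₁B' hB₁B' hx)
            apply mem_of_fam_of_comm hA (hB₁P hxB₁) (hB₁exp x hxB₁)
            intro u hu
            exact Subgroup.mem_centralizer_iff.mp hxZ.2 u (le_thompsonOf_of_mem hA hu)
          obtain ⟨A, hAF, hA1, hA2, hA3⟩ := ZJ.replacement_G hp (goodQE p) (P : Subgroup G) P.2 B₁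
            hB₁P ⟨U, hUF, hB₁'all U hUF, hUnot⟩
          have hquad : ∀ a ∈ A, ⁅⁅B₁, Subgroup.zpowers a⁆, Subgroup.zpowers a⁆ = ⊥ := by
            intro a ha
            have hza : Subgroup.zpowers a ≤ A := (Subgroup.zpowers_le).mpr ha
            have h3 : ⁅B₁, Subgroup.zpowers a⁆ ≤ A := by
              rw [Subgroup.commutator_le]
              intro b hb x hx
              have hbN := hA3 hb
              have : ⁅b, x⁆ = (b * x * b⁻¹) * x⁻¹ := by simp [commutatorElement_def]
              rw [this]
              exact A.mul_mem ((Subgroup.mem_normalizer_iff.mp hbN _).mp (hza hx))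
                (A.inv_mem (hza hx))
            rw [eq_bot_iff]
            have hAc := (goodQE (G := G) p).comm A hAF.2.1
            calc ⁅⁅B₁, Subgroup.zpowers a⁆, Subgroup.zpowers a⁆ ≤ ⁅A, A⁆ :=
                  Subgroup.commutator_mono h3 hza
              _ = ⊥ := Subgroup.commutator_eq_bot_iff_le_centralizer.mpr (Subgroup.le_centralizer A)
          -- `A` lies in the preimage of `O_p(G / C_G(B₁))`, hence in `K`
          have hK₁n : ((Cfsg.pCore p (G ⧸ Subgroup.centralizer (B₁ : Set G))).comap
              (QuotientGroup.mk' (Subgroup.centralizer (B₁ : Set G)))).Normal :=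
            (ZJ.pCore_normal p).comap _
          have hK₁K : (Cfsg.pCore p (G ⧸ Subgroup.centralizer (B₁ : Set G))).comap
              (QuotientGroup.mk' (Subgroup.centralizer (B₁ : Set G))) ≤
              (Cfsg.pCore p (G ⧸ Subgroup.centralizer (B : Set G))).comap
                (QuotientGroup.mk' (Subgroup.centralizer (B : Set G))) := by
            apply le_comap_pCore_of_pow
            intro x hx
            have hx' : (QuotientGroup.mk' (Subgroup.centralizer (B₁ : Set G)) x) ∈
                Cfsg.pCore p (G ⧸ Subgroup.centralizer (B₁ : Set G)) := hx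
            obtain ⟨k, hk⟩ := (ZJ.pCore_isPGroup (G := G ⧸ Subgroup.centralizer (B₁ : Set G)) p)
              ⟨_, hx'⟩
            have hk' : x ^ (p ^ k) ∈ Subgroup.centralizer (B₁ : Set G) := by
              have h := congrArg Subtype.val hk
              simp only [SubmonoidClass.mk_pow, OneMemClass.coe_one] at h
              rw [← map_pow] at h
              exact (QuotientGroup.eq_one_iff _).mp h
            obtain ⟨k', hk''⟩ := hC₁pow _ hk'
            refine ⟨k + k', ?_⟩
            rw [pow_add, pow_mul]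
            exact hk''
          have hAK : A ≤ (Cfsg.pCore p (G ⧸ Subgroup.centralizer (B : Set G))).comap
              (QuotientGroup.mk' (Subgroup.centralizer (B : Set G))) := by
            intro a ha
            exact hK₁K (hst B₁ hB₁p a (hAF.1 ha) (hquad a ha))
          have hAR : A ≤ (P : Subgroup G) ⊓
              (Cfsg.pCore p (G ⧸ Subgroup.centralizer (B : Set G))).comap
                (QuotientGroup.mk' (Subgroup.centralizer (B : Set G))) := le_inf hAF.1 hAK
          generalize (P : Subgroup G) ⊓ (Cfsg.pCore p (G ⧸ Subgroup.centralizer (B : Set G))).comap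
            (QuotientGroup.mk' (Subgroup.centralizer (B : Set G))) = R at hfac hAR hRP
          have hAFR := (ZJ.Fam_mono hRP hAF hAR).1
          have hJRP := thompsonOf_mono hRP hAF hAR
          -- the normal subgroup `X = C_B(J_e(R))`
          have hXn : (B ⊓ Subgroup.centralizer (Cfsg.thompsonSubgroupOf p R : Set G)).Normal := by
            apply ZJ.normal_of_factor
            intro g
            obtain ⟨n, hn, c, hc, rfl⟩ := hfac g
            refine ⟨n, ?_, c, ?_, rfl⟩
            · apply normalizer_inf_le (normalizer_le_of_normal B n)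
              apply normalizer_le_normalizer_centralizer
              exact Cfsg.Agent.Lib.Helper02.normalizer_le_normalizer_thompsonOf (p := p) R hn
            · exact Subgroup.centralizer_le (fun _ hx => hx.1) hc
          have hBX : B ≤ B ⊓ Subgroup.centralizer (Cfsg.thompsonSubgroupOf p R : Set G) := by
            conv_lhs => rw [← hlt]
            apply Subgroup.normalClosure_le_normal
            intro z hz
            refine ⟨hz.2, ?_⟩
            exact Subgroup.centralizer_le (fun _ hx => hJRP hx) hz.1.2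
          apply hA2
          intro x hx
          apply mem_of_fam_of_comm hAF (hB₁P hx) (hB₁exp x hx)
          intro u hu
          have hxc := (hBX (hB₁B' hx)).2
          exact Subgroup.mem_centralizer_iff.mp hxc u (le_thompsonOf_of_mem hAFR hu)
      -- conclusion
      have hJR : Cfsg.thompsonSubgroupOf p (P : Subgroup G) ≤ (P : Subgroup G) ⊓
          (Cfsg.pCore p (G ⧸ Subgroup.centralizer (B : Set G))).comap
            (QuotientGroup.mk' (Subgroup.centralizer (B : Set G))) :=
        le_inf (Cfsg.Agent.Lib.Helper02.thompsonOf_le _) hJK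
      generalize (P : Subgroup G) ⊓ (Cfsg.pCore p (G ⧸ Subgroup.centralizer (B : Set G))).comap
        (QuotientGroup.mk' (Subgroup.centralizer (B : Set G))) = R at hfac hJR hRP
      have hJeq := thompsonOf_eq_of_between hRP hJR
      apply ZJ.normal_of_factor
      intro g
      obtain ⟨n, hn, c, hc, rfl⟩ := hfac g
      refine ⟨n, ?_, c, ?_, rfl⟩
      · apply normalizer_inf_le _ (normalizer_le_of_normal B n)
        apply normalizer_thompson_le
        rw [← hJeq]
        exact Cfsg.Agent.Lib.Helper02.normalizer_le_normalizer_thompsonOf (p := p) R hn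
      · exact Subgroup.centralizer_le (fun _ hx => hx.2) hc

/-! ### the centre lies in the `p`-core and is normal -/

theorem centerThompsonOf_le_pCore [Finite G] {p : ℕ} [Fact p.Prime]
    (hc : Subgroup.centralizer (Cfsg.pCore p G : Set G) ≤ Cfsg.pCore p G) (P : Sylow p G)
    (hst : ZJ.StableFor p (P : Subgroup G)) :
    Cfsg.centerThompsonOf p (P : Subgroup G) ≤ Cfsg.pCore p G := by
  have hKn := ZJ.pCore_normal (G := G) p
  have hKp := ZJ.pCore_isPGroup (G := G) p
  have hKP := ZJ.pCore_le_sylow P
  have hPW : (P : Subgroup G) ≤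
      Subgroup.normalizer (Cfsg.centerThompsonOf p (P : Subgroup G) : Set G) :=
    (Subgroup.le_normalizer.trans
      (Cfsg.Agent.Lib.Helper02.normalizer_le_normalizer_thompsonOf (p := p) (P : Subgroup G))).trans
      (normalizer_thompson_le p _)
  intro z hz
  have hquad : ⁅⁅Cfsg.pCore p G, Subgroup.zpowers z⁆, Subgroup.zpowers z⁆ = ⊥ := by
    have hzW : Subgroup.zpowers z ≤ Cfsg.centerThompsonOf p (P : Subgroup G) :=
      (Subgroup.zpowers_le).mpr hz
    have h3 : ⁅Cfsg.pCore p G, Subgroup.zpowers z⁆ ≤ Cfsg.centerThompsonOf p (P : Subgroup G) := by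
      rw [Subgroup.commutator_le]
      intro k hk x hx
      have hkN := hPW (hKP hk)
      have : ⁅k, x⁆ = (k * x * k⁻¹) * x⁻¹ := by simp [commutatorElement_def]
      rw [this]
      exact Subgroup.mul_mem _ ((Subgroup.mem_normalizer_iff.mp hkN _).mp (hzW hx))
        (Subgroup.inv_mem _ (hzW hx))
    rw [eq_bot_iff]
    have hcomm : ⁅Cfsg.centerThompsonOf p (P : Subgroup G),
        Cfsg.centerThompsonOf p (P : Subgroup G)⁆ = ⊥ := by
      rw [Subgroup.commutator_eq_bot_iff_le_centralizer]
      intro x hx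
      rw [Subgroup.mem_centralizer_iff]
      intro y hy
      exact centerThompsonOf_comm hy hx
    rw [← hcomm]
    exact Subgroup.commutator_mono h3 hzW
  have hmem := hst (Cfsg.pCore p G) hKp z (centerThompsonOf_le p _ hz) hquad
  have hCn : (Subgroup.centralizer (Cfsg.pCore p G : Set G)).Normal := Subgroup.normal_centralizer
  have hLp : IsPGroup p ↥((Cfsg.pCore p (G ⧸ Subgroup.centralizer (Cfsg.pCore p G : Set G))).comap
      (QuotientGroup.mk' (Subgroup.centralizer (Cfsg.pCore p G : Set G)))) := by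
    apply IsPGroup.comap_of_ker_isPGroup (ZJ.pCore_isPGroup p)
    rw [QuotientGroup.ker_mk']
    exact hKp.to_le hc
  have hLn : ((Cfsg.pCore p (G ⧸ Subgroup.centralizer (Cfsg.pCore p G : Set G))).comap
      (QuotientGroup.mk' (Subgroup.centralizer (Cfsg.pCore p G : Set G)))).Normal :=
    (ZJ.pCore_normal p).comap _
  exact ZJ.le_pCore hLn hLp hmem

/-- **Glauberman's ZJ-theorem for `Z(J_e(P))`**: for `p` odd, in a group with
`C_G(O_p(G)) ≤ O_p(G)` that is `p`-stable on its normal `p`-subgroups (for the elements of `P`), the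
centre of the Thompson subgroup (elementary abelian version) of a Sylow `p`-subgroup is normal. -/
theorem centerThompsonOf_normal [Finite G] {p : ℕ} [Fact p.Prime] (hp : p ≠ 2)
    (hc : Subgroup.centralizer (Cfsg.pCore p G : Set G) ≤ Cfsg.pCore p G) (P : Sylow p G)
    (hst : ZJ.StableFor p (P : Subgroup G)) :
    (Cfsg.centerThompsonOf p (P : Subgroup G)).Normal := by
  have h1 := centerThompsonOf_le_pCore hc P hst
  have hKn := ZJ.pCore_normal (G := G) p
  have := claimZ hp P hst (Nat.card ↥(Cfsg.pCore p G)) (Cfsg.pCore p G) (ZJ.pCore_isPGroup p) le_rfl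
  rwa [inf_eq_left.mpr h1] at this

end Cfsg.Agent.Lib.Helper02.ZJe
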