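import Mathlib
import Cfsg.Agent.Lib.Helper02.ZJe
import Cfsg.Agent.Lib.Helper16.ZJ3
import Cfsg.Agent.Lib.Helper57.PStableAll

/-!
# `Z(J_e(P))`: transport along homomorphisms and the quotient by `O_{p'}(G)`
-/

set_option autoImplicit false
open Cfsg
open Cfsg.Agent.Lib.Helper16

namespace Cfsg.Agent.Lib.Helper02.ZJe

variable {G : Type*} [Group G]

/-- transport of `Z(J_e(P))` along a homomorphism injective on `P` -/
theorem centerThompsonOf_map {G' : Type*} [Group G'] (p : ℕ) (f : G →* G') (P : Subgroup G)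
    (hf : Set.InjOn f (P : Set G)) :
    Cfsg.centerThompsonOf p (P.map f) = (Cfsg.centerThompsonOf p P).map f := by
  have hJP : Cfsg.thompsonSubgroupOf p P ≤ P := Cfsg.Agent.Lib.Helper02.thompsonOf_le P
  unfold Cfsg.centerThompsonOf
  rw [Cfsg.Agent.Lib.Helper02.thompsonOf_map f P hf]
  ext x'
  constructor
  · rintro ⟨⟨x, hx, rfl⟩, hc⟩
    replace hc : f x ∈ Subgroup.centralizer
      ((Subgroup.map f (Cfsg.thompsonSubgroupOf p P) : Subgroup G') : Set G') := hc
    replace hx : x ∈ Cfsg.thompsonSubgroupOf p P := hx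
    refine ⟨x, ⟨hx, ?_⟩, rfl⟩
    show x ∈ Subgroup.centralizer ((Cfsg.thompsonSubgroupOf p P : Subgroup G) : Set G)
    rw [Subgroup.mem_centralizer_iff] at hc ⊢
    intro y hy
    have := hc (f y) (Subgroup.mem_map_of_mem f hy)
    rw [← map_mul, ← map_mul] at this
    exact hf (P.mul_mem (hJP hy) (hJP hx)) (P.mul_mem (hJP hx) (hJP hy)) this
  · rintro ⟨x, ⟨hx, hc⟩, rfl⟩
    replace hc : x ∈ Subgroup.centralizer ((Cfsg.thompsonSubgroupOf p P : Subgroup G) : Set G) := hc
    replace hx : x ∈ Cfsg.thompsonSubgroupOf p P := hx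
    refine ⟨Subgroup.mem_map_of_mem f hx, ?_⟩
    show f x ∈ Subgroup.centralizer
      ((Subgroup.map f (Cfsg.thompsonSubgroupOf p P) : Subgroup G') : Set G')
    rw [Subgroup.mem_centralizer_iff] at hc ⊢
    rintro _ ⟨y, hy, rfl⟩
    rw [← map_mul, ← map_mul, hc y hy]

/-- in a `p`-constrained group whose quotient by `O_{p'}(G)` is `p`-stable on normal `p`-subgroups
(for the elements of the image of `P`), `O_{p'}(G) Z(J_e(P))` is normal -/
theorem centerThompsonOf_sup_pPrimeCore_normal [Finite G] {p : ℕ} [Fact p.Prime] (hp : p ≠ 2)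
    (hc : Cfsg.IsPConstrained p G) (P : Sylow p G)
    (hst : ZJ.StableFor p ((P : Subgroup G).map (QuotientGroup.mk' (Cfsg.pPrimeCore p G)))) :
    (Cfsg.centerThompsonOf p (P : Subgroup G) ⊔ Cfsg.pPrimeCore p G).Normal := by
  have hPK : (P : Subgroup G) ⊓ Cfsg.pPrimeCore p G = ⊥ := ZJ.pgroup_inf_pPrimeCore P.2
  have hinj : (P : Subgroup G) ⊓ (QuotientGroup.mk' (Cfsg.pPrimeCore p G)).ker = ⊥ := by
    rw [QuotientGroup.ker_mk']; exact hPK
  have hinjOn : Set.InjOn (QuotientGroup.mk' (Cfsg.pPrimeCore p G)) ((P : Subgroup G) : Set G) :=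
    fun x hx y hy h => ZJ.injOn_of_inf_ker _ hinj hx hy h
  have hcb := ZJ.centralizer_pCore_quot_le hc
  have hcoe : ((P.mapSurjective (QuotientGroup.mk'_surjective (Cfsg.pPrimeCore p G)) :
      Sylow p (G ⧸ Cfsg.pPrimeCore p G)) : Subgroup (G ⧸ Cfsg.pPrimeCore p G)) =
      (P : Subgroup G).map (QuotientGroup.mk' (Cfsg.pPrimeCore p G)) :=
    Sylow.coe_mapSurjective _ _
  rw [← hcoe] at hst
  have hZn := centerThompsonOf_normal hp hcb
    (P.mapSurjective (QuotientGroup.mk'_surjective (Cfsg.pPrimeCore p G))) hst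
  rw [hcoe, centerThompsonOf_map p _ _ hinjOn] at hZn
  have hMn := hZn.comap (QuotientGroup.mk' (Cfsg.pPrimeCore p G))
  rw [Subgroup.comap_map_eq, QuotientGroup.ker_mk'] at hMn
  exact hMn

end Cfsg.Agent.Lib.Helper02.ZJe
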