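import Mathlib
import Cfsg.Prelude.Def_ConjugacyFunctors
import Cfsg.Prelude.Def_Transfer
import Cfsg.Agent.Lib.Helper15.Thompson
import Cfsg.Agent.Lib.Helper15.Transport
import Cfsg.Agent.Lib.Helper02.ZJe2
import Cfsg.Agent.Lib.Helper57.GTReduction
import Cfsg.Agent.Lib.Helper53.ThompsonTwo

/-!
# The functor `Q ↦ Z(J_e(Q))` and the Sylow-maximal configuration
-/

set_option autoImplicit false
open Cfsg
open Cfsg.Agent.Lib.Helper16

namespace Cfsg.Agent.Lib.Helper02.ZJe

universe u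

/-- the functor `Q ↦ Z(J_e(Q))`, `J_e` the elementary abelian version of the Thompson subgroup -/
def ZJefun (p : ℕ) : ∀ (Q : Type u) [Group Q], Subgroup Q :=
  fun Q _ => thompsonSubgroup p Q ⊓ Subgroup.centralizer (thompsonSubgroup p Q : Set Q)

theorem mem_ZJefun {p : ℕ} {Q : Type u} [Group Q] (x : Q) :
    x ∈ ZJefun p Q ↔ x ∈ thompsonSubgroup p Q ∧ ∀ j ∈ thompsonSubgroup p Q, j * x = x * j := by
  unfold ZJefun
  rw [Subgroup.mem_inf]
  constructor
  · rintro ⟨h1, h2⟩
    have h2' : x ∈ Subgroup.centralizer (thompsonSubgroup p Q : Set Q) := h2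
    rw [Subgroup.mem_centralizer_iff] at h2'
    exact ⟨h1, h2'⟩
  · rintro ⟨h1, h2⟩
    refine ⟨h1, ?_⟩
    have : x ∈ Subgroup.centralizer (thompsonSubgroup p Q : Set Q) := by
      rw [Subgroup.mem_centralizer_iff]; exact h2
    exact this

theorem isCharPFunctor_ZJe {p : ℕ} [hpf : Fact p.Prime] : IsCharPFunctor.{u} p (ZJefun p) := by
  refine ⟨?_, ?_⟩
  · intro Q _ _ hQ _
    have hc : Nontrivial (Subgroup.center Q) := hQ.center_nontrivial
    have hcp : IsPGroup p (Subgroup.center Q) := hQ.to_subgroup _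
    obtain ⟨k, hk⟩ := IsPGroup.iff_card.mp hcp
    have hk0 : k ≠ 0 := by
      intro h0
      rw [h0, pow_zero] at hk
      have := Finite.one_lt_card (α := Subgroup.center Q)
      omega
    have hdvd : p ∣ Nat.card (Subgroup.center Q) := hk ▸ dvd_pow_self p hk0
    obtain ⟨z, hz⟩ := exists_prime_orderOf_dvd_card' p hdvd
    intro hbot
    have hz1 : (z : Q) ^ p = 1 := by
      have := pow_orderOf_eq_one z
      rw [hz] at this
      exact_mod_cast congrArg Subtype.val this
    have hmem : (z : Q) ∈ ZJefun p Q := by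
      rw [mem_ZJefun]
      refine ⟨Cfsg.Agent.Lib.Helper15.central_mem_thompson (z : Q) z.2 hz1, ?_⟩
      intro j _
      exact (Subgroup.mem_center_iff.mp z.2 j)
    rw [hbot, Subgroup.mem_bot] at hmem
    have : z = 1 := Subtype.ext hmem
    rw [this, orderOf_one] at hz
    exact hpf.out.one_lt.ne hz
  · intro Q R _ _ _ _ φ
    ext y
    rw [mem_ZJefun, ← Cfsg.Agent.Lib.Helper15.thompsonSubgroup_map p φ]
    constructor
    · rintro ⟨x, hx, rfl⟩
      rw [SetLike.mem_coe, mem_ZJefun] at hx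
      refine ⟨⟨x, hx.1, rfl⟩, ?_⟩
      rintro _ ⟨j, hj, rfl⟩
      show φ j * φ x = φ x * φ j
      rw [← map_mul, ← map_mul, hx.2 j hj]
    · rintro ⟨⟨x, hx, rfl⟩, h2⟩
      refine ⟨x, ?_, rfl⟩
      rw [SetLike.mem_coe, mem_ZJefun]
      refine ⟨hx, ?_⟩
      intro j hj
      apply φ.injective
      rw [map_mul, map_mul]
      exact h2 (φ j) ⟨j, hj, rfl⟩

theorem inducedFunctor_ZJe {G : Type u} [Group G] (p : ℕ) (P : Subgroup G) :
    inducedFunctor (ZJefun p) P = centerThompsonOf p P := by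
  ext x
  unfold inducedFunctor centerThompsonOf thompsonSubgroupOf
  constructor
  · rintro ⟨y, hy, rfl⟩
    rw [SetLike.mem_coe, mem_ZJefun] at hy
    refine ⟨⟨y, hy.1, rfl⟩, ?_⟩
    have : (P.subtype y) ∈ Subgroup.centralizer
        (((thompsonSubgroup p ↥P).map P.subtype : Subgroup G) : Set G) := by
      rw [Subgroup.mem_centralizer_iff]
      rintro _ ⟨j, hj, rfl⟩
      have := hy.2 j hj
      exact congrArg Subtype.val this
    exact this
  · rintro ⟨⟨y, hy, rfl⟩, h2⟩
    have h2' : (P.subtype y) ∈ Subgroup.centralizer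
        (((thompsonSubgroup p ↥P).map P.subtype : Subgroup G) : Set G) := h2
    rw [Subgroup.mem_centralizer_iff] at h2'
    refine ⟨y, ?_, rfl⟩
    rw [SetLike.mem_coe, mem_ZJefun]
    refine ⟨hy, ?_⟩
    intro j hj
    apply Subtype.ext
    exact h2' (P.subtype j) ⟨j, hj, rfl⟩

/-- in a group `X` with `C(O_p(X)) ≤ O_p(X)`, `X/O_p(X)` having a normal `p`-complement and a maximal
Sylow `p`-subgroup, `p` odd, the Sylow `2`-subgroups are abelian -/
theorem sylow_two_comm_of_coatom {X : Type u} [Group X] [Finite X] {p : ℕ} [Fact p.Prime]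
    (hp2 : p ≠ 2)
    (hc : Subgroup.centralizer ((pCore p X : Subgroup X) : Set X) ≤ pCore p X)
    (hq : HasNormalPComplement p (X ⧸ pCore p X))
    (T : Sylow p X) (hT : IsCoatom (T : Subgroup X)) : ∀ S₂ : Sylow 2 X, IsMulCommutative S₂ := by
  haveI hHn : (pCore p X).Normal := ZJ.pCore_normal p
  have hHp : IsPGroup p ↥(pCore p X) := ZJ.pCore_isPGroup p
  have hHP : pCore p X ≤ T := ZJ.pCore_le_sylow T
  obtain ⟨K, hKn, hHK, hKP, -, hKc, hKi⟩ := Cfsg.Agent.Lib.Lead.exists_K (pCore p X) T hHP hq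
  have hrel : ((pCore p X).relIndex K).Coprime p := by
    rw [← Cfsg.Agent.Lib.Lead.card_map_mk_eq_relIndex (pCore p X) K hHK]; exact hKc
  have hA : ∀ M : Subgroup X, M ≠ ⊤ → (T : Subgroup X) ≤ M → HasNormalPComplement p ↥M := by
    intro M hM hTM
    have hMT : M = T := by
      by_contra hne
      exact hM (hT.2 M (lt_of_le_of_ne hTM (Ne.symm hne)))
    rw [hMT]
    exact Cfsg.Agent.Lib.Helper53.pn_of_isPGroup T.2
  have hE1 : ∀ L : Subgroup X, pCore p X ≤ L → L ≤ K →
      (T : Subgroup X) ≤ Subgroup.normalizer (L : Set X) → L = pCore p X ∨ L = K :=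
    fun L hHL hLK hPL => Cfsg.Agent.Lib.Helper57.GT.stepE1' T hA (pCore p X) hHp hc K hKP hrel
      L hHL hLK hPL
  have hab := Cfsg.Agent.Lib.Lead.stepE2 (pCore p X) T K hHK hKc hE1
  exact fun S₂ => Cfsg.Agent.Lib.Helper57.GT.sylow_two_comm_of_structure hp2 (pCore p X) hHp K hKi
    hab S₂

/-- `Z(J_e(T))` is normal in the Sylow-maximal configuration -/
theorem centerThompsonOf_normal_of_coatom {X : Type u} [Group X] [Finite X] {p : ℕ} [Fact p.Prime]
    (hp2 : p ≠ 2)
    (hc : Subgroup.centralizer ((pCore p X : Subgroup X) : Set X) ≤ pCore p X)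
    (hq : HasNormalPComplement p (X ⧸ pCore p X))
    (T : Sylow p X) (hT : IsCoatom (T : Subgroup X)) :
    (centerThompsonOf p (T : Subgroup X)).Normal :=
  centerThompsonOf_normal hp2 hc T
    (Cfsg.Agent.Lib.Helper57.PStableAll.stableFor_of_sylow_two_comm hp2
      (sylow_two_comm_of_coatom hp2 hc hq T hT) _)

end Cfsg.Agent.Lib.Helper02.ZJe
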