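import Mathlib
import Cfsg.Agent.Lib.Helper02.RelSubnormal
import Cfsg.Agent.Lib.Helper01.Basic

set_option autoImplicit false

namespace Cfsg.Agent.Lib.Helper02

open scoped Pointwise
open Cfsg.Agent.Lib.Helper01

variable {G : Type*} [Group G]

theorem card_lt_of_lt [Finite G] {S T : Subgroup G} (h : S < T) : Nat.card S < Nat.card T := by
  by_contra hcon
  exact h.ne (Subgroup.eq_of_le_of_card_ge h.le (not_lt.mp hcon))

/-- Isaacs 2.8: a subnormal, non-normal subgroup `S` of `K` has a conjugate `≠ S` inside `N_K(S)`. -/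
theorem RSn.exists_conj_le_normalizer {S K : Subgroup G} (h : RSn S K) :
    K ≤ Subgroup.normalizer (S : Set G) ∨
      ∃ x ∈ K, MulAut.conj x • S ≠ S ∧ MulAut.conj x • S ≤ Subgroup.normalizer (S : Set G) := by
  induction h with
  | refl => exact Or.inl Subgroup.le_normalizer
  | step M K _ hMK hKN ih =>
    rcases ih with hMN | ⟨x, hxM, h1, h2⟩
    · by_cases hK : K ≤ Subgroup.normalizer (S : Set G)
      · exact Or.inl hK
      · right
        obtain ⟨x, hxK, hxN⟩ := SetLike.not_le_iff_exists.mp hK
        refine ⟨x, hxK, fun h => hxN (mem_normalizer_iff_conj_smul.mpr h), ?_⟩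
        have hSM : S ≤ M := RSn.le ‹_›
        calc MulAut.conj x • S ≤ MulAut.conj x • M :=
              Subgroup.pointwise_smul_le_pointwise_smul_iff.mpr hSM
          _ = M := mem_normalizer_iff_conj_smul.mp (hKN hxK)
          _ ≤ _ := hMN
    · exact Or.inr ⟨x, hMK hxM, h1, h2⟩

/-- `M` is a maximal subgroup of `K`. -/
def MaxIn (M K : Subgroup G) : Prop := M < K ∧ ∀ L, M < L → L ≤ K → L = K

theorem exists_maxIn [Finite G] {H K : Subgroup G} (h : H < K) : ∃ M, H ≤ M ∧ MaxIn M K := by
  obtain ⟨M, hHM, hM⟩ := exists_maximal_ge_of_wellFoundedGT (fun L : Subgroup G => L < K) H h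
  refine ⟨M, hHM, hM.prop, ?_⟩
  intro L hML hLK
  by_contra hne
  exact absurd (hM.le_of_ge (lt_of_le_of_ne hLK hne) hML.le) (not_le_of_gt hML)

theorem MaxIn.eq_of_le {M1 M2 K : Subgroup G} (h1 : MaxIn M1 K) (h2 : MaxIn M2 K)
    (h : M1 ≤ M2) : M1 = M2 := by
  by_contra hne
  exact h2.1.ne (h1.2 M2 (lt_of_le_of_ne h hne) h2.1.le)

theorem conj_smul_le_of_mem {A K : Subgroup G} (hAK : A ≤ K) {x : G} (hx : x ∈ K) :
    MulAut.conj x • A ≤ K :=
  Subgroup.conj_smul_le_of_le hAK ⟨x, hx⟩

/-- Wielandt's zipper lemma (Isaacs 2.9), relative to a subgroup `K`. -/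
theorem zipper [Finite G] (K : Subgroup G) : ∀ (d : ℕ) (S : Subgroup G),
    Nat.card K - Nat.card S = d → S ≤ K → ¬ RSn S K → (∀ H, S ≤ H → H < K → RSn S H) →
    ∀ M1 M2, MaxIn M1 K → MaxIn M2 K → S ≤ M1 → S ≤ M2 → M1 = M2 := by
  intro d
  induction d using Nat.strong_induction_on with
  | _ d ih =>
    intro S hd hSK hnot hyp
    have hKN : ¬ K ≤ Subgroup.normalizer (S : Set G) := fun h => hnot (RSn.single hSK h)
    have hNK : Subgroup.normalizer (S : Set G) ⊓ K < K := by
      refine lt_of_le_of_ne inf_le_right ?_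
      intro h
      exact hKN (h ▸ inf_le_left)
    obtain ⟨M, hNM, hM⟩ := exists_maxIn hNK
    have key : ∀ K1, MaxIn K1 K → S ≤ K1 → K1 = M := by
      intro K1 hK1 hSK1
      have hS1 : RSn S K1 := hyp K1 hSK1 hK1.1
      rcases hS1.exists_conj_le_normalizer with h | ⟨x, hxK1, hne, hle⟩
      · exact hK1.eq_of_le hM ((le_inf h hK1.1.le).trans hNM)
      · have hxK : x ∈ K := hK1.1.le hxK1
        have hxS1 : MulAut.conj x • S ≤ K1 := conj_smul_le_of_mem hSK1 hxK1
        have hTK1 : S ⊔ MulAut.conj x • S ≤ K1 := sup_le hSK1 hxS1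
        have hTM : S ⊔ MulAut.conj x • S ≤ M := by
          apply sup_le
          · exact (le_inf Subgroup.le_normalizer hSK).trans hNM
          · exact (le_inf hle (conj_smul_le_of_mem hSK hxK)).trans hNM
        have hST : S < S ⊔ MulAut.conj x • S := by
          refine lt_of_le_of_ne le_sup_left ?_
          intro h
          apply hne
          have h1 : MulAut.conj x • S ≤ S := by
            calc MulAut.conj x • S ≤ S ⊔ MulAut.conj x • S := le_sup_right
              _ = S := h.symm
          exact Subgroup.eq_of_le_of_card_ge h1 (by rw [card_conj_smul])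
        have hTK : S ⊔ MulAut.conj x • S < K := lt_of_le_of_lt hTK1 hK1.1
        have hT1 : ¬ RSn (S ⊔ MulAut.conj x • S) K := by
          intro hT
          exact hnot ((hyp _ le_sup_left hTK).trans hT)
        have hT2 : ∀ H, S ⊔ MulAut.conj x • S ≤ H → H < K → RSn (S ⊔ MulAut.conj x • S) H := by
          intro H hTH hHK
          apply RSn.sup
          · exact hyp H (le_sup_left.trans hTH) hHK
          · have hxinv : x⁻¹ ∈ K := K.inv_mem hxK
            have h1 : S ≤ MulAut.conj x⁻¹ • H := by
              have : MulAut.conj x • S ≤ H := le_sup_right.trans hTH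
              have h2 := Subgroup.pointwise_smul_le_pointwise_smul_iff (a := MulAut.conj x⁻¹) |>.mpr this
              rwa [conj_smul_conj_smul, inv_mul_cancel, map_one, one_smul] at h2
            have h2 : MulAut.conj x⁻¹ • H < K := by
              have h3 : MulAut.conj x⁻¹ • H ≤ K := conj_smul_le_of_mem hHK.le hxinv
              refine lt_of_le_of_ne h3 ?_
              intro h4
              apply hHK.ne
              have h5 : MulAut.conj x • (MulAut.conj x⁻¹ • H) = MulAut.conj x • K := by rw [h4]
              rw [conj_smul_conj_smul, mul_inv_cancel, map_one, one_smul,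
                Subgroup.conj_smul_eq_self_of_mem hxK] at h5
              exact h5
            have h3 := (hyp _ h1 h2).conj x
            rwa [conj_smul_conj_smul, mul_inv_cancel, map_one, one_smul] at h3
        have hcard : Nat.card K - Nat.card (S ⊔ MulAut.conj x • S : Subgroup G) < d := by
          have h1 := card_lt_of_lt hST
          have h2 := card_lt_of_lt hTK
          omega
        exact ih _ hcard _ rfl hTK.le hT1 hT2 K1 M hK1 hM hTK1 hTM
    intro M1 M2 hM1 hM2 hS1 hS2
    rw [key M1 hM1 hS1, key M2 hM2 hS2]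

/-- Wielandt's subnormality criterion (Isaacs 2.12), relative to a subgroup `K`. -/
theorem wielandt_criterion [Finite G] : ∀ (n : ℕ) (K A : Subgroup G), Nat.card K = n → A ≤ K →
    (∀ x ∈ K, RSn A (A ⊔ MulAut.conj x • A)) → RSn A K := by
  intro n
  induction n using Nat.strong_induction_on with
  | _ n ih =>
    intro K A hn hAK hAx
    by_contra hnot
    have hyp : ∀ H, A ≤ H → H < K → RSn A H := by
      intro H hAH hHK
      exact ih _ (hn ▸ card_lt_of_lt hHK) H A rfl hAH (fun x hx => hAx x (hHK.le hx))
    have hAK' : A < K := by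
      refine lt_of_le_of_ne hAK ?_
      rintro rfl
      exact hnot (RSn.refl _)
    obtain ⟨M, hAM, hM⟩ := exists_maxIn hAK'
    have hconj : ∀ x ∈ K, MulAut.conj x • A ≤ M := by
      intro x hx
      have hLK : A ⊔ MulAut.conj x • A ≤ K := sup_le hAK (conj_smul_le_of_mem hAK hx)
      have hLne : A ⊔ MulAut.conj x • A ≠ K := by
        intro h
        exact hnot (h ▸ hAx x hx)
      obtain ⟨M', hLM', hM'⟩ := exists_maxIn (lt_of_le_of_ne hLK hLne)
      have := zipper K _ A rfl hAK hnot hyp M' M hM' hM (le_sup_left.trans hLM') hAM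
      exact this ▸ (le_sup_right.trans hLM')
    set C : Subgroup G := ⨆ x : K, MulAut.conj (x : G) • A with hC
    have hAC : A ≤ C := by
      have := le_iSup (fun x : K => MulAut.conj (x : G) • A) 1
      simpa using this
    have hCM : C ≤ M := iSup_le fun x => hconj x x.2
    have hCK : C < K := lt_of_le_of_lt hCM hM.1
    have hsmul : ∀ k ∈ K, MulAut.conj k • C ≤ C := by
      intro k hk
      rw [Subgroup.pointwise_smul_subset_iff, hC]
      apply iSup_le
      intro x
      rw [← Subgroup.pointwise_smul_subset_iff, conj_smul_conj_smul]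
      exact le_iSup (fun x : K => MulAut.conj (x : G) • A) ⟨k * x, K.mul_mem hk x.2⟩
    have hKC : K ≤ Subgroup.normalizer (C : Set G) := by
      rw [le_normalizer_iff_conj_smul]
      intro k hk
      apply le_antisymm (hsmul k hk)
      have h1 := hsmul k⁻¹ (K.inv_mem hk)
      have h2 := Subgroup.pointwise_smul_le_pointwise_smul_iff (a := MulAut.conj k) |>.mpr h1
      rwa [conj_smul_conj_smul, mul_inv_cancel, map_one, one_smul] at h2
    exact hnot ((hyp C hAC hCK).trans (RSn.single hCK.le hKC))

end Cfsg.Agent.Lib.Helper02
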